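import Mathlib.Data.Nat.ModEq
import Mathlib.NumberTheory.Divisors
import Mathlib.Tactic

/-!
# Congruences between sums of two powers of two modulo a large divisor of `2ⁿ - 1`
-/

set_option autoImplicit false

namespace CfsgLib.TransInvol

/-- `m` is a divisor of `2ⁿ - 1` with cofactor dividing `n`. -/
def BigDiv (n m : ℕ) : Prop := 2 ≤ n ∧ ∃ d, d ∣ n ∧ m * d = 2 ^ n - 1

theorem cases_small {n m : ℕ} (h : BigDiv n m) :
    2 ^ (3 * n / 4 + 1) ≤ m ∨ (n, m) ∈ [(2, 3), (3, 7), (4, 15), (6, 63), (6, 21)] := by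
  obtain ⟨hn, d, hd, hm⟩ := h
  have hd0 : 0 < d := Nat.pos_of_dvd_of_pos hd (by omega)
  have hdn : d ≤ n := Nat.le_of_dvd (by omega) hd
  by_cases h24 : 24 ≤ n
  · left
    by_contra hlt
    push Not at hlt
    have h1 : m + 1 ≤ 2 ^ (3 * n / 4 + 1) := hlt
    have h2 : 2 ^ n - 1 + d ≤ n * 2 ^ (3 * n / 4 + 1) := by
      rw [← hm, ← Nat.succ_mul, mul_comm n]
      exact Nat.mul_le_mul h1 hdn
    have h3 : n * 2 ^ (3 * n / 4 + 1) < 2 ^ n := by
      have e : 2 ^ n = 2 ^ (n - (3 * n / 4 + 1)) * 2 ^ (3 * n / 4 + 1) := by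
        rw [← pow_add]; congr 1; omega
      rw [e]
      refine Nat.mul_lt_mul_of_pos_right ?_ (by positivity)
      obtain ⟨k, hk⟩ : ∃ k, n - (3 * n / 4 + 1) = k + 5 := ⟨n - (3 * n / 4 + 1) - 5, by omega⟩
      rw [hk, pow_add]
      have hk2 : k + 1 ≤ 2 ^ k := Nat.lt_two_pow_self
      omega
    omega
  · have key : ∀ n ∈ List.range 24, ∀ d ∈ List.range (n + 1),
        n < 2 ∨ d = 0 ∨ n % d ≠ 0 ∨ (2 ^ n - 1) % d ≠ 0 ∨
        2 ^ (3 * n / 4 + 1) ≤ (2 ^ n - 1) / d ∨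
          (n, (2 ^ n - 1) / d) ∈ [(2, 3), (3, 7), (4, 15), (6, 63), (6, 21)] := by
      decide +kernel
    have e : (2 ^ n - 1) / d = m := by rw [← hm, Nat.mul_div_cancel _ hd0]
    have h := key n (List.mem_range.2 (by omega)) d (List.mem_range.2 (by omega))
    have h1 : n % d = 0 := Nat.mod_eq_zero_of_dvd hd
    have h2 : (2 ^ n - 1) % d = 0 := by rw [← hm]; exact Nat.mul_mod_left m d
    rcases h with h | h | h | h | h
    · omega
    · omega
    · exact absurd h1 h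
    · exact absurd h2 h
    · rwa [e] at h

theorem eq_pairs_aux {A B C D : ℕ} (h : 2 ^ A + 2 ^ B = 2 ^ C + 2 ^ D) (hAB : A ≤ B)
    (hCD : C ≤ D) : A = C ∧ B = D := by
  have hBD : B = D := by
    rcases lt_trichotomy B D with h1 | h1 | h1
    · exfalso
      have h2 : 2 ^ (B + 1) ≤ 2 ^ D := Nat.pow_le_pow_right (by norm_num) h1
      have h3 : 2 ^ A ≤ 2 ^ B := Nat.pow_le_pow_right (by norm_num) hAB
      have h4 := Nat.one_le_two_pow (n := C)
      rw [pow_succ] at h2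
      omega
    · exact h1
    · exfalso
      have h2 : 2 ^ (D + 1) ≤ 2 ^ B := Nat.pow_le_pow_right (by norm_num) h1
      have h3 : 2 ^ C ≤ 2 ^ D := Nat.pow_le_pow_right (by norm_num) hCD
      have h4 := Nat.one_le_two_pow (n := A)
      rw [pow_succ] at h2
      omega
  rw [hBD] at h
  exact ⟨Nat.pow_right_injective le_rfl (Nat.add_right_cancel h), hBD⟩

theorem eq_pairs {A B C D : ℕ} (h : 2 ^ A + 2 ^ B = 2 ^ C + 2 ^ D) :
    (A = C ∧ B = D) ∨ (A = D ∧ B = C) := by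
  rcases le_total A B with hAB | hAB <;> rcases le_total C D with hCD | hCD
  · exact Or.inl (eq_pairs_aux h hAB hCD)
  · exact Or.inr (eq_pairs_aux (h.trans (add_comm _ _)) hAB hCD)
  · exact Or.inr (eq_pairs_aux ((add_comm _ _).trans h) hAB hCD).symm
  · exact Or.inl (eq_pairs_aux ((add_comm _ _).trans (h.trans (add_comm _ _))) hAB hCD).symm

theorem exists_shift {n : ℕ} (hn : 2 ≤ n) (a b c : ℕ) :
    ∃ t < n, t ≤ 3 * n / 4 ∧ (a + t) % n ≤ 3 * n / 4 ∧ (b + t) % n ≤ 3 * n / 4 ∧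
      (c + t) % n ≤ 3 * n / 4 := by
  classical
  by_contra hcon
  push Not at hcon
  set f := 3 * n / 4
  have hcov : Finset.range n ⊆ ({0, a, b, c} : Finset ℕ).biUnion
      (fun x => (Finset.range n).filter (fun t => f < (x + t) % n)) := by
    intro t ht
    have htn := Finset.mem_range.1 ht
    simp only [Finset.mem_biUnion, Finset.mem_filter, Finset.mem_insert, Finset.mem_singleton]
    by_cases h0 : f < t
    · exact ⟨0, Or.inl rfl, ht, by rw [zero_add, Nat.mod_eq_of_lt htn]; exact h0⟩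
    by_cases ha : f < (a + t) % n
    · exact ⟨a, Or.inr (Or.inl rfl), ht, ha⟩
    by_cases hb : f < (b + t) % n
    · exact ⟨b, Or.inr (Or.inr (Or.inl rfl)), ht, hb⟩
    exact ⟨c, Or.inr (Or.inr (Or.inr rfl)), ht,
      hcon t htn (not_lt.1 h0) (not_lt.1 ha) (not_lt.1 hb)⟩
  have hone : ∀ x : ℕ, ((Finset.range n).filter (fun t => f < (x + t) % n)).card ≤ n - 1 - f := by
    intro x
    refine (Finset.card_le_card_of_injOn (fun t => (x + t) % n) (t := Finset.Ioc f (n - 1)) ?_ ?_).trans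
      (by rw [Nat.card_Ioc])
    · intro t ht
      have ht' := Finset.mem_filter.1 (Finset.mem_coe.1 ht)
      have := Nat.mod_lt (x + t) (show n > 0 by omega)
      exact Finset.mem_coe.2 (Finset.mem_Ioc.2 ⟨ht'.2, show (x + t) % n ≤ n - 1 by omega⟩)
    · intro t ht s hs e
      have ht' := Finset.mem_range.1 (Finset.mem_filter.1 (Finset.mem_coe.1 ht)).1
      have hs' := Finset.mem_range.1 (Finset.mem_filter.1 (Finset.mem_coe.1 hs)).1
      have e2 : t ≡ s [MOD n] := Nat.ModEq.add_left_cancel' x e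
      exact e2.eq_of_lt_of_lt ht' hs'
  have h4 : ({0, a, b, c} : Finset ℕ).card ≤ 4 := by
    refine (Finset.card_insert_le _ _).trans (Nat.succ_le_succ ?_)
    refine (Finset.card_insert_le _ _).trans (Nat.succ_le_succ ?_)
    exact (Finset.card_insert_le _ _).trans (by simp)
  have h5 := (Finset.card_le_card hcov).trans
    (Finset.card_biUnion_le_card_mul _ _ (n - 1 - f) fun x _ => hone x)
  rw [Finset.card_range] at h5
  have h6 : ({0, a, b, c} : Finset ℕ).card * (n - 1 - f) ≤ 4 * (n - 1 - f) :=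
    Nat.mul_le_mul_right _ h4
  omega

theorem two_pow_modEq {n m : ℕ} (h : BigDiv n m) (k : ℕ) : 2 ^ k ≡ 2 ^ (k % n) [MOD m] := by
  obtain ⟨-, d, -, hm⟩ := h
  have h1 : 2 ^ n ≡ 1 [MOD m] :=
    ((Nat.modEq_iff_dvd' Nat.one_le_two_pow).2 ⟨d, hm.symm⟩).symm
  calc 2 ^ k = (2 ^ n) ^ (k / n) * 2 ^ (k % n) := by
        rw [← pow_mul, ← pow_add, Nat.div_add_mod]
    _ ≡ 1 ^ (k / n) * 2 ^ (k % n) [MOD m] := (h1.pow _).mul_right _
    _ = 2 ^ (k % n) := by rw [one_pow, one_mul]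

theorem eq_of_modEq_of_le {n m : ℕ} {A B C D : ℕ} (hf : 2 ^ (3 * n / 4 + 1) ≤ m)
    (hA : A ≤ 3 * n / 4) (hB : B ≤ 3 * n / 4) (hC : C ≤ 3 * n / 4) (hD : D ≤ 3 * n / 4)
    (h : 2 ^ A + 2 ^ B ≡ 2 ^ C + 2 ^ D [MOD m]) : 2 ^ A + 2 ^ B = 2 ^ C + 2 ^ D := by
  have hb : ∀ X, X ≤ 3 * n / 4 → 2 ^ X ≤ 2 ^ (3 * n / 4) := fun X hX =>
    Nat.pow_le_pow_right (by norm_num) hX
  have hA' := hb A hA; have hB' := hb B hB; have hC' := hb C hC; have hD' := hb D hD
  have hA1 := Nat.one_le_two_pow (n := A); have hB1 := Nat.one_le_two_pow (n := B)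
  have hC1 := Nat.one_le_two_pow (n := C); have hD1 := Nat.one_le_two_pow (n := D)
  rw [pow_succ] at hf
  rcases le_total (2 ^ A + 2 ^ B) (2 ^ C + 2 ^ D) with hle | hle
  · have hd := (Nat.modEq_iff_dvd' hle).1 h
    rcases Nat.eq_zero_or_pos (2 ^ C + 2 ^ D - (2 ^ A + 2 ^ B)) with h0 | h0
    · omega
    · have := Nat.le_of_dvd h0 hd; omega
  · have hd := (Nat.modEq_iff_dvd' hle).1 h.symm
    rcases Nat.eq_zero_or_pos (2 ^ A + 2 ^ B - (2 ^ C + 2 ^ D)) with h0 | h0
    · omega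
    · have := Nat.le_of_dvd h0 hd; omega

/-- If `1 + 2ᵃ ≡ 2ᵇ + 2ᶜ`, then `a ≡ b + c`. -/
theorem add_modEq_of_pow {n m : ℕ} (h : BigDiv n m) {a b c : ℕ}
    (he : 1 + 2 ^ a ≡ 2 ^ b + 2 ^ c [MOD m]) : a ≡ b + c [MOD n] := by
  have hn : 2 ≤ n := h.1
  have he' : 1 + 2 ^ (a % n) ≡ 2 ^ (b % n) + 2 ^ (c % n) [MOD m] :=
    (((two_pow_modEq h a).symm).add_left 1).trans
      (he.trans ((two_pow_modEq h b).add (two_pow_modEq h c)))
  suffices h' : a % n ≡ b % n + c % n [MOD n] from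
    ((Nat.mod_modEq a n).symm.trans h').trans ((Nat.mod_modEq b n).add (Nat.mod_modEq c n))
  have ha : a % n < n := Nat.mod_lt _ (by omega)
  have hb : b % n < n := Nat.mod_lt _ (by omega)
  have hc : c % n < n := Nat.mod_lt _ (by omega)
  revert he' ha hb hc
  generalize a % n = x
  generalize b % n = y
  generalize c % n = z
  intro he' hx hy hz
  rcases cases_small h with hf | hs
  · obtain ⟨t, htn, ht0, htx, hty, htz⟩ := exists_shift hn x y z
    have e : 2 ^ t + 2 ^ ((x + t) % n) ≡ 2 ^ ((y + t) % n) + 2 ^ ((z + t) % n) [MOD m] := by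
      have e1 := he'.mul_right (2 ^ t)
      rw [add_mul, add_mul, one_mul, ← pow_add, ← pow_add, ← pow_add] at e1
      exact (((two_pow_modEq h (x + t)).symm).add_left _).trans
        (e1.trans ((two_pow_modEq h (y + t)).add (two_pow_modEq h (z + t))))
    rcases eq_pairs (eq_of_modEq_of_le hf ht0 htx hty htz e) with ⟨h1, h2⟩ | ⟨h1, h2⟩
    · have hy0 : y = 0 := by
        have e2 : y + t ≡ 0 + t [MOD n] := by
          rw [zero_add, Nat.ModEq, ← h1, Nat.mod_eq_of_lt htn]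
        exact (Nat.ModEq.add_right_cancel' t e2).eq_of_lt_of_lt hy (by omega)
      have hxz : x ≡ z [MOD n] := Nat.ModEq.add_right_cancel' t h2
      rw [hy0, zero_add]
      exact hxz
    · have hz0 : z = 0 := by
        have e2 : z + t ≡ 0 + t [MOD n] := by
          rw [zero_add, Nat.ModEq, ← h1, Nat.mod_eq_of_lt htn]
        exact (Nat.ModEq.add_right_cancel' t e2).eq_of_lt_of_lt hz (by omega)
      have hxy : x ≡ y [MOD n] := Nat.ModEq.add_right_cancel' t h2
      rw [hz0, add_zero]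
      exact hxy
  · have key : ∀ p ∈ [(2, 3), (3, 7), (4, 15), (6, 63), (6, 21)], ∀ x < (p : ℕ × ℕ).1, ∀ y < p.1,
        ∀ z < p.1, (1 + 2 ^ x) % p.2 = (2 ^ y + 2 ^ z) % p.2 → x % p.1 = (y + z) % p.1 := by
      decide +kernel
    exact key (n, m) hs x hx y hy z hz he'

/-- If `2ⁱ + 2ʲ ≡ 1`, then `i ≡ j`. -/
theorem eq_of_pow_add_pow {n m : ℕ} (h : BigDiv n m) {i j : ℕ}
    (he : 2 ^ i + 2 ^ j ≡ 1 [MOD m]) : i ≡ j [MOD n] := by
  have hn : 2 ≤ n := h.1
  have he' : 2 ^ (i % n) + 2 ^ (j % n) ≡ 1 [MOD m] :=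
    ((two_pow_modEq h i).symm.add (two_pow_modEq h j).symm).trans he
  suffices h' : i % n = j % n from h'
  have hi : i % n < n := Nat.mod_lt _ (by omega)
  have hj : j % n < n := Nat.mod_lt _ (by omega)
  revert he' hi hj
  generalize i % n = x
  generalize j % n = y
  intro he' hx hy
  rcases cases_small h with hf | hs
  · obtain ⟨t, htn, ht0, htx, hty, -⟩ := exists_shift hn x y 0
    have e : 2 ^ ((x + t) % n) + 2 ^ ((y + t) % n) ≡ 2 ^ t [MOD m] := by
      have e1 := he'.mul_right (2 ^ t)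
      rw [add_mul, one_mul, ← pow_add, ← pow_add] at e1
      exact ((two_pow_modEq h (x + t)).symm.add (two_pow_modEq h (y + t)).symm).trans e1
    set A := (x + t) % n with hA
    set B := (y + t) % n with hB
    suffices hAB : A = B from (Nat.ModEq.add_right_cancel' t hAB).eq_of_lt_of_lt hx hy
    have hA' : 2 ^ A ≤ 2 ^ (3 * n / 4) := Nat.pow_le_pow_right (by norm_num) htx
    have hB' : 2 ^ B ≤ 2 ^ (3 * n / 4) := Nat.pow_le_pow_right (by norm_num) hty
    have ht' : 2 ^ t ≤ 2 ^ (3 * n / 4) := Nat.pow_le_pow_right (by norm_num) ht0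
    have hA1 := Nat.one_le_two_pow (n := A); have hB1 := Nat.one_le_two_pow (n := B)
    have ht1 := Nat.one_le_two_pow (n := t)
    have heq : 2 ^ A + 2 ^ B = 2 ^ t := by
      rw [pow_succ] at hf
      rcases le_total (2 ^ A + 2 ^ B) (2 ^ t) with hle | hle
      · have hd := (Nat.modEq_iff_dvd' hle).1 e
        rcases Nat.eq_zero_or_pos (2 ^ t - (2 ^ A + 2 ^ B)) with h0 | h0
        · omega
        · have := Nat.le_of_dvd h0 hd; omega
      · have hd := (Nat.modEq_iff_dvd' hle).1 e.symm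
        rcases Nat.eq_zero_or_pos (2 ^ A + 2 ^ B - 2 ^ t) with h0 | h0
        · omega
        · have := Nat.le_of_dvd h0 hd; omega
    rcases lt_trichotomy A B with h1 | h1 | h1
    · exfalso
      have hBt : B < t := by
        by_contra hc
        have := Nat.pow_le_pow_right (show 2 > 0 by norm_num) (not_lt.1 hc)
        omega
      have h2 : 2 ^ (B + 1) ≤ 2 ^ t := Nat.pow_le_pow_right (by norm_num) hBt
      have h3 : 2 ^ (A + 1) ≤ 2 ^ B := Nat.pow_le_pow_right (by norm_num) h1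
      rw [pow_succ] at h2 h3
      omega
    · exact h1
    · exfalso
      have hAt : A < t := by
        by_contra hc
        have := Nat.pow_le_pow_right (show 2 > 0 by norm_num) (not_lt.1 hc)
        omega
      have h2 : 2 ^ (A + 1) ≤ 2 ^ t := Nat.pow_le_pow_right (by norm_num) hAt
      have h3 : 2 ^ (B + 1) ≤ 2 ^ A := Nat.pow_le_pow_right (by norm_num) h1
      rw [pow_succ] at h2 h3
      omega
  · have key : ∀ p ∈ [(2, 3), (3, 7), (4, 15), (6, 63), (6, 21)], ∀ x < (p : ℕ × ℕ).1, ∀ y < p.1,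
        (2 ^ x + 2 ^ y) % p.2 = 1 % p.2 → x = y := by
      decide +kernel
    exact key (n, m) hs x hx y hy he'

end CfsgLib.TransInvol
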