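import Mathlib
import Cfsg.Agent.Lib.PGroup.TransInvol.Exponents

/-!
# Additive maps of a field with `2ⁿ` elements and a multiplier of big order
-/

set_option autoImplicit false

open Polynomial

namespace CfsgLib.TransInvol

variable {F : Type*} [Field F] [Finite F] [CharP F 2]

/-- The additive map `x ↦ c x ^ (2 ^ i)`. -/
def mono (c : F) (i : ℕ) : F →+ F :=
  (AddMonoidHom.mulLeft c).comp (iterateFrobenius F 2 i).toAddMonoidHom

omit [Finite F] in
@[simp] theorem mono_apply (c : F) (i : ℕ) (x : F) : mono c i x = c * x ^ (2 ^ i) := rfl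

/-- The sum of the maps `mono (a i) i`. -/
def comb (n : ℕ) : (Fin n → F) →+ (F →+ F) where
  toFun a := ∑ i, mono (a i) (i : ℕ)
  map_zero' := by ext x; simp
  map_add' a b := by ext x; simp [AddMonoidHom.finsetSum_apply, add_mul, Finset.sum_add_distrib]

omit [Finite F] in
theorem comb_apply {n : ℕ} (a : Fin n → F) (x : F) : comb n a x = ∑ i, a i * x ^ (2 ^ (i : ℕ)) := by
  simp [comb, AddMonoidHom.finsetSum_apply]

section

variable {n : ℕ} (hcard : Nat.card F = 2 ^ n)
include hcard

theorem pow_two_pow_card (x : F) : x ^ (2 ^ n) = x := by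
  haveI := Fintype.ofFinite F
  rw [← hcard, Nat.card_eq_fintype_card]
  exact FiniteField.pow_card x

theorem pow_two_pow_mod (x : F) (i : ℕ) : x ^ (2 ^ i) = x ^ (2 ^ (i % n)) := by
  have key : ∀ k, x ^ (2 ^ (n * k)) = x := by
    intro k
    induction k with
    | zero => simp
    | succ k ih => rw [Nat.mul_succ, pow_add, pow_mul, ih, pow_two_pow_card hcard]
  conv_lhs => rw [← Nat.div_add_mod i n, pow_add, pow_mul, key]

theorem mono_mod (c : F) (i : ℕ) : mono c i = mono c (i % n) := by
  ext x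
  rw [mono_apply, mono_apply, ← pow_two_pow_mod hcard]

theorem finrank_eq [Algebra (ZMod 2) F] : Module.finrank (ZMod 2) F = n := by
  haveI : Module.Finite (ZMod 2) F := Module.Finite.of_finite
  have h := Module.natCard_eq_pow_finrank (K := ZMod 2) (V := F)
  rw [hcard, Nat.card_zmod] at h
  exact (Nat.pow_right_injective le_rfl h).symm

theorem exists_eq_pow_of_algEquiv [Algebra (ZMod 2) F] (σ : F ≃ₐ[ZMod 2] F) :
    ∃ s < n, ∀ x, σ x = x ^ (2 ^ s) := by
  obtain ⟨⟨s, hs⟩, rfl⟩ := (FiniteField.bijective_frobeniusAlgEquivOfAlgebraic_pow (ZMod 2) F).2 σ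
  refine ⟨s, finrank_eq hcard ▸ hs, fun x => ?_⟩
  simp only [AlgEquiv.coe_pow, FiniteField.coe_frobeniusAlgEquivOfAlgebraic_iterate, ZMod.card]

theorem card_ringEquiv_le : Nat.card (F ≃+* F) = n := by
  letI := ZMod.algebra F 2
  haveI : Module.Finite (ZMod 2) F := Module.Finite.of_finite
  have e : (F ≃+* F) ≃ (F ≃ₐ[ZMod 2] F) :=
    { toFun := fun σ => { σ with
        commutes' := fun r => RingHom.congr_fun
          (Subsingleton.elim ((σ : F →+* F).comp (algebraMap (ZMod 2) F)) (algebraMap (ZMod 2) F)) r }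
      invFun := fun σ => σ.toRingEquiv
      left_inv := fun _ => RingEquiv.ext fun _ => rfl
      right_inv := fun _ => AlgEquiv.ext fun _ => rfl }
  rw [Nat.card_congr e, IsGalois.card_aut_eq_finrank, finrank_eq hcard]

theorem comb_injective : Function.Injective (comb (F := F) n) := by
  classical
  rw [injective_iff_map_eq_zero]
  intro a ha
  have hinj : Function.Injective (fun i : Fin n => powMonoidHom (α := F) (2 ^ (i : ℕ))) := by
    intro i j hij
    obtain ⟨g, hg⟩ := IsCyclic.exists_ofOrder_eq_natCard (α := Fˣ)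
    have h1 : g ^ (2 ^ (i : ℕ)) = g ^ (2 ^ (j : ℕ)) :=
      Units.ext (by simpa using DFunLike.congr_fun hij (g : F))
    rw [pow_eq_pow_iff_modEq, hg, Nat.card_units, hcard] at h1
    by_cases hn : n ≤ 1
    · exact Fin.ext (by have := i.2; have := j.2; omega)
    have hb : ∀ k : Fin n, 2 ^ (k : ℕ) < 2 ^ n - 1 := by
      intro k
      have := Nat.pow_le_pow_right (show 2 > 0 by norm_num) (show (k : ℕ) + 1 ≤ n from k.2)
      have h2 : 2 ^ 2 ≤ 2 ^ n := Nat.pow_le_pow_right (by norm_num) (by omega)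
      have := Nat.one_le_two_pow (n := (k : ℕ))
      rw [pow_succ] at *
      omega
    exact Fin.ext (Nat.pow_right_injective le_rfl (h1.eq_of_lt_of_lt (hb i) (hb j)))
  have hli := (linearIndependent_monoidHom F F).comp _ hinj
  rw [Fintype.linearIndependent_iff] at hli
  refine funext (hli a ?_)
  ext x
  have := DFunLike.congr_fun ha x
  rw [comb_apply] at this
  simpa using this

theorem comb_bijective : Function.Bijective (comb (F := F) n) := by
  letI := ZMod.algebra F 2
  haveI : Module.Finite (ZMod 2) F := Module.Finite.of_finite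
  have b : Module.Basis (Fin n) (ZMod 2) F := Module.finBasisOfFinrankEq _ _ (finrank_eq hcard)
  have hinj : Function.Injective (fun f : F →+ F => fun i => f (b i)) := by
    intro f g h
    have : f.toZModLinearMap 2 = g.toZModLinearMap 2 := b.ext fun i => congrFun h i
    exact AddMonoidHom.ext fun x => LinearMap.congr_fun this x
  haveI : Finite (F →+ F) := Finite.of_injective _ hinj
  exact (comb_injective hcard).bijective_of_nat_card_le (Nat.card_le_card_of_injective _ hinj)

theorem exists_comb (f : F →+ F) : ∃ a : Fin n → F, comb n a = f := (comb_bijective hcard).2 f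

theorem square_surjective (x : F) : ∃ u : F, u ^ 2 = x :=
  Finite.surjective_of_injective (f := fun u : F => u ^ 2) (frobenius_inj F 2) x

variable (lam : Fˣ) (hbig : BigDiv n (orderOf lam))
include hbig

omit [CharP F 2] [Finite F] hcard hbig in
theorem modEq_of_pow_eq {A B : ℕ} (h : (lam : F) ^ A = (lam : F) ^ B) : A ≡ B [MOD orderOf lam] :=
  pow_eq_pow_iff_modEq.1 (Units.ext (by simpa using h))

omit [CharP F 2] [Finite F] hcard in
theorem eq_of_two_pow {i j : ℕ} (h : (lam : F) ^ (2 ^ i) = (lam : F) ^ (2 ^ j)) :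
    i ≡ j [MOD n] := by
  have hn : 2 ≤ n := hbig.1
  have h1 : 2 ^ (i + (n - 1) * j) ≡ 2 ^ (n * j) [MOD orderOf lam] := by
    have h2 := (modEq_of_pow_eq lam h).mul_right (2 ^ ((n - 1) * j))
    rw [← pow_add, ← pow_add] at h2
    have e : j + (n - 1) * j = n * j := by
      obtain ⟨k, rfl⟩ : ∃ k, n = k + 1 := ⟨n - 1, by omega⟩
      simp [add_mul, add_comm]
    rwa [e] at h2
  have h3 : 2 ^ (n * j) ≡ 1 [MOD orderOf lam] := by
    have := two_pow_modEq hbig (n * j)
    rwa [Nat.mul_mod_right, pow_zero] at this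
  have h4 := add_modEq_of_pow hbig (a := i + (n - 1) * j) (b := 0) (c := 0)
    (by simpa using (h1.trans h3).add_left 1)
  have h5 : i + (n - 1) * j + j ≡ 0 + 0 + j [MOD n] := h4.add_right j
  have e : i + (n - 1) * j + j = i + n * j := by
    obtain ⟨k, rfl⟩ : ∃ k, n = k + 1 := ⟨n - 1, by omega⟩
    simp only [Nat.add_sub_cancel, Nat.succ_mul]
    ring
  rw [e, zero_add, zero_add] at h5
  have h6 : i + n * j ≡ i [MOD n] := by
    show (i + n * j) % n = i % n
    rw [Nat.add_mul_mod_self_left]
  exact h6.symm.trans h5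

omit [Finite F] hcard in
theorem mono_inj {c d : F} {i j : ℕ} (hc : c ≠ 0) (h : mono c i = mono d j) :
    c = d ∧ i ≡ j [MOD n] := by
  have h1 : c = d := by simpa using DFunLike.congr_fun h 1
  refine ⟨h1, eq_of_two_pow lam hbig ?_⟩
  have h2 := DFunLike.congr_fun h (lam : F)
  rw [mono_apply, mono_apply, ← h1] at h2
  exact mul_left_cancel₀ hc h2

omit [Finite F] hcard in
theorem exists_pow_ne {k : ℕ} (hk : ¬ k ≡ 0 [MOD n]) : (lam : F) ^ (2 ^ k) ≠ lam := fun h =>
  hk (eq_of_two_pow lam hbig (by simpa using h))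

/-- An additive subgroup invariant under the multiplier is trivial. -/
theorem eq_top_of_invariant (S : AddSubgroup F) (hS : ∀ x ∈ S, (lam : F) * x ∈ S) {s : F}
    (hs : s ∈ S) (hs0 : s ≠ 0) : S = ⊤ := by
  letI := ZMod.algebra F 2
  haveI : Module.Finite (ZMod 2) F := Module.Finite.of_finite
  haveI := Fintype.ofFinite F
  have hn : 2 ≤ n := hbig.1
  have hint : IsIntegral (ZMod 2) (lam : F) := IsIntegral.of_finite _ _
  have hdeg : n ≤ (minpoly (ZMod 2) (lam : F)).natDegree := by
    set p := minpoly (ZMod 2) (lam : F) with hp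
    have hroot : ∀ k : ℕ, aeval ((lam : F) ^ (2 ^ k)) p = 0 := by
      intro k
      have h1 : (lam : F) ^ (2 ^ k) =
          ((FiniteField.frobeniusAlgEquivOfAlgebraic (ZMod 2) F) ^ k) (lam : F) := by
        simp only [AlgEquiv.coe_pow, FiniteField.coe_frobeniusAlgEquivOfAlgebraic_iterate,
          ZMod.card]
      rw [h1]
      exact (aeval_algHom_apply ((FiniteField.frobeniusAlgEquivOfAlgebraic (ZMod 2) F ^ k :
        F ≃ₐ[ZMod 2] F) : F →ₐ[ZMod 2] F) (lam : F) p).trans (by rw [minpoly.aeval, map_zero])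
    have hne : p.map (algebraMap (ZMod 2) F) ≠ 0 := map_ne_zero (minpoly.ne_zero hint)
    classical
    have hsub : (Finset.range n).image (fun k => (lam : F) ^ (2 ^ k)) ⊆
        (p.map (algebraMap (ZMod 2) F)).roots.toFinset := by
      intro x hx
      obtain ⟨k, -, rfl⟩ := Finset.mem_image.1 hx
      rw [Multiset.mem_toFinset, mem_roots hne, IsRoot, eval_map_algebraMap]
      exact hroot k
    have h2 := (Finset.card_le_card hsub).trans ((Multiset.toFinset_card_le _).trans
      (card_roots' _))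
    rw [natDegree_map, Finset.card_image_of_injOn (fun i hi j hj h =>
      (eq_of_two_pow lam hbig h).eq_of_lt_of_lt (Finset.mem_range.1 hi) (Finset.mem_range.1 hj)),
      Finset.card_range] at h2
    exact h2
  have hli : LinearIndependent (ZMod 2) (fun i : Fin n => (lam : F) ^ (i : ℕ)) :=
    (linearIndependent_pow (lam : F)).comp (Fin.castLE hdeg) (Fin.castLE_injective hdeg)
  haveI : Nonempty (Fin n) := ⟨⟨0, by omega⟩⟩
  have hspan := hli.span_eq_top_of_card_eq_finrank (by rw [Fintype.card_fin, finrank_eq hcard])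
  have hpow : ∀ k : ℕ, ∀ x ∈ S, (lam : F) ^ k * x ∈ S := by
    intro k
    induction k with
    | zero => intro x hx; simpa using hx
    | succ k ih => intro x hx; rw [pow_succ', mul_assoc]; exact hS _ (ih x hx)
  refine eq_top_iff.2 fun x _ => ?_
  suffices h : ∀ y ∈ Submodule.span (ZMod 2) (Set.range fun i : Fin n => (lam : F) ^ (i : ℕ)),
      y * s ∈ S by
    have := h (x * s⁻¹) (hspan ▸ Submodule.mem_top)
    rwa [inv_mul_cancel_right₀ hs0] at this
  intro y hy
  induction hy using Submodule.span_induction with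
  | mem y hy => obtain ⟨i, rfl⟩ := hy; exact hpow _ s hs
  | zero => rw [zero_mul]; exact S.zero_mem
  | add a b _ _ ha hb => rw [add_mul]; exact S.add_mem ha hb
  | smul r a _ ha =>
    rcases (show ∀ r : ZMod 2, r = 0 ∨ r = 1 by decide) r with rfl | rfl
    · simp
    · simpa using ha

/-- Alternating biadditive forms compatible with the multiplier vanish. -/
theorem eq_zero_of_alternating (β : F → F → F) (hl : ∀ u v w, β (u + v) w = β u w + β v w)
    (hr : ∀ u v w, β u (v + w) = β u v + β u w) (halt : ∀ u, β u u = 0)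
    (heq : ∀ u v, β ((lam : F) * u) ((lam : F) * v) = (lam : F) * β u v) :
    ∀ u v, β u v = 0 := by
  classical
  let e : (Fin n → F) ≃+ (F →+ F) := AddEquiv.ofBijective (comb n) (comb_bijective hcard)
  let a : F →+ (Fin n → F) := e.symm.toAddMonoidHom.comp
    (AddMonoidHom.mk' (fun u => AddMonoidHom.mk' (β u) (hr u))
      (fun u v => AddMonoidHom.ext (hl u v)))
  let b : Fin n → Fin n → F := fun j =>
    e.symm ((Pi.evalAddMonoidHom (fun _ : Fin n => F) j).comp a)
  have hexp : ∀ u v, β u v = ∑ j, (∑ i, b j i * u ^ (2 ^ (i : ℕ))) * v ^ (2 ^ (j : ℕ)) := by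
    intro u v
    have h1 : ∀ j, a u j = ∑ i, b j i * u ^ (2 ^ (i : ℕ)) := by
      intro j
      rw [← comb_apply]
      have : comb n (b j) = (Pi.evalAddMonoidHom (fun _ : Fin n => F) j).comp a :=
        e.apply_symm_apply _
      rw [this]; rfl
    have h2 : comb n (a u) = AddMonoidHom.mk' (β u) (hr u) := e.apply_symm_apply _
    have h3 := DFunLike.congr_fun h2 v
    rw [comb_apply] at h3
    simp only [h1] at h3
    simpa using h3.symm
  have huniq : ∀ d : Fin n → Fin n → F,
      (∀ u v, ∑ j, (∑ i, d j i * u ^ (2 ^ (i : ℕ))) * v ^ (2 ^ (j : ℕ)) = 0) → d = 0 := by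
    intro d hd
    funext j
    refine (injective_iff_map_eq_zero _).1 (comb_injective hcard) (d j) (AddMonoidHom.ext fun u => ?_)
    have h := (injective_iff_map_eq_zero _).1 (comb_injective hcard)
      (fun j => ∑ i, d j i * u ^ (2 ^ (i : ℕ))) (AddMonoidHom.ext fun v => by
        rw [comb_apply]; simpa using hd u v)
    rw [comb_apply]
    simpa using congrFun h j
  have hd : (fun j i : Fin n =>
      b j i * ((lam : F) ^ (2 ^ (i : ℕ)) * (lam : F) ^ (2 ^ (j : ℕ)) - lam)) = 0 := by
    refine huniq _ fun u v => ?_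
    have h := heq u v
    rw [hexp, hexp, Finset.mul_sum, ← sub_eq_zero, ← Finset.sum_sub_distrib] at h
    rw [← h]
    refine Finset.sum_congr rfl fun j _ => ?_
    rw [Finset.sum_mul, Finset.sum_mul, Finset.sum_mul, Finset.mul_sum, ← Finset.sum_sub_distrib]
    refine Finset.sum_congr rfl fun i _ => ?_
    rw [mul_pow, mul_pow]
    ring
  have hoff : ∀ j i : Fin n, i ≠ j → b j i = 0 := by
    intro j i hij
    by_contra hb
    have h := congrFun (congrFun hd j) i
    simp only [Pi.zero_apply, mul_eq_zero, hb, false_or, sub_eq_zero, ← pow_add] at h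
    have h' := eq_of_pow_add_pow (i := (i : ℕ)) (j := (j : ℕ)) hbig
      (modEq_of_pow_eq lam (B := 1) (by rw [pow_one]; exact h))
    exact hij (Fin.ext (h'.eq_of_lt_of_lt i.2 j.2))
  have hdiag : ∀ u v, β u v = ∑ j, b j j * (u * v) ^ (2 ^ (j : ℕ)) := by
    intro u v
    rw [hexp]
    refine Finset.sum_congr rfl fun j _ => ?_
    rw [Finset.sum_eq_single j (fun i _ hi => by rw [hoff j i hi, zero_mul]) (fun h => absurd (Finset.mem_univ j) h),
      mul_pow, mul_assoc]
  have hzero : (fun j => b j j) = 0 := by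
    refine (injective_iff_map_eq_zero _).1 (comb_injective hcard) _ (AddMonoidHom.ext fun x => ?_)
    obtain ⟨u, rfl⟩ := square_surjective hcard x
    rw [comb_apply, sq, ← hdiag, halt]; rfl
  intro u v
  rw [hdiag]
  exact Finset.sum_eq_zero fun j _ => by rw [show b j j = 0 from congrFun hzero j, zero_mul]

/-- A subgroup of additive maps invariant under conjugation by the multiplier is the sum of its
homogeneous components. -/
theorem exists_components (W : AddSubgroup (F →+ F))
    (hW : ∀ f ∈ W, (AddMonoidHom.mulLeft (lam : F)).comp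
      (f.comp (AddMonoidHom.mulLeft ((lam⁻¹ : Fˣ) : F))) ∈ W) {f : F →+ F} (hf : f ∈ W) :
    ∃ a : Fin n → F, f = ∑ i, mono (a i) (i : ℕ) ∧ ∀ i, mono (a i) (i : ℕ) ∈ W := by
  classical
  letI := ZMod.algebra F 2
  haveI : Module.Finite (ZMod 2) F := Module.Finite.of_finite
  set μ : Fin n → F := fun i => (lam : F) * ((lam⁻¹ : Fˣ) : F) ^ (2 ^ (i : ℕ)) with hμ
  have hstep : ∀ a : Fin n → F, comb n a ∈ W → comb n (μ * a) ∈ W := by
    intro a ha
    convert hW _ ha using 1
    ext x
    simp only [AddMonoidHom.comp_apply, AddMonoidHom.coe_mulLeft, comb_apply, Finset.mul_sum,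
      hμ, Pi.mul_apply, mul_pow]
    exact Finset.sum_congr rfl fun i _ => by ring
  have hpoly : ∀ (R : (ZMod 2)[X]) (a : Fin n → F), comb n a ∈ W →
      comb n ((fun i => aeval (μ i) R) * a) ∈ W := by
    intro R
    induction R using Polynomial.induction_on' with
    | add p q hp hq =>
      intro a ha
      have : (fun i => aeval (μ i) (p + q)) * a =
          (fun i => aeval (μ i) p) * a + (fun i => aeval (μ i) q) * a := by
        ext i; simp [add_mul]
      rw [this, map_add]
      exact W.add_mem (hp a ha) (hq a ha)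
    | monomial k c =>
      intro a ha
      have hk : ∀ k, comb n ((fun i => μ i ^ k) * a) ∈ W := by
        intro k
        induction k with
        | zero => convert ha; ext i; simp
        | succ k ih => convert hstep _ ih using 2; ext i; simp [pow_succ']; ring
      rcases (show ∀ r : ZMod 2, r = 0 ∨ r = 1 by decide) c with rfl | rfl
      · convert W.zero_mem
        rw [show (fun i => aeval (μ i) (monomial k (0 : ZMod 2))) * a = 0 by ext i; simp, map_zero]
      · convert hk k using 3
        ext i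
        simp
  obtain ⟨a, rfl⟩ := exists_comb hcard f
  refine ⟨a, rfl, fun i => ?_⟩
  have hsep : ∀ j : Fin n, j ≠ i → aeval (μ i) (minpoly (ZMod 2) (μ j)) ≠ 0 := by
    intro j hji h0
    have hconj : IsConjRoot (ZMod 2) (μ j) (μ i) :=
      minpoly.eq_of_irreducible_of_monic (minpoly.irreducible (IsIntegral.of_finite _ _)) h0
        (minpoly.monic (IsIntegral.of_finite _ _))
    obtain ⟨σ, hσ⟩ := isConjRoot_iff_exists_algEquiv.1 hconj
    obtain ⟨s, -, hs⟩ := exists_eq_pow_of_algEquiv hcard σ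
    rw [hs, hμ] at hσ
    simp only [mul_pow, ← pow_mul, ← pow_add] at hσ
    have hu : lam ^ (2 ^ s) * lam⁻¹ ^ (2 ^ ((i : ℕ) + s)) = lam * lam⁻¹ ^ (2 ^ (j : ℕ)) :=
      Units.ext (by simpa using hσ)
    rw [inv_pow, inv_pow, ← div_eq_mul_inv, ← div_eq_mul_inv, div_eq_div_iff_mul_eq_mul,
      ← pow_add, ← pow_succ', pow_eq_pow_iff_modEq] at hu
    have h := add_modEq_of_pow hbig (a := (i : ℕ) + s) (b := s) (c := (j : ℕ))
      (by rw [add_comm 1]; exact hu.symm)
    rw [add_comm s] at h
    exact hji (Fin.ext ((Nat.ModEq.add_right_cancel' s h).eq_of_lt_of_lt i.2 j.2).symm)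
  set P : (ZMod 2)[X] := ∏ j ∈ Finset.univ.erase i, minpoly (ZMod 2) (μ j) with hP
  have hPi : aeval (μ i) P ≠ 0 := by
    rw [hP, map_prod]
    exact Finset.prod_ne_zero_iff.2 fun j hj => hsep j (Finset.ne_of_mem_erase hj)
  haveI := Fintype.ofFinite F
  have hq : 1 ≤ Fintype.card F - 1 := by
    have := Fintype.one_lt_card (α := F); omega
  convert hpoly (P ^ (Fintype.card F - 1)) a hf using 1
  ext x
  rw [comb_apply, Finset.sum_eq_single i]
  · simp [Pi.mul_apply, map_pow, FiniteField.pow_card_sub_one_eq_one _ hPi]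
  · intro j _ hj
    have : aeval (μ j) P = 0 := by
      rw [hP, map_prod]
      exact Finset.prod_eq_zero (Finset.mem_erase.2 ⟨hj, Finset.mem_univ j⟩) (minpoly.aeval _ _)
    simp [Pi.mul_apply, map_pow, this, zero_pow (show Fintype.card F - 1 ≠ 0 by omega)]
  · exact fun h => absurd (Finset.mem_univ i) h

omit hcard hbig in
/-- The fixed points of a nontrivial Frobenius power are few. -/
theorem card_fixed_sq_le {k : ℕ} {w : F} (hw : w ^ (2 ^ k) ≠ w) :
    {x : F | x ^ (2 ^ k) = x}.ncard ^ 2 ≤ Nat.card F := by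
  set L := {x : F | x ^ (2 ^ k) = x}
  rw [← Nat.card_coe_set_eq, sq, ← Nat.card_prod]
  refine Nat.card_le_card_of_injective (fun p : L × L => (p.1 : F) + p.2 * w) ?_
  rintro ⟨⟨a, ha⟩, b, hb⟩ ⟨⟨a', ha'⟩, b', hb'⟩ h
  simp only at h
  change a ^ (2 ^ k) = a at ha
  change a' ^ (2 ^ k) = a' at ha'
  change b ^ (2 ^ k) = b at hb
  change b' ^ (2 ^ k) = b' at hb'
  have hbb : b = b' := by
    by_contra hne
    have hne' : b - b' ≠ 0 := sub_ne_zero.2 hne
    have hwe : w = (a' - a) / (b - b') := by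
      rw [eq_div_iff hne']; linear_combination h
    refine hw ?_
    rw [hwe, div_pow, sub_pow_expChar_pow, sub_pow_expChar_pow, ha, ha', hb, hb']
  subst hbb
  simp only [Prod.mk.injEq, Subtype.mk.injEq, and_true]
  exact add_right_cancel h

omit hcard in
/-- The nonzero solutions of `(e ^ 2ʰ) ^ 2 = Γ e` are few unless `h + 1 ≡ 0`. -/
theorem card_semiquad_sq_le {h : ℕ} (hh : ¬ h + 1 ≡ 0 [MOD n]) (C : Set F) (Γ : F)
    (hC : ∀ e ∈ C, e ≠ 0 → (e ^ (2 ^ h)) ^ 2 = Γ * e) :
    ((C \ {0}).ncard + 1) ^ 2 ≤ Nat.card F := by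
  have hL := card_fixed_sq_le (k := h + 1) (exists_pow_ne lam hbig hh)
  refine le_trans (Nat.pow_le_pow_left ?_ 2) hL
  set L := {x : F | x ^ (2 ^ (h + 1)) = x}
  have h0 : (0 : F) ∈ L := zero_pow (Nat.two_pow_pos _).ne'
  rcases (C \ {0}).eq_empty_or_nonempty with he | ⟨c, hc, hc0⟩
  · rw [he, Set.ncard_empty]
    exact (Set.ncard_pos (Set.toFinite _)).2 ⟨0, h0⟩
  rw [Set.mem_singleton_iff] at hc0
  refine Nat.succ_le_of_lt (lt_of_le_of_lt (Set.ncard_le_ncard_of_injOn (t := L \ {0})
    (fun e => e / c) ?_ ?_ (Set.toFinite _)) (Set.ncard_diff_singleton_lt_of_mem h0 (Set.toFinite _)))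
  · rintro e ⟨he, he0⟩
    rw [Set.mem_singleton_iff] at he0
    refine ⟨?_, by simp [he0, hc0]⟩
    show (e / c) ^ (2 ^ (h + 1)) = e / c
    have hΓ : Γ ≠ 0 := by
      intro hΓ
      have := hC c hc hc0
      rw [hΓ, zero_mul] at this
      exact hc0 (pow_eq_zero_iff (Nat.two_pow_pos h).ne' |>.1 (pow_eq_zero_iff two_ne_zero |>.1 this))
    rw [pow_succ, pow_mul, div_pow, div_pow, hC e he he0, hC c hc hc0, mul_div_mul_left _ _ hΓ]
  · intro e _ e' _ hee
    exact (div_left_inj' hc0).1 hee

end

end CfsgLib.TransInvol
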