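import Mathlib
import Cfsg.Agent.Lib.PGroup.TransInvol.FieldEnd
import Cfsg.Agent.Lib.Char.TransLinear.Main

/-!
# The field attached to a solvable group transitive on the involutions of a two-group
-/

set_option autoImplicit false

namespace CfsgLib.TransInvol

/-- The field structure on the involutions, with a multiplier of odd order and big order. -/
structure Data (G : Type*) [Group G] (F : Type) [Field F] where
  /-- the degree -/
  n : ℕ
  /-- the multiplier -/
  lam : Fˣ
  card : Nat.card F = 2 ^ n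
  big : BigDiv n (orderOf lam)
  /-- the group of automorphisms -/
  Y : Subgroup (MulAut G)
  /-- the automorphism inducing the multiplier -/
  c : MulAut G
  c_mem : c ∈ Y
  odd : Odd (orderOf c)
  /-- the parametrisation of the involutions -/
  ι : F → G
  ι_add : ∀ u v, ι (u + v) = ι u * ι v
  ι_inj : Function.Injective ι
  mem_iff : ∀ x : G, x ^ 2 = 1 ↔ ∃ u, ι u = x
  ι_comm : ∀ u g, ι u * g = g * ι u
  c_ι : ∀ u, c (ι u) = ι ((lam : F) * u)
  semi : ∀ y ∈ Y, ∃ (a : F) (τ : F ≃+* F), ∀ v, y (ι v) = ι (a * τ v)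
  trans : ∀ u v : F, u ≠ 0 → v ≠ 0 → ∃ y ∈ Y, y (ι u) = ι v

section

variable {G : Type*} [Group G] [Finite G]

theorem exists_multiplier {F : Type} [Field F] [Finite F] [CharP F 2] {n : ℕ} (hn : 2 ≤ n)
    (hcard : Nat.card F = 2 ^ n) (Y : Subgroup (MulAut G)) (ι : F → G) (hι : Function.Injective ι)
    (hsemi : ∀ y ∈ Y, ∃ (a : F) (τ : F ≃+* F), ∀ v, y (ι v) = ι (a * τ v))
    (htr : ∀ u v : F, u ≠ 0 → v ≠ 0 → ∃ y ∈ Y, y (ι u) = ι v) :
    ∃ (c : MulAut G) (lam : Fˣ), c ∈ Y ∧ Odd (orderOf c) ∧ BigDiv n (orderOf lam) ∧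
      ∀ u, c (ι u) = ι ((lam : F) * u) := by
  classical
  choose a τ haτ using fun y : Y => hsemi y y.2
  have huniq : ∀ (y : Y) (a' : F) (τ' : F ≃+* F), (∀ v, (y : MulAut G) (ι v) = ι (a' * τ' v)) →
      a y = a' ∧ τ y = τ' := by
    intro y a' τ' h
    have h1 : ∀ v, a y * τ y v = a' * τ' v := fun v => hι ((haτ y v).symm.trans (h v))
    have ha : a y = a' := by simpa using h1 1
    refine ⟨ha, RingEquiv.ext fun v => mul_left_cancel₀ ?_ ((h1 v).trans (by rw [ha]))⟩
    intro h0
    have h2 := haτ y 1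
    rw [h0, zero_mul, show ι 0 = ι (a y * τ y 0) by rw [map_zero, mul_zero], ← haτ y 0] at h2
    exact zero_ne_one (hι (MulEquiv.injective (y : MulAut G) h2)).symm
  have ha0 : ∀ y, a y ≠ 0 := by
    intro y h0
    have h2 := haτ y 1
    rw [h0, zero_mul, show ι 0 = ι (a y * τ y 0) by rw [map_zero, mul_zero], ← haτ y 0] at h2
    exact zero_ne_one (hι (MulEquiv.injective (y : MulAut G) h2)).symm
  have hmul : ∀ y z : Y, a (y * z) = a y * τ y (a z) ∧ τ (y * z) = (τ z).trans (τ y) := by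
    intro y z
    refine huniq _ _ _ fun v => ?_
    rw [Subgroup.coe_mul, MulAut.mul_apply, haτ z, haτ y, map_mul, ← mul_assoc,
      RingEquiv.trans_apply]
  let θ : Y →* RingAut F := MonoidHom.mk' τ fun y z => (hmul y z).2
  let χ : θ.ker →* Fˣ := MonoidHom.mk' (fun y => Units.mk0 (a y) (ha0 y)) fun y z => by
    ext
    show a ((y : Y) * z) = a y * a z
    have h1 : τ (y : Y) = 1 := MonoidHom.mem_ker.1 y.2
    rw [(hmul _ _).1, h1]
    rfl
  have hθ : ∀ y : θ.ker, ∀ v, ((y : Y) : MulAut G) (ι v) = ι ((χ y : F) * v) := by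
    intro y v
    rw [haτ, show τ (y : Y) = 1 from MonoidHom.mem_ker.1 y.2]
    rfl
  let perm : Y →* Equiv.Perm F := MonoidHom.mk'
    (fun y => (τ y).toEquiv.trans (Equiv.mulLeft₀ (a y) (ha0 y))) fun y z => by
      ext v
      show a (y * z) * τ (y * z) v = a y * τ y (a z * τ z v)
      rw [(hmul y z).1, (hmul y z).2, map_mul, mul_assoc]
      rfl
  letI : MulAction Y F := MulAction.compHom F perm
  have hsmul : ∀ (y : Y) (v : F), y • v = a y * τ y v := fun _ _ => rfl
  have horb : MulAction.orbit Y (1 : F) = {v : F | v ≠ 0} := by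
    ext v
    constructor
    · rintro ⟨y, rfl⟩
      simp only [hsmul, map_one, mul_one]
      exact ha0 y
    · intro hv
      obtain ⟨y, hy, hy'⟩ := htr 1 v one_ne_zero hv
      refine ⟨⟨y, hy⟩, ?_⟩
      simp only [hsmul]
      exact hι ((haτ ⟨y, hy⟩ 1).symm.trans hy')
  have hcY : Nat.card Y = (2 ^ n - 1) * Nat.card (MulAction.stabilizer Y (1 : F)) := by
    rw [← Nat.card_congr (MulAction.orbitProdStabilizerEquivGroup Y (1 : F)), Nat.card_prod, horb,
      Nat.card_coe_set_eq, show {v : F | v ≠ 0} = ({0} : Set F)ᶜ from rfl, Set.ncard_compl,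
      Set.ncard_singleton, hcard]
  have hcK : Nat.card Y = Nat.card θ.range * (Nat.card χ.range * Nat.card χ.ker) := by
    rw [← Subgroup.index_ker θ, ← Subgroup.index_ker χ, mul_comm χ.ker.index,
      Subgroup.card_mul_index, mul_comm, Subgroup.card_mul_index]
  have hker : Nat.card χ.ker ∣ Nat.card (MulAction.stabilizer Y (1 : F)) := by
    rw [Nat.card_congr (χ.ker.equivMapOfInjective θ.ker.subtype θ.ker.subtype_injective).toEquiv]
    refine Subgroup.card_dvd_of_le ?_
    rintro _ ⟨y, hy, rfl⟩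
    rw [MulAction.mem_stabilizer_iff, hsmul, map_one, mul_one]
    exact congrArg Units.val (MonoidHom.mem_ker.1 hy)
  obtain ⟨s, hs⟩ := hker
  have hR : Nat.card θ.range ∣ n := by
    rw [← card_ringEquiv_le hcard]
    exact θ.range.card_subgroup_dvd_card
  set m := Nat.card χ.range with hm
  have hmq : m ∣ 2 ^ n - 1 := by
    rw [← hcard, ← Nat.card_units]
    exact χ.range.card_subgroup_dvd_card
  have hdvd : 2 ^ n - 1 ∣ m * n := by
    obtain ⟨t, ht⟩ := hR
    refine ⟨s * t, ?_⟩
    have h1 : (2 ^ n - 1) * s * Nat.card χ.ker = m * Nat.card θ.range * Nat.card χ.ker := by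
      rw [mul_assoc, mul_comm s, ← hs, ← hcY, hcK]; ring
    have h2 := Nat.eq_of_mul_eq_mul_right Nat.card_pos h1
    conv_lhs => rw [ht]
    rw [← mul_assoc, ← mul_assoc, h2]
  obtain ⟨d, hd⟩ := hmq
  have hmpos : 0 < m := Nat.card_pos
  have hdn : d ∣ n := by rw [hd] at hdvd; exact Nat.dvd_of_mul_dvd_mul_left hmpos hdvd
  obtain ⟨⟨l₀, y, hy⟩, hgen⟩ := IsCyclic.exists_ofOrder_eq_natCard (α := χ.range)
  rw [← Subgroup.orderOf_coe] at hgen
  obtain ⟨p, b, hb, hpb⟩ :=
    Nat.exists_eq_pow_mul_and_not_dvd (orderOf_pos ((y : Y) : MulAut G)).ne' 2 (by norm_num)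
  have hbo : Odd b := Nat.odd_iff.2 (by omega)
  have hmodd : Odd m := by
    have : Odd (m * d) := hd ▸ Nat.Even.sub_odd Nat.one_le_two_pow
      ((Nat.even_pow' (by omega)).2 even_two) odd_one
    exact (Nat.odd_mul.1 this).1
  refine ⟨((y : Y) : MulAut G) ^ (2 ^ p), l₀ ^ (2 ^ p), pow_mem (y : Y).2 _, ?_, ⟨hn, d, hdn, ?_⟩,
    fun u => ?_⟩
  · refine hbo.of_dvd_nat (orderOf_dvd_of_pow_eq_one ?_)
    rw [← pow_mul, ← hpb, pow_orderOf_eq_one]
  · have : orderOf (l₀ ^ (2 ^ p)) = m := by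
      rw [Nat.Coprime.orderOf_pow, hgen]
      rw [hgen]
      exact (Nat.coprime_two_right.2 hmodd).pow_right p
    rw [this, hd]
  · have h : ∀ k, (((y : Y) : MulAut G) ^ k) (ι u) = ι (((χ y ^ k : Fˣ) : F) * u) := by
      intro k
      induction k generalizing u with
      | zero => simp
      | succ k ih => rw [pow_succ', MulAut.mul_apply, ih, hθ, pow_succ', Units.val_mul, mul_assoc]
    rw [h, hy]

/-- The field structure exists. -/
theorem exists_data (htwo : ∃ x y : G, x ≠ y ∧ x ≠ 1 ∧ x ^ 2 = 1 ∧ y ≠ 1 ∧ y ^ 2 = 1)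
    (hcen : ∀ x : G, x ^ 2 = 1 → ∀ g, x * g = g * x) (Y : Subgroup (MulAut G))
    [Group.IsSolvable Y]
    (htr : ∀ x y : G, x ≠ 1 → x ^ 2 = 1 → y ≠ 1 → y ^ 2 = 1 → ∃ a ∈ Y, a x = y) :
    ∃ (F : Type) (_ : Field F) (_ : Finite F) (_ : CharP F 2) (D : Data G F), D.Y = Y := by
  classical
  let E : Subgroup G :=
    { carrier := {x | x ^ 2 = 1}
      one_mem' := one_pow 2
      mul_mem' := fun {x y} (hx : x ^ 2 = 1) (hy : y ^ 2 = 1) => by
        show (x * y) ^ 2 = 1
        rw [(show Commute x y from hcen x hx y).mul_pow, hx, hy, one_mul]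
      inv_mem' := fun {x} (hx : x ^ 2 = 1) => by
        show x⁻¹ ^ 2 = 1
        rw [inv_pow, hx, inv_one] }
  letI : CommGroup E :=
    { (inferInstance : Group E) with mul_comm := fun x y => Subtype.ext (hcen x.1 x.2 y.1) }
  letI : Module (ZMod 2) (Additive E) := AddCommGroup.zmodModule (n := 2) fun v =>
    Additive.toMul.injective (Subtype.ext (show ((Additive.toMul v : E) : G) ^ 2 = 1 from (Additive.toMul v).2))
  obtain ⟨x0, y0, hxy, hx0, hx2, hy0, hy2⟩ := htwo
  haveI : Nontrivial (Additive E) :=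
    ⟨⟨Additive.ofMul ⟨x0, hx2⟩, Additive.ofMul ⟨y0, hy2⟩, fun h =>
      hxy (congrArg Subtype.val (Additive.ofMul.injective h))⟩⟩
  let r : Y →* MulAut E := MonoidHom.mk'
    (fun y =>
      { toFun := fun x => ⟨(y : MulAut G) x, by show _ ^ 2 = 1; rw [← map_pow, x.2, map_one]⟩
        invFun := fun x => ⟨((y : MulAut G)).symm x, by show _ ^ 2 = 1; rw [← map_pow, x.2, map_one]⟩
        left_inv := fun x => Subtype.ext ((y : MulAut G).symm_apply_apply _)
        right_inv := fun x => Subtype.ext ((y : MulAut G).apply_symm_apply _)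
        map_mul' := fun a b => Subtype.ext (map_mul (y : MulAut G) (a : G) b) })
    fun y z => MulEquiv.ext fun x => rfl
  let ρ : r.range →* (Additive E ≃ₗ[ZMod 2] Additive E) := MonoidHom.mk'
    (fun h => { (MulEquiv.toAdditive (h : MulAut E)) with
      map_smul' := fun t v => ZMod.map_smul (MulEquiv.toAdditive (h : MulAut E)).toAddMonoidHom t v })
    fun h k => LinearEquiv.ext fun v => rfl
  have hρ : Function.Injective ρ := fun h k e =>
    Subtype.ext (MulEquiv.ext fun x => LinearEquiv.congr_fun e (Additive.ofMul x))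
  haveI : Group.IsSolvable r.range := solvable_of_surjective r.rangeRestrict_surjective
  have htr' : ∀ v w : Additive E, v ≠ 0 → w ≠ 0 → ∃ g : r.range, ρ g v = w := by
    intro v w hv hw
    obtain ⟨y, hy, hy'⟩ := htr (Additive.toMul v).1 (Additive.toMul w).1
      (fun h => hv (Additive.toMul.injective (Subtype.ext h))) (Additive.toMul v).2
      (fun h => hw (Additive.toMul.injective (Subtype.ext h))) (Additive.toMul w).2
    exact ⟨⟨r ⟨y, hy⟩, ⟨y, hy⟩, rfl⟩, Additive.toMul.injective (Subtype.ext hy')⟩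
  rcases CfsgLib.Char.solvable_transitive_linear ρ hρ htr' with ⟨F, fF, ftF, e, he⟩ | hexc
  swap
  · exfalso
    haveI : Module.Finite (ZMod 2) (Additive E) := Module.Finite.of_finite
    have hc := Module.natCard_eq_pow_finrank (K := ZMod 2) (V := Additive E)
    have hpos : 0 < Module.finrank (ZMod 2) (Additive E) := Module.finrank_pos
    rw [Nat.card_zmod] at hc
    have h2 : 2 ∣ Nat.card (Additive E) := hc ▸ dvd_pow_self 2 hpos.ne'
    simp only [Set.mem_insert_iff, Set.mem_singleton_iff] at hexc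
    rcases hexc with h | h | h | h | h | h <;> rw [h] at h2 <;> norm_num at h2
  letI := fF
  haveI : Finite F := @Finite.of_fintype F ftF
  haveI : CharP F 2 := CharTwo.of_one_ne_zero_of_two_eq_zero one_ne_zero (by
    rw [← one_add_one_eq_two]
    apply e.symm.injective
    rw [map_add, map_zero, ← two_nsmul, ← Nat.cast_smul_eq_nsmul (ZMod 2)]
    exact zero_smul (ZMod 2) _)
  haveI := ftF
  obtain ⟨⟨n, hn0⟩, -, hcard⟩ := FiniteField.card F 2
  change Fintype.card F = 2 ^ n at hcard
  have hcard' : Nat.card F = 2 ^ n := by rw [Nat.card_eq_fintype_card]; exact hcard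
  have hn : 2 ≤ n := by
    by_contra h
    have h1 : n = 1 := by omega
    rw [h1, pow_one] at hcard
    have hxy' : e (Additive.ofMul ⟨x0, hx2⟩) = e (Additive.ofMul ⟨y0, hy2⟩) := by
      refine (Fintype.card_le_one_iff_subsingleton (α := {v : F // v ≠ 0}) |>.1 ?_).elim
        ⟨_, ?_⟩ ⟨_, ?_⟩ |> congrArg Subtype.val
      · rw [Fintype.card_subtype_compl, Fintype.card_subtype_eq, hcard]
      · exact fun hz => hx0 (congrArg Subtype.val (Additive.ofMul.injective
          ((e.map_eq_zero_iff).1 hz)))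
      · exact fun hz => hy0 (congrArg Subtype.val (Additive.ofMul.injective
          ((e.map_eq_zero_iff).1 hz)))
    exact hxy (congrArg Subtype.val (Additive.ofMul.injective (e.injective hxy')))
  let ι : F → G := fun u => ((Additive.toMul (e.symm u) : E) : G)
  have hι : Function.Injective ι := fun u v h =>
    e.symm.injective (Additive.toMul.injective (Subtype.ext h))
  have hsemi : ∀ y ∈ Y, ∃ (a : F) (τ : F ≃+* F), ∀ v, y (ι v) = ι (a * τ v) := by
    intro y hy
    obtain ⟨a, τ, h⟩ := he ⟨r ⟨y, hy⟩, ⟨y, hy⟩, rfl⟩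
    refine ⟨a, τ, fun v => ?_⟩
    have h' := h (e.symm v)
    rw [AddEquiv.apply_symm_apply] at h'
    show _ = ((Additive.toMul (e.symm (a * τ v)) : E) : G)
    rw [← h', AddEquiv.symm_apply_apply]
    rfl
  have htrι : ∀ u v : F, u ≠ 0 → v ≠ 0 → ∃ y ∈ Y, y (ι u) = ι v := by
    intro u v hu hv
    exact htr _ _
      (fun h => hu (e.symm.map_eq_zero_iff.1 (Additive.toMul.injective (Subtype.ext h))))
      (Additive.toMul (e.symm u)).2
      (fun h => hv (e.symm.map_eq_zero_iff.1 (Additive.toMul.injective (Subtype.ext h))))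
      (Additive.toMul (e.symm v)).2
  obtain ⟨c, lam, hcY, hodd, hbig, hc⟩ := exists_multiplier hn hcard' Y ι hι hsemi htrι
  refine ⟨F, fF, inferInstance, inferInstance,
    { n := n, lam := lam, card := hcard', big := hbig, Y := Y, c := c, c_mem := hcY, odd := hodd
      ι := ι
      ι_add := fun u v => by show _ = _ * _; simp [ι]
      ι_inj := hι
      mem_iff := fun x => ⟨fun hx => ⟨e (Additive.ofMul ⟨x, hx⟩), by simp [ι]⟩, ?_⟩
      ι_comm := fun u g => hcen _ (Additive.toMul (e.symm u)).2 g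
      c_ι := hc
      semi := hsemi
      trans := htrι }, rfl⟩
  rintro ⟨u, rfl⟩
  exact (Additive.toMul (e.symm u)).2

end

end CfsgLib.TransInvol
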