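import Mathlib
import Cfsg.Agent.Lib.PGroup.TransInvol.Setup
import Cfsg.Agent.Lib.PGroup.FrattiniLe
import Cfsg.Agent.Lib.Coprime.PGroupFrattini
import Cfsg.Agent.Lib.Coprime.Solvable

/-!
# Two-groups with a group transitive on the involutions: basic facts
-/

set_option autoImplicit false

open Subgroup
open scoped commutatorElement

namespace CfsgLib.TransInvol

section Layer

variable {G : Type*} [Group G]

/-- The central elements with trivial square. -/
def centralSq (Q : Type*) [Group Q] : Subgroup Q where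
  carrier := {z | z ∈ center Q ∧ z ^ 2 = 1}
  one_mem' := ⟨one_mem _, one_pow 2⟩
  mul_mem' := fun {x y} hx hy =>
    ⟨mul_mem hx.1 hy.1, by
      rw [(show Commute x y from (mem_center_iff.1 hx.1 y).symm).mul_pow, hx.2, hy.2, one_mul]⟩
  inv_mem' := fun {x} hx => ⟨inv_mem hx.1, by rw [inv_pow, hx.2, inv_one]⟩

instance (Q : Type*) [Group Q] : (centralSq Q).Normal :=
  ⟨fun z hz g => by rw [mem_center_iff.1 hz.1 g, mul_inv_cancel_right]; exact hz⟩

/-- The preimage of the central elements of order at most two of the quotient by `H`. -/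
def layer (H : Subgroup G) [H.Normal] : Subgroup G :=
  (centralSq (G ⧸ H)).comap (QuotientGroup.mk' H)

instance (H : Subgroup G) [H.Normal] : (layer H).Normal := by unfold layer; infer_instance

theorem mem_layer {H : Subgroup G} [H.Normal] {x : G} :
    x ∈ layer H ↔ x ^ 2 ∈ H ∧ ∀ g, ⁅x, g⁆ ∈ H := by
  simp only [layer, mem_comap, centralSq, Subgroup.mem_mk, Set.mem_setOf_eq]
  show (_ ∈ center _ ∧ _) ↔ _
  rw [mem_center_iff, ← map_pow, QuotientGroup.mk'_apply, QuotientGroup.mk'_apply,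
    QuotientGroup.eq_one_iff, and_comm]
  refine and_congr_right fun _ => ⟨fun h g => ?_, fun h z => ?_⟩
  · rw [← QuotientGroup.eq_one_iff, ← QuotientGroup.mk'_apply, map_commutatorElement,
      commutatorElement_eq_one_iff_mul_comm]
    exact (h _).symm
  · induction z using QuotientGroup.induction_on with
    | _ g =>
      have h1 := (QuotientGroup.eq_one_iff _).2 (h g)
      rw [← QuotientGroup.mk'_apply, map_commutatorElement, commutatorElement_eq_one_iff_mul_comm]
        at h1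
      exact h1.symm

theorem le_layer {H : Subgroup G} [hH : H.Normal] : H ≤ layer H := fun x hx =>
  mem_layer.2 ⟨pow_mem hx 2, fun g => by
    rw [commutatorElement_def, mul_assoc x g, mul_assoc x]
    exact mul_mem hx (hH.conj_mem _ (inv_mem hx) g)⟩

/-- A normal subgroup strictly above `H` meets the layer of `H` outside `H`. -/
theorem exists_mem_layer [Finite G] (hG : IsPGroup 2 G) (H K : Subgroup G) [H.Normal] [hK : K.Normal]
    (h : ¬ K ≤ H) : ∃ k ∈ K, k ∈ layer H ∧ k ∉ H := by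
  have hQ : IsPGroup 2 (G ⧸ H) := hG.to_quotient H
  haveI := hQ.isNilpotent
  haveI : (K.map (QuotientGroup.mk' H)).Normal := hK.map _ (QuotientGroup.mk'_surjective H)
  have hne : K.map (QuotientGroup.mk' H) ≠ ⊥ := by
    rwa [Ne, Subgroup.map_eq_bot_iff, QuotientGroup.ker_mk']
  obtain ⟨z, hz⟩ := exists_prime_orderOf_dvd_card'
    (G := ↥(K.map (QuotientGroup.mk' H) ⊓ center (G ⧸ H))) 2 (by
      obtain ⟨k, hk⟩ := IsPGroup.iff_card.1 (hQ.to_subgroup (K.map (QuotientGroup.mk' H) ⊓ center (G ⧸ H)))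
      rcases Nat.eq_zero_or_pos k with rfl | h0
      · exact absurd (eq_bot_of_card_eq _ (by simpa using hk))
          (CfsgLib.Coprime.nilpotent_inf_center_ne_bot _ hne)
      · exact hk ▸ dvd_pow_self 2 h0.ne')
  obtain ⟨k, hkK, hk⟩ := (mem_inf.1 z.2).1
  have hz2 : ((z : G ⧸ H)) ^ 2 = 1 := by
    rw [← hz, ← Subgroup.orderOf_coe, pow_orderOf_eq_one]
  refine ⟨k, hkK, ?_, fun hkH => ?_⟩
  · show QuotientGroup.mk' H k ∈ centralSq (G ⧸ H)
    rw [hk]
    exact ⟨(mem_inf.1 z.2).2, hz2⟩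
  · have : (z : G ⧸ H) = 1 := by
      rw [← hk, QuotientGroup.mk'_apply]; exact (QuotientGroup.eq_one_iff k).2 hkH
    rw [← Subgroup.orderOf_coe, this, orderOf_one] at hz
    exact absurd hz (by norm_num)

theorem map_layer_mem {H : Subgroup G} [H.Normal] (c : MulAut G) (hc : ∀ x ∈ H, c x ∈ H) {x : G}
    (hx : x ∈ layer H) : c x ∈ layer H := by
  rw [mem_layer] at hx ⊢
  refine ⟨by rw [← map_pow]; exact hc _ hx.1, fun g => ?_⟩
  have h := hc _ (hx.2 (c.symm g))
  rwa [map_commutatorElement, MulEquiv.apply_symm_apply] at h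

theorem commutator_mul_left (x y g : G) : ⁅x * y, g⁆ = x * ⁅y, g⁆ * x⁻¹ * ⁅x, g⁆ := by
  simp only [commutatorElement_def]; group

theorem commutator_mul_right (x g h : G) : ⁅x, g * h⁆ = ⁅x, g⁆ * (g * ⁅x, h⁆ * g⁻¹) := by
  simp only [commutatorElement_def]; group

theorem mul_sq_eq (x y : G) : (x * y) ^ 2 = x ^ 2 * ⁅x⁻¹, y⁆ * y ^ 2 := by
  simp only [commutatorElement_def, sq]; group

theorem conj_eq_commutator_mul (x a : G) : x * a * x⁻¹ = ⁅x, a⁆ * a := by
  simp only [commutatorElement_def]; group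

theorem commutator_eq_squares (g h : G) : ⁅g, h⁆ = g ^ 2 * (g⁻¹ * h) ^ 2 * h⁻¹ ^ 2 := by
  simp only [commutatorElement_def, sq]; group

end Layer

namespace Data

variable {G : Type*} [Group G] {F : Type} [Field F] (D : Data G F)
include D

theorem ι_zero : D.ι 0 = 1 := by
  have h := D.ι_add 0 0
  rwa [add_zero, left_eq_mul] at h

theorem ι_sq (u : F) : D.ι u ^ 2 = 1 := (D.mem_iff _).2 ⟨u, rfl⟩

theorem central {x : G} (hx : x ^ 2 = 1) (g : G) : x * g = g * x := by
  obtain ⟨u, rfl⟩ := (D.mem_iff x).1 hx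
  exact D.ι_comm u g

/-- The subgroup of elements with trivial square. -/
def E : Subgroup G where
  carrier := {x | x ^ 2 = 1}
  one_mem' := one_pow 2
  mul_mem' := fun {x y} (hx : x ^ 2 = 1) (hy : y ^ 2 = 1) => by
    show (x * y) ^ 2 = 1
    rw [(show Commute x y from D.central hx y).mul_pow, hx, hy, one_mul]
  inv_mem' := fun {x} (hx : x ^ 2 = 1) => by
    show x⁻¹ ^ 2 = 1
    rw [inv_pow, hx, inv_one]

theorem mem_E {x : G} : x ∈ D.E ↔ x ^ 2 = 1 := Iff.rfl

instance E_normal : D.E.Normal :=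
  ⟨fun x hx g => by rw [← D.central hx g, mul_inv_cancel_right]; exact hx⟩

theorem map_mem_E (y : MulAut G) {x : G} (hx : x ∈ D.E) : y x ∈ D.E := by
  rw [mem_E] at hx ⊢
  rw [← map_pow, hx, map_one]

/-- Normal abelian subgroups invariant under the multiplier. -/
def Good (H : Subgroup G) : Prop :=
  H.Normal ∧ (∀ x ∈ H, ∀ y ∈ H, x * y = y * x) ∧ ∀ x ∈ H, D.c x ∈ H

/-- The inverse of `ι`. -/
noncomputable def co (x : G) : F :=
  open Classical in if h : ∃ u, D.ι u = x then h.choose else 0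

theorem ι_co {x : G} (hx : x ^ 2 = 1) : D.ι (D.co x) = x := by
  have h := (D.mem_iff x).1 hx
  rw [co, dif_pos h]
  exact h.choose_spec

theorem co_ι (u : F) : D.co (D.ι u) = u := D.ι_inj (D.ι_co (D.ι_sq u))

theorem co_one : D.co 1 = 0 := by rw [← D.ι_zero, co_ι]

theorem co_mul {x y : G} (hx : x ^ 2 = 1) (hy : y ^ 2 = 1) : D.co (x * y) = D.co x + D.co y := by
  apply D.ι_inj
  rw [D.ι_co (show x * y ∈ D.E from mul_mem hx hy), D.ι_add, D.ι_co hx, D.ι_co hy]

theorem co_c {x : G} (hx : x ^ 2 = 1) : D.co (D.c x) = (D.lam : F) * D.co x := by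
  conv_lhs => rw [← D.ι_co hx, D.c_ι, co_ι]

theorem eq_one_of_co {x : G} (hx : x ^ 2 = 1) (h : D.co x = 0) : x = 1 := by
  rw [← D.ι_co hx, h, ι_zero]

variable [Finite F] [CharP F 2]

theorem lam_ne_one : (D.lam : F) ≠ 1 := by
  intro h
  have h2 : (D.lam : F) ^ (2 ^ 1) = (D.lam : F) ^ (2 ^ 0) := by rw [h, one_pow, one_pow]
  have := (eq_of_two_pow D.lam D.big h2)
  have hn := D.big.1
  rw [Nat.ModEq, Nat.mod_eq_of_lt (show 1 < D.n by omega), Nat.zero_mod] at this
  exact one_ne_zero this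

theorem eq_one_of_fixed {x : G} (hx : x ^ 2 = 1) (h : D.c x = x) : x = 1 := by
  refine D.eq_one_of_co hx ?_
  have h1 := D.co_c hx
  rw [h] at h1
  by_contra h0
  exact D.lam_ne_one (mul_right_cancel₀ h0 (by rw [one_mul]; exact h1.symm))

/-- An invariant subgroup containing an involution contains all of them. -/
theorem E_le_of_invariant (H : Subgroup G) (hc : ∀ x ∈ H, D.c x ∈ H) {x : G} (hxH : x ∈ H)
    (hx : x ^ 2 = 1) (hx1 : x ≠ 1) : D.E ≤ H := by
  let S : AddSubgroup F :=
    { carrier := {u | D.ι u ∈ H}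
      zero_mem' := by show D.ι 0 ∈ H; rw [ι_zero]; exact one_mem H
      add_mem' := fun {u v} (hu : D.ι u ∈ H) (hv : D.ι v ∈ H) => by
        show D.ι (u + v) ∈ H
        rw [D.ι_add]; exact mul_mem hu hv
      neg_mem' := fun {u} (hu : D.ι u ∈ H) => by
        show D.ι (-u) ∈ H
        rwa [CharTwo.neg_eq] }
  have hS : S = ⊤ := eq_top_of_invariant D.card D.lam D.big S
    (fun u (hu : D.ι u ∈ H) => show D.ι _ ∈ H by rw [← D.c_ι]; exact hc _ hu)
    (show D.co x ∈ S from show D.ι (D.co x) ∈ H by rw [D.ι_co hx]; exact hxH)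
    (fun h => hx1 (D.eq_one_of_co hx h))
  intro z hz
  have : D.co z ∈ S := hS ▸ AddSubgroup.mem_top _
  change D.ι (D.co z) ∈ H at this
  rwa [D.ι_co hz] at this

variable [Finite G]

/-- Case in which all invariant normal abelian subgroups are elementary. -/
theorem squares_of_small (hG : IsPGroup 2 G) (hsmall : ∀ H, D.Good H → H ≤ D.E) :
    (∀ g : G, (g ^ 2) ^ 2 = 1) ∧ ∀ z ∈ center G, z ^ 2 = 1 := by
  refine ⟨?_, fun z hz => hsmall (center G)
    ⟨inferInstance, fun x _ y hy => mem_center_iff.1 hy x,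
      fun x hx => mem_center_iff.2 fun g => ?_⟩ hz⟩
  swap
  · have h := congrArg D.c (mem_center_iff.1 hx (D.c.symm g))
    rwa [map_mul, map_mul, MulEquiv.apply_symm_apply] at h
  by_contra hbad
  push Not at hbad
  obtain ⟨g₀, hg₀⟩ := hbad
  set S := {x : G | x ^ 2 = 1} ∪ Set.range (fun g : G => g ^ 2)
  set K := closure S with hK
  haveI : K.Normal := ⟨fun k hk g => by
    have : K.map (MulAut.conj g).toMonoidHom ≤ K := by
      rw [hK, MonoidHom.map_closure, closure_le]
      rintro _ ⟨s, hs, rfl⟩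
      refine subset_closure ?_
      rcases hs with hs | ⟨a, rfl⟩
      · exact Or.inl (by show _ ^ 2 = (1 : G); rw [← map_pow, hs, map_one])
      · exact Or.inr ⟨g * a * g⁻¹, by simp [conj_pow]⟩
    exact this ⟨k, hk, rfl⟩⟩
  have hKc : ∀ x ∈ K, D.c x ∈ K := by
    intro x hx
    have : K.map D.c.toMonoidHom ≤ K := by
      rw [hK, MonoidHom.map_closure, closure_le]
      rintro _ ⟨s, hs, rfl⟩
      refine subset_closure ?_
      rcases hs with hs | ⟨a, rfl⟩
      · exact Or.inl (by show _ ^ 2 = (1 : G); rw [← map_pow, hs, map_one])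
      · exact Or.inr ⟨D.c a, by simp⟩
    exact this ⟨x, hx, rfl⟩
  have hnle : ¬ K ≤ D.E := fun h => hg₀ (h (subset_closure (Or.inr ⟨g₀, rfl⟩)))
  obtain ⟨k, hkK, hkT, hkE⟩ := exists_mem_layer hG D.E K hnle
  have hTS : ∀ t ∈ layer D.E, K ≤ centralizer {t} := by
    intro t ht
    rw [hK, closure_le]
    intro s hs
    rw [SetLike.mem_coe, mem_centralizer_singleton_iff]
    rcases hs with hs | ⟨a, rfl⟩
    · exact D.central hs t
    · have ht' := (mem_layer.1 ht).2
      have h1 : ⁅t, a ^ 2⁆ = 1 := by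
        rw [sq, commutator_mul_right, ← D.central (ht' a) a, mul_inv_cancel_right, ← sq]
        exact ht' a
      exact ((commutatorElement_eq_one_iff_mul_comm).1 h1).symm
  refine hkE (hsmall (K ⊓ layer D.E) ⟨inferInstance, fun x hx y hy => ?_, fun x hx => ?_⟩
    (mem_inf.2 ⟨hkK, hkT⟩))
  · exact mem_centralizer_singleton_iff.1 (hTS y (mem_inf.1 hy).2 (mem_inf.1 hx).1)
  · exact mem_inf.2 ⟨hKc x (mem_inf.1 hx).1,
      map_layer_mem D.c (fun z hz => D.map_mem_E D.c hz) (mem_inf.1 hx).2⟩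

/-- The final step. -/
theorem conclude (hG : IsPGroup 2 G) (hna : ¬ IsMulCommutative G)
    (hsq : ∀ g : G, (g ^ 2) ^ 2 = 1) (hZ : ∀ z ∈ center G, z ^ 2 = 1) :
    commutator G = frattini G ∧ frattini G = center G ∧ ∀ x : G, x ∈ center G ↔ x ^ 2 = 1 := by
  haveI : Fact (Nat.Prime 2) := ⟨Nat.prime_two⟩
  have hEZ : center G = D.E := by
    ext x
    exact ⟨hZ x, fun hx => mem_center_iff.2 fun g => (D.central hx g).symm⟩
  have hcE : commutator G ≤ D.E := by
    rw [_root_.commutator_def, commutator_le]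
    intro g _ h _
    rw [commutator_eq_squares]
    exact mul_mem (mul_mem (hsq _) (hsq _)) (hsq _)
  have hΦE : frattini G ≤ D.E := FrattiniLe.frattini_le_of_pow_of_commutator (p := 2) hsq hcE
  have hΦc := CfsgLib.Coprime.commutator_le_frattini hG
  have hEc : D.E ≤ commutator G := by
    have hne : commutator G ≠ ⊥ := by
      intro h
      refine hna ⟨⟨fun a b => commutatorElement_eq_one_iff_mul_comm.1 ?_⟩⟩
      have := commutator_mem_commutator (mem_top a) (mem_top b)
      rw [← _root_.commutator_def, h, mem_bot] at this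
      exact this
    obtain ⟨x, hx, hx1⟩ := (Subgroup.bot_or_exists_ne_one _).resolve_left hne
    refine D.E_le_of_invariant _ (fun z hz => ?_) hx (hcE hx) hx1
    have := Subgroup.map_commutator ⊤ ⊤ D.c.toMonoidHom
    rw [map_top_of_surjective _ D.c.surjective, ← _root_.commutator_def] at this
    exact this ▸ ⟨z, hz, rfl⟩
  exact ⟨le_antisymm hΦc (hΦE.trans hEc), (le_antisymm hΦE (hEc.trans hΦc)).trans hEZ.symm,
    fun x => by rw [hEZ]; exact D.mem_E⟩

end Data

end CfsgLib.TransInvol
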