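import Mathlib
import Cfsg.Agent.Lib.PGroup.TransInvol.Basic

/-!
# A cyclic group transitive on central involutions acts as a Singer cycle
-/

set_option autoImplicit false

namespace CfsgLib.TransInvol

variable {G : Type*} [Group G] [Finite G]

/-- Field coordinates on the involutions in which a generator is a primitive multiplier. -/
structure Singer (G : Type*) [Group G] (F : Type) [Field F] (k : MulAut G) where
  /-- the degree -/
  n : ℕ
  two_le : 2 ≤ n
  card : Nat.card F = 2 ^ n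
  /-- the multiplier -/
  g : Fˣ
  orderOf_g : orderOf g = 2 ^ n - 1
  /-- the parametrisation -/
  ι : F → G
  ι_add : ∀ u v, ι (u + v) = ι u * ι v
  ι_inj : Function.Injective ι
  mem_iff : ∀ x : G, x ^ 2 = 1 ↔ ∃ u, ι u = x
  k_ι : ∀ u, k (ι u) = ι ((g : F) * u)

theorem exists_singer (htwo : ∃ x y : G, x ≠ y ∧ x ≠ 1 ∧ x ^ 2 = 1 ∧ y ≠ 1 ∧ y ^ 2 = 1)
    (hcen : ∀ x : G, x ^ 2 = 1 → ∀ g, x * g = g * x) (k : MulAut G)
    (htr : ∀ x y : G, x ≠ 1 → x ^ 2 = 1 → y ≠ 1 → y ^ 2 = 1 → ∃ i : ℕ, (k ^ i) x = y) :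
    ∃ (F : Type) (_ : Field F) (_ : Finite F) (_ : CharP F 2), Nonempty (Singer G F k) := by
  classical
  letI : CommGroup (Subgroup.zpowers k) := IsCyclic.commGroup
  obtain ⟨F, fF, finF, chF, D, hDY⟩ := exists_data htwo hcen (Subgroup.zpowers k)
    (fun x y hx hx2 hy hy2 => by
      obtain ⟨i, hi⟩ := htr x y hx hx2 hy hy2
      exact ⟨k ^ i, Subgroup.pow_mem _ (Subgroup.mem_zpowers k) i, hi⟩)
  have hkc : Commute k D.c := by
    obtain ⟨i, hi⟩ := Subgroup.mem_zpowers_iff.1 (hDY ▸ D.c_mem)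
    exact hi ▸ Commute.self_zpow k i
  obtain ⟨a, τ, hk⟩ := D.semi k (hDY.symm ▸ Subgroup.mem_zpowers k)
  have ha : a ≠ 0 := by
    rintro rfl
    have h3 : k (D.ι 1) = k (D.ι 0) := by rw [hk, hk, zero_mul, zero_mul]
    exact one_ne_zero (D.ι_inj (k.injective h3))
  have hτl : τ (D.lam : F) = D.lam := by
    have h1 : k (D.c (D.ι 1)) = D.c (k (D.ι 1)) := DFunLike.congr_fun hkc.eq (D.ι 1)
    rw [D.c_ι, hk, hk, D.c_ι, mul_one, map_one, mul_one] at h1
    exact mul_left_cancel₀ ha ((D.ι_inj h1).trans (mul_comm _ _))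
  have hτ : ∀ v, τ v = v := by
    letI := ZMod.algebra F 2
    let σ : F ≃ₐ[ZMod 2] F := { τ with
      commutes' := fun r => RingHom.congr_fun
        (Subsingleton.elim ((τ : F →+* F).comp (algebraMap (ZMod 2) F)) (algebraMap (ZMod 2) F)) r }
    obtain ⟨s, hs, hpow⟩ := exists_eq_pow_of_algEquiv D.card σ
    have h2 : (D.lam : F) ^ (2 ^ s) = (D.lam : F) ^ (2 ^ 0) := by
      rw [pow_zero, pow_one]; exact (hpow _).symm.trans hτl
    have hs0 : s = 0 := (eq_of_two_pow D.lam D.big h2).eq_of_lt_of_lt hs (by omega)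
    intro v
    have := hpow v
    rwa [hs0, pow_zero, pow_one] at this
  have hkι : ∀ u, k (D.ι u) = D.ι (a * u) := fun u => by rw [hk, hτ]
  have hkpow : ∀ (i : ℕ) u, (k ^ i) (D.ι u) = D.ι (a ^ i * u) := by
    intro i
    induction i with
    | zero => intro u; simp
    | succ i ih => intro u; rw [pow_succ', MulAut.mul_apply, ih, hkι, pow_succ', mul_assoc]
  refine ⟨F, fF, finF, chF,
    ⟨{ n := D.n, two_le := D.big.1, card := D.card, g := Units.mk0 a ha, orderOf_g := ?_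
       ι := D.ι, ι_add := D.ι_add, ι_inj := D.ι_inj, mem_iff := D.mem_iff, k_ι := hkι }⟩⟩
  rw [← D.card, ← Nat.card_units]
  refine orderOf_eq_card_of_forall_mem_zpowers fun u => ?_
  obtain ⟨i, hi⟩ := htr (D.ι 1) (D.ι u)
    (fun h => one_ne_zero (D.ι_inj (h.trans D.ι_zero.symm))) (D.ι_sq 1)
    (fun h => u.ne_zero (D.ι_inj (h.trans D.ι_zero.symm))) (D.ι_sq u)
  rw [hkpow, mul_one] at hi
  exact ⟨i, Units.ext (by simpa using D.ι_inj hi)⟩

end CfsgLib.TransInvol
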