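import Mathlib
import Cfsg.Agent.Lib.PGroup.TransInvol.Basic

/-!
# A maximal invariant normal abelian subgroup
-/

set_option autoImplicit false

open Subgroup
open scoped commutatorElement

namespace CfsgLib.TransInvol

variable {G : Type*} [Group G] {F : Type} [Field F]

/-- A maximal invariant normal abelian subgroup of exponent `2 ^ (k + 2)`. -/
structure MaxAb (D : Data G F) where
  /-- the subgroup -/
  A : Subgroup G
  normal : A.Normal
  comm : ∀ x ∈ A, ∀ y ∈ A, x * y = y * x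
  inv : ∀ x ∈ A, D.c x ∈ A
  E_le : D.E ≤ A
  maximal : ∀ H, D.Good H → A ≤ H → H ≤ A
  /-- the exponent is `2 ^ (k + 2)` -/
  k : ℕ
  pow_eq : ∀ a ∈ A, a ^ (2 ^ (k + 2)) = 1
  top : ∃ a ∈ A, a ^ (2 ^ (k + 1)) ≠ 1

theorem exists_maxAb [Finite G] (D : Data G F) (hG : IsPGroup 2 G) {H : Subgroup G} (hH : D.Good H)
    (hnle : ¬ H ≤ D.E) : Nonempty (MaxAb D) := by
  classical
  haveI := hH.1
  have hgood : D.Good (H ⊔ D.E) := by
    refine ⟨inferInstance, fun x hx y hy => ?_, fun x hx => ?_⟩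
    · rw [← SetLike.mem_coe, normal_mul] at hx hy
      obtain ⟨a, ha, u, hu, rfl⟩ := hx
      obtain ⟨b, hb, v, hv, rfl⟩ := hy
      have hcu : Commute u (b * v) := D.central hu _
      have hcv : Commute v a := D.central hv _
      calc a * u * (b * v) = a * ((b * v) * u) := by rw [mul_assoc, hcu.eq]
        _ = (a * b) * (v * u) := by simp only [mul_assoc]
        _ = (b * a) * (v * u) := by rw [hH.2.1 a ha b hb]
        _ = b * (a * v) * u := by simp only [mul_assoc]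
        _ = b * v * (a * u) := by rw [← hcv.eq]; simp only [mul_assoc]
    · rw [← SetLike.mem_coe, normal_mul] at hx
      obtain ⟨a, ha, u, hu, rfl⟩ := hx
      rw [map_mul]
      exact mul_mem (mem_sup_left (hH.2.2 a ha)) (mem_sup_right (D.map_mem_E D.c hu))
  obtain ⟨A, hA, hmax⟩ := (Set.toFinite {K : Subgroup G | D.Good K ∧ H ⊔ D.E ≤ K}).exists_maximal
    ⟨H ⊔ D.E, hgood, le_rfl⟩
  obtain ⟨⟨hAn, hAab, hAc⟩, hle⟩ := hA
  obtain ⟨a, ha, hae⟩ := SetLike.not_le_iff_exists.1 (fun h : A ≤ D.E => hnle ((le_sup_left.trans hle).trans h))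
  have hexp : ∃ e, ∀ x ∈ A, x ^ (2 ^ e) = 1 := by
    obtain ⟨e, he⟩ := IsPGroup.iff_card.1 hG
    exact ⟨e, fun x _ => by rw [← he]; exact pow_card_eq_one'⟩
  set e := Nat.find hexp with he
  have he2 : 2 ≤ e := by
    by_contra h
    have h1 := Nat.find_spec hexp a ha
    refine hae ?_
    show a ^ 2 = 1
    rcases (show Nat.find hexp = 0 ∨ Nat.find hexp = 1 by omega) with h0 | h0
    · rw [h0, pow_zero, pow_one] at h1; rw [h1, one_pow]
    · rw [h0, pow_one] at h1; exact h1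
  obtain ⟨k, hk⟩ : ∃ k, e = k + 2 := ⟨e - 2, by omega⟩
  refine ⟨⟨A, hAn, hAab, hAc, le_sup_right.trans hle,
    fun K hK hAK => hmax ⟨hK, hle.trans hAK⟩ hAK, k, hk ▸ Nat.find_spec hexp, ?_⟩⟩
  have hmin := Nat.find_min hexp (show k + 1 < Nat.find hexp by omega)
  push Not at hmin
  exact hmin

namespace MaxAb

variable {D : Data G F} (M : MaxAb D)

instance normal_A : M.A.Normal := M.normal

theorem commute {a b : G} (ha : a ∈ M.A) (hb : b ∈ M.A) : Commute a b := M.comm a ha b hb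

theorem pow_sq_eq {a : G} (ha : a ∈ M.A) : (a ^ (2 ^ (M.k + 1))) ^ 2 = 1 := by
  rw [← pow_mul, ← pow_succ]; exact M.pow_eq a ha

/-- The map `a ↦ a ^ 2 ^ (k + 1)` in field coordinates. -/
noncomputable def p (a : G) : F := D.co (a ^ (2 ^ (M.k + 1)))

theorem ι_p {a : G} (ha : a ∈ M.A) : D.ι (M.p a) = a ^ (2 ^ (M.k + 1)) := D.ι_co (M.pow_sq_eq ha)

theorem p_one : M.p 1 = 0 := by rw [p, one_pow, D.co_one]

theorem p_mul {a b : G} (ha : a ∈ M.A) (hb : b ∈ M.A) : M.p (a * b) = M.p a + M.p b := by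
  rw [p, (M.commute ha hb).mul_pow, D.co_mul (M.pow_sq_eq ha) (M.pow_sq_eq hb)]; rfl

theorem p_c {a : G} (ha : a ∈ M.A) : M.p (D.c a) = (D.lam : F) * M.p a := by
  rw [p, ← map_pow, D.co_c (M.pow_sq_eq ha)]; rfl

theorem p_sq {a : G} (ha : a ∈ M.A) : M.p (a ^ 2) = 0 := by
  rw [p, ← pow_mul, ← pow_succ', M.pow_eq a ha, D.co_one]

theorem p_E {a : G} (ha : a ^ 2 = 1) : M.p a = 0 := by
  rw [p, pow_succ', pow_mul, ha, one_pow, D.co_one]

theorem p_inv [CharP F 2] {a : G} (ha : a ∈ M.A) : M.p a⁻¹ = M.p a := by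
  have h := M.p_mul ha (inv_mem ha)
  rw [mul_inv_cancel, p_one] at h
  exact (CharTwo.add_eq_zero.1 h.symm).symm

variable [Finite F] [CharP F 2]

theorem exists_pow_eq {j : ℕ} (hj : j ≤ M.k + 1) {x : G} (hx : x ^ 2 = 1) :
    ∃ b ∈ M.A, b ^ (2 ^ j) = x := by
  let H : Subgroup G :=
    { carrier := {x | ∃ b ∈ M.A, b ^ (2 ^ j) = x}
      one_mem' := ⟨1, one_mem _, one_pow _⟩
      mul_mem' := fun {x y} ⟨a, ha, hax⟩ ⟨b, hb, hby⟩ =>
        ⟨a * b, mul_mem ha hb, by rw [(M.commute ha hb).mul_pow, hax, hby]⟩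
      inv_mem' := fun {x} ⟨a, ha, hax⟩ => ⟨a⁻¹, inv_mem ha, by rw [inv_pow, hax]⟩ }
  obtain ⟨a, ha, hane⟩ := M.top
  have hmem : a ^ (2 ^ (M.k + 1)) ∈ H := ⟨a ^ (2 ^ (M.k + 1 - j)), pow_mem ha _, by
    rw [← pow_mul, ← pow_add, Nat.sub_add_cancel hj]⟩
  exact D.E_le_of_invariant H (fun x ⟨b, hb, hbx⟩ => ⟨D.c b, M.inv b hb, by rw [← map_pow, hbx]⟩)
    hmem (M.pow_sq_eq ha) hane hx

theorem p_surjective (u : F) : ∃ a ∈ M.A, M.p a = u := by
  obtain ⟨a, ha, h⟩ := M.exists_pow_eq le_rfl (D.ι_sq u)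
  exact ⟨a, ha, by rw [p, h, D.co_ι]⟩

theorem exists_sq_of_pow {j : ℕ} (hj : j ≤ M.k + 1) {a : G} (ha : a ∈ M.A) (h : a ^ (2 ^ j) = 1) :
    ∃ b ∈ M.A, b ^ 2 = a := by
  induction j generalizing a with
  | zero => rw [pow_zero, pow_one] at h; exact ⟨1, one_mem _, by rw [one_pow, h]⟩
  | succ j ih =>
    obtain ⟨b, hb, hbu⟩ := M.exists_pow_eq hj (show (a ^ (2 ^ j)) ^ 2 = 1 by
      rw [← pow_mul, ← pow_succ, h])
    have hb2 : b ^ 2 ∈ M.A := pow_mem hb 2
    obtain ⟨c, hc, hce⟩ := ih (by omega) (mul_mem ha (inv_mem hb2)) (by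
      rw [(M.commute ha (inv_mem hb2)).mul_pow, inv_pow, ← pow_mul b, ← pow_succ', hbu, mul_inv_cancel])
    exact ⟨c * b, mul_mem hc hb, by rw [(M.commute hc hb).mul_pow, hce, inv_mul_cancel_right]⟩

theorem exists_sq_of_p {a : G} (ha : a ∈ M.A) (h : M.p a = 0) : ∃ b ∈ M.A, b ^ 2 = a :=
  M.exists_sq_of_pow le_rfl ha (D.eq_one_of_co (M.pow_sq_eq ha) h)

theorem eq_one_of_fixed {a : G} (ha : a ∈ M.A) (h : D.c a = a) : a = 1 := by
  have key : ∀ j, ∀ b ∈ M.A, D.c b = b → b ^ (2 ^ j) = 1 → b = 1 := by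
    intro j
    induction j with
    | zero => intro b _ _ hb; simpa using hb
    | succ j ih =>
      intro b hb hbc hb1
      refine ih b hb hbc (D.eq_one_of_fixed ?_ (by rw [map_pow, hbc]))
      rw [← pow_mul, ← pow_succ, hb1]
  exact key _ a ha h (M.pow_eq a ha)

/-- A coset fixed by the multiplier contains a fixed element. -/
theorem exists_fixed_of_coset [Finite G] {x a : G} (ha : a ∈ M.A) (hx : D.c x = x * a) :
    ∃ b ∈ M.A, D.c (x * b) = x * b := by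
  classical
  set k := orderOf D.c with hk
  have hcmem : ∀ i, (D.c ^ i) a ∈ M.A := by
    intro i
    induction i with
    | zero => simpa using ha
    | succ i ih => rw [pow_succ', MulAut.mul_apply]; exact M.inv _ ih
  letI : CommGroup M.A :=
    { (inferInstance : Group M.A) with mul_comm := fun x y => Subtype.ext (M.comm x.1 x.2 y.1 y.2) }
  let f : ℕ → M.A := fun i => ⟨(D.c ^ i) a, hcmem i⟩
  let cA : M.A →* M.A := MonoidHom.mk' (fun y => ⟨D.c y, M.inv _ y.2⟩) fun y z =>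
    Subtype.ext (map_mul D.c (y : G) z)
  have hf : ∀ i, cA (f i) = f (i + 1) := fun i => Subtype.ext (by
    show D.c ((D.c ^ i) a) = _; rw [← MulAut.mul_apply, ← pow_succ'])
  have hf0 : f 0 = ⟨a, ha⟩ := Subtype.ext rfl
  have hfk : f k = f 0 := Subtype.ext (by show (D.c ^ k) a = _; rw [hk, pow_orderOf_eq_one]; rfl)
  have hN : ∀ i, (D.c ^ i) x = x * ((∏ j ∈ Finset.range i, f j : M.A) : G) := by
    intro i
    induction i with
    | zero => simp
    | succ i ih =>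
      rw [pow_succ, MulAut.mul_apply, hx, map_mul, ih, Finset.prod_range_succ, Subgroup.coe_mul,
        mul_assoc]
  have hN1 : (∏ j ∈ Finset.range k, f j) = 1 := by
    have := hN k
    rw [hk, pow_orderOf_eq_one, MulAut.one_apply, left_eq_mul, ← hk] at this
    exact Subtype.ext this
  set b : M.A := ∏ i ∈ Finset.range k, f i ^ i
  have hb : cA b = b * ⟨a, ha⟩ ^ k := by
    have h1 : ∏ i ∈ Finset.range k, f (i + 1) ^ (i + 1) = b * f k ^ k := by
      have h2 := Finset.prod_range_succ' (fun i => f i ^ i) k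
      rw [Finset.prod_range_succ, pow_zero, mul_one] at h2
      exact h2.symm
    have h3 : ∏ i ∈ Finset.range k, f (i + 1) = 1 := by
      have h2 := Finset.prod_range_succ' f k
      rw [Finset.prod_range_succ, hN1, one_mul, hfk] at h2
      exact right_eq_mul.1 h2
    have h4 : ∏ i ∈ Finset.range k, f (i + 1) ^ (i + 1) = ∏ i ∈ Finset.range k, f (i + 1) ^ i := by
      simp only [pow_succ, Finset.prod_mul_distrib, h3, mul_one]
    rw [map_prod, Finset.prod_congr rfl fun i _ => by rw [map_pow, hf], ← h4, h1, hfk, hf0]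
  have hcop : Nat.Coprime k (2 ^ (M.k + 2)) :=
    Nat.Coprime.pow_right _ (Nat.coprime_two_right.2 D.odd)
  obtain ⟨t, -, ht⟩ := Nat.exists_mul_mod_eq_one_of_coprime hcop (Nat.one_lt_two_pow (by omega))
  refine ⟨((b ^ t)⁻¹ : M.A), SetLike.coe_mem _, ?_⟩
  have hak : ((⟨a, ha⟩ : M.A) ^ k) ^ t = ⟨a, ha⟩ := by
    refine Subtype.ext ?_
    show (a ^ k) ^ t = a
    rw [← pow_mul, ← Nat.div_add_mod (k * t) (2 ^ (M.k + 2)), pow_add, pow_mul a, M.pow_eq a ha,
      one_pow, one_mul, ht, pow_one]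
  have h5 : cA (b ^ t)⁻¹ = ⟨a, ha⟩⁻¹ * (b ^ t)⁻¹ := by
    rw [map_inv, map_pow, hb, mul_pow, hak, mul_inv_rev]
  have h6 : D.c (((b ^ t)⁻¹ : M.A) : G) = a⁻¹ * (((b ^ t)⁻¹ : M.A) : G) :=
    congrArg Subtype.val h5
  rw [map_mul, hx, h6, mul_assoc, mul_inv_cancel_left]

/-- The multiplier fixes no nontrivial coset in the layer over `A`. -/
theorem mem_of_fixed_coset [Finite G] {x : G} (hx2 : x ^ 2 ∈ M.A) (hx : x⁻¹ * D.c x ∈ M.A) :
    x ∈ M.A := by
  obtain ⟨b, hb, hfix⟩ := M.exists_fixed_of_coset hx (mul_inv_cancel_left x _).symm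
  have hsq : (x * b) ^ 2 ∈ M.A := by
    have e : (x * b) ^ 2 = x ^ 2 * (x⁻¹ * b * x⁻¹⁻¹) * b := by simp only [sq]; group
    rw [e]
    exact mul_mem (mul_mem hx2 (M.normal.conj_mem b hb x⁻¹)) hb
  have h1 : (x * b) ^ 2 = 1 := M.eq_one_of_fixed hsq (by rw [map_pow, hfix])
  have h2 : x * b ∈ M.A := M.E_le h1
  simpa using mul_mem h2 (inv_mem hb)

omit [Finite F] [CharP F 2] in
/-- Conjugation is trivial on `A` modulo squares: values. -/
theorem p_conj {a : G} (ha : a ∈ M.A) (g : G) : M.p (g * a * g⁻¹) = M.p a := by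
  rw [p, conj_pow, ← D.central (M.pow_sq_eq ha) g, mul_inv_cancel_right]; rfl

omit [Finite F] in
theorem p_commutator {a : G} (ha : a ∈ M.A) (g : G) : M.p ⁅g, a⁆ = 0 := by
  rw [commutatorElement_def, M.p_mul (M.normal.conj_mem a ha g) (inv_mem ha), M.p_conj ha,
    M.p_inv ha, CharTwo.add_self_eq_zero]

theorem exists_sq_commutator {a : G} (ha : a ∈ M.A) (g : G) : ∃ b ∈ M.A, b ^ 2 = ⁅g, a⁆ :=
  M.exists_sq_of_p (by rw [commutatorElement_def]; exact mul_mem (M.normal.conj_mem a ha g) (inv_mem ha))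
    (M.p_commutator ha g)

/-- The vanishing of compatible alternating forms. -/
theorem form_eq_zero (X : Subgroup G) (hXc : ∀ x ∈ X, D.c x ∈ X) (q : G → F)
    (hq : ∀ x ∈ X, ∀ y ∈ X, q (x * y) = q x + q y) (hqc : ∀ x ∈ X, q (D.c x) = (D.lam : F) * q x)
    {x₀ : G} (hx₀ : x₀ ∈ X) (hq₀ : q x₀ ≠ 0) (B : G → G → F)
    (hl : ∀ x ∈ X, ∀ y ∈ X, ∀ z ∈ X, B (x * y) z = B x z + B y z)
    (hr : ∀ x ∈ X, ∀ y ∈ X, ∀ z ∈ X, B x (y * z) = B x y + B x z)
    (hker : ∀ x ∈ X, q x = 0 → ∀ y ∈ X, B x y = 0 ∧ B y x = 0)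
    (halt : ∀ x ∈ X, B x x = 0)
    (hBc : ∀ x ∈ X, ∀ y ∈ X, B (D.c x) (D.c y) = (D.lam : F) * B x y) :
    ∀ x ∈ X, ∀ y ∈ X, B x y = 0 := by
  classical
  have hinv : ∀ x ∈ X, q x⁻¹ = q x := by
    intro x hx
    have h1 : q 1 = 0 := by
      have := hq 1 (one_mem X) 1 (one_mem X)
      rwa [mul_one, left_eq_add] at this
    have := hq x hx x⁻¹ (inv_mem hx)
    rw [mul_inv_cancel, h1] at this
    exact (CharTwo.add_eq_zero.1 this.symm).symm
  let S : AddSubgroup F :=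
    { carrier := {u | ∃ x ∈ X, q x = u}
      zero_mem' := by
        refine ⟨1, one_mem X, ?_⟩
        have := hq 1 (one_mem X) 1 (one_mem X)
        rwa [mul_one, left_eq_add] at this
      add_mem' := fun {u v} ⟨x, hx, hxu⟩ ⟨y, hy, hyv⟩ =>
        ⟨x * y, mul_mem hx hy, by rw [hq x hx y hy, hxu, hyv]⟩
      neg_mem' := fun {u} h => by
        show ∃ x ∈ X, q x = -u
        rwa [CharTwo.neg_eq] }
  have hS : S = ⊤ := eq_top_of_invariant D.card D.lam D.big S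
    (fun u ⟨x, hx, hxu⟩ => ⟨D.c x, hXc x hx, by rw [hqc x hx, hxu]⟩) ⟨x₀, hx₀, rfl⟩ hq₀
  choose r hrX hrq using fun u : F => (hS ▸ AddSubgroup.mem_top u : u ∈ S)
  have hdiff : ∀ x ∈ X, ∀ x' ∈ X, q x = q x' → ∀ y ∈ X, B x y = B x' y ∧ B y x = B y x' := by
    intro x hx x' hx' he y hy
    have hd : x'⁻¹ * x ∈ X := mul_mem (inv_mem hx') hx
    have h0 := hker _ hd (by rw [hq _ (inv_mem hx') x hx, hinv x' hx', he, CharTwo.add_self_eq_zero]) y hy
    refine ⟨?_, ?_⟩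
    · have := hl x' hx' _ hd y hy
      rwa [mul_inv_cancel_left, h0.1, add_zero] at this
    · have := hr y hy x' hx' _ hd
      rwa [mul_inv_cancel_left, h0.2, add_zero] at this
  have hrep : ∀ x ∈ X, ∀ y ∈ X, B (r (q x)) (r (q y)) = B x y := fun x hx y hy =>
    (hdiff _ (hrX _) x hx (hrq _) _ (hrX _)).1.trans (hdiff _ (hrX _) y hy (hrq _) x hx).2
  have hz : ∀ u v, B (r u) (r v) = 0 := by
    refine eq_zero_of_alternating D.card D.lam D.big _ (fun u v w => ?_) (fun u v w => ?_)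
      (fun u => halt _ (hrX u)) fun u v => ?_
    · rw [← hl _ (hrX u) _ (hrX v) _ (hrX w)]
      exact (hdiff _ (hrX _) _ (mul_mem (hrX u) (hrX v))
        (by rw [hrq, hq _ (hrX u) _ (hrX v), hrq, hrq]) _ (hrX w)).1
    · rw [← hr _ (hrX u) _ (hrX v) _ (hrX w)]
      exact (hdiff _ (hrX _) _ (mul_mem (hrX v) (hrX w))
        (by rw [hrq, hq _ (hrX v) _ (hrX w), hrq, hrq]) _ (hrX u)).2
    · rw [← hBc _ (hrX u) _ (hrX v), ← hrep _ (hXc _ (hrX u)) _ (hXc _ (hrX v)),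
        hqc _ (hrX u), hqc _ (hrX v), hrq, hrq]
  intro x hx y hy
  rw [← hrep x hx y hy]
  exact hz _ _

variable [Finite G]

/-- `A` is self-centralising. -/
theorem centralizer_le (hG : IsPGroup 2 G) : centralizer (M.A : Set G) ≤ M.A := by
  by_contra hne
  set C := centralizer (M.A : Set G) with hC
  set X := layer M.A ⊓ C with hX
  obtain ⟨x₀, hx₀C, hx₀L, hx₀A⟩ := exists_mem_layer hG M.A C hne
  have hcom : ∀ x ∈ X, ∀ a ∈ M.A, Commute x a := fun x hx a ha =>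
    ((mem_centralizer_iff.1 (mem_inf.1 hx).2) a ha).symm
  have hsq : ∀ x ∈ X, x ^ 2 ∈ M.A := fun x hx => (mem_layer.1 (mem_inf.1 hx).1).1
  have hbr : ∀ x ∈ X, ∀ y ∈ X, ⁅x, y⁆ ^ 2 = 1 := by
    intro x hx y hy
    have hr : ⁅x, y⁆ ∈ M.A := (mem_layer.1 (mem_inf.1 hx).1).2 y
    have h1 : ⁅x, y ^ 2⁆ = 1 :=
      commutatorElement_eq_one_iff_mul_comm.2 (hcom x hx _ (hsq y hy)).eq
    rw [sq y, commutator_mul_right, (hcom y hy _ hr).eq, mul_inv_cancel_right, ← sq] at h1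
    exact h1
  have hXc : ∀ x ∈ X, D.c x ∈ X := by
    intro x hx
    refine mem_inf.2 ⟨map_layer_mem D.c M.inv (mem_inf.1 hx).1, ?_⟩
    rw [hC, mem_centralizer_iff]
    intro a ha
    obtain ⟨n, hn⟩ : ∃ n, n + 1 = orderOf D.c := ⟨orderOf D.c - 1, by have := orderOf_pos D.c; omega⟩
    have hmem : ∀ i, (D.c ^ i) a ∈ M.A := by
      intro i
      induction i with
      | zero => simpa using ha
      | succ i ih => rw [pow_succ', MulAut.mul_apply]; exact M.inv _ ih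
    have e : D.c ((D.c ^ n) a) = a := by
      rw [← MulAut.mul_apply, ← pow_succ', hn, pow_orderOf_eq_one, MulAut.one_apply]
    rw [← e, ← map_mul, ← map_mul, (hcom x hx _ (hmem n)).eq]
  have hqadd : ∀ x ∈ X, ∀ y ∈ X, M.p ((x * y) ^ 2) = M.p (x ^ 2) + M.p (y ^ 2) := by
    intro x hx y hy
    have hr : ⁅x⁻¹, y⁆ ∈ M.A := (mem_layer.1 (mem_inf.1 (inv_mem hx)).1).2 y
    rw [mul_sq_eq, M.p_mul (mul_mem (hsq x hx) hr) (hsq y hy), M.p_mul (hsq x hx) hr,
      M.p_E (hbr _ (inv_mem hx) y hy), add_zero]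
  have hker : ∀ x ∈ X, M.p (x ^ 2) = 0 → x ∈ M.A := by
    intro x hx h0
    obtain ⟨b, hb, hbe⟩ := M.exists_sq_of_p (hsq x hx) h0
    have h1 : (x * b⁻¹) ^ 2 = 1 := by
      rw [(hcom x hx _ (inv_mem hb)).mul_pow, inv_pow, hbe, mul_inv_cancel]
    simpa using mul_mem (M.E_le h1) hb
  have hx₀X : x₀ ∈ X := mem_inf.2 ⟨hx₀L, hx₀C⟩
  have hone : ∀ a ∈ M.A, ∀ y ∈ X, ⁅a, y⁆ = 1 ∧ ⁅y, a⁆ = 1 := fun a ha y hy =>
    ⟨commutatorElement_eq_one_iff_mul_comm.2 (hcom y hy a ha).symm.eq,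
      commutatorElement_eq_one_iff_mul_comm.2 (hcom y hy a ha).eq⟩
  have hcentral : ∀ x ∈ X, ∀ y ∈ X, ∀ g, g * ⁅x, y⁆ * g⁻¹ = ⁅x, y⁆ := fun x hx y hy g => by
    rw [← D.central (hbr x hx y hy) g, mul_inv_cancel_right]
  have hβ := form_eq_zero (D := D) X hXc (fun x => M.p (x ^ 2)) hqadd
    (fun x hx => by rw [← map_pow, M.p_c (hsq x hx)]) hx₀X (fun h => hx₀A (hker x₀ hx₀X h))
    (fun x y => D.co ⁅x, y⁆)
    (fun x hx y hy z hz => by
      rw [commutator_mul_left, hcentral y hy z hz, D.co_mul (hbr y hy z hz) (hbr x hx z hz), add_comm])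
    (fun x hx y hy z hz => by
      rw [commutator_mul_right, hcentral x hx z hz, D.co_mul (hbr x hx y hy) (hbr x hx z hz)])
    (fun x hx h0 y hy => by
      obtain ⟨h1, h2⟩ := hone x (hker x hx h0) y hy
      rw [h1, h2, D.co_one]; exact ⟨rfl, rfl⟩)
    (fun x _ => by rw [commutatorElement_self, D.co_one])
    (fun x hx y hy => by rw [← map_commutatorElement, D.co_c (hbr x hx y hy)])
  have hgood : D.Good X := ⟨inferInstance,
    fun x hx y hy => commutatorElement_eq_one_iff_mul_comm.1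
      (D.eq_one_of_co (hbr x hx y hy) (hβ x hx y hy)), hXc⟩
  exact hx₀A (M.maximal X hgood
    (fun a ha => mem_inf.2 ⟨le_layer ha, mem_centralizer_iff.2 fun b hb => M.comm b hb a ha⟩) hx₀X)

end MaxAb

end CfsgLib.TransInvol
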