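import Mathlib
import Cfsg.Agent.Lib.PGroup.TransInvol.Abelian

/-!
# The action on a maximal invariant normal abelian subgroup
-/

set_option autoImplicit false

open Subgroup
open scoped commutatorElement

namespace CfsgLib.TransInvol.MaxAb

variable {G : Type*} [Group G] {F : Type} [Field F] {D : Data G F} (M : MaxAb D)

/-- `x` moves every element of `A` within `A ^ 2 ^ r`. -/
def Lev (r : ℕ) (x : G) : Prop := ∀ a ∈ M.A, ∃ b ∈ M.A, b ^ (2 ^ r) = ⁅x, a⁆

theorem commutator_mem {a : G} (ha : a ∈ M.A) (x : G) : ⁅x, a⁆ ∈ M.A := by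
  rw [commutatorElement_def]
  exact mul_mem (M.normal.conj_mem a ha x) (inv_mem ha)

theorem commutator_mul {a b : G} (ha : a ∈ M.A) (hb : b ∈ M.A) (x : G) :
    ⁅x, a * b⁆ = ⁅x, a⁆ * ⁅x, b⁆ := by
  rw [commutator_mul_right, (M.commute ha (M.commutator_mem hb x)).eq, mul_inv_cancel_right]

theorem commutator_pow {a : G} (ha : a ∈ M.A) (x : G) (n : ℕ) : ⁅x, a ^ n⁆ = ⁅x, a⁆ ^ n := by
  induction n with
  | zero => rw [pow_zero, pow_zero, commutatorElement_one_right]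
  | succ n ih => rw [pow_succ, M.commutator_mul (pow_mem ha n) ha, ih, ← pow_succ]

theorem commutator_mul_left' {a : G} (ha : a ∈ M.A) (x y : G) :
    ⁅x * y, a⁆ = ⁅x, ⁅y, a⁆⁆ * ⁅y, a⁆ * ⁅x, a⁆ := by
  rw [commutator_mul_left, conj_eq_commutator_mul x]

variable [Finite F] [CharP F 2]

theorem lev_one (x : G) : M.Lev 1 x := fun _ ha => by
  rw [pow_one]; exact M.exists_sq_commutator ha x

/-- The values of the induced maps. -/
noncomputable def val (_M : MaxAb D) (s : ℕ) (x a : G) : F := D.co (⁅x, a⁆ ^ (2 ^ s))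

variable {r s : ℕ} (hrs : r + s = M.k + 1)
include hrs

theorem val_sq {x a : G} (hx : M.Lev r x) (ha : a ∈ M.A) : (⁅x, a⁆ ^ (2 ^ s)) ^ 2 = 1 := by
  obtain ⟨b, hb, hbe⟩ := hx a ha
  rw [← hbe, ← pow_mul, ← pow_mul, ← pow_succ, ← pow_add, show r + (s + 1) = M.k + 2 by omega]
  exact M.pow_eq b hb

theorem val_add_right {x a b : G} (hx : M.Lev r x) (ha : a ∈ M.A) (hb : b ∈ M.A) :
    M.val s x (a * b) = M.val s x a + M.val s x b := by
  rw [val, M.commutator_mul ha hb, (M.commute (M.commutator_mem ha x) (M.commutator_mem hb x)).mul_pow,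
    D.co_mul (M.val_sq hrs hx ha) (M.val_sq hrs hx hb)]
  rfl

theorem val_sq_right {x b : G} (hx : M.Lev r x) (hb : b ∈ M.A) : M.val s x (b ^ 2) = 0 := by
  rw [val, M.commutator_pow hb, ← pow_mul, mul_comm, pow_mul, M.val_sq hrs hx hb, D.co_one]

theorem val_eq_of_p {x a a' : G} (hx : M.Lev r x) (ha : a ∈ M.A) (ha' : a' ∈ M.A)
    (h : M.p a = M.p a') : M.val s x a = M.val s x a' := by
  obtain ⟨b, hb, hbe⟩ := M.exists_sq_of_p (mul_mem ha (inv_mem ha'))
    (by rw [M.p_mul ha (inv_mem ha'), M.p_inv ha', h, CharTwo.add_self_eq_zero])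
  have e : a = b ^ 2 * a' := by rw [hbe, inv_mul_cancel_right]
  rw [e, M.val_add_right hrs hx (pow_mem hb 2) ha', M.val_sq_right hrs hx hb, zero_add]

theorem val_add_left {x y a : G} (hx : M.Lev r x) (hy : M.Lev r y) (ha : a ∈ M.A) :
    M.val s (x * y) a = M.val s x a + M.val s y a := by
  have h1 : ⁅x, ⁅y, a⁆⁆ ^ (2 ^ s) = 1 := by
    obtain ⟨b, hb, hbe⟩ := hy a ha
    obtain ⟨d, hd, hde⟩ := M.exists_sq_commutator hb x
    rw [← hbe, M.commutator_pow hb, ← pow_mul, ← pow_add, hrs, ← hde, ← pow_mul, ← pow_succ',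
      M.pow_eq d hd]
  rw [val, M.commutator_mul_left' ha,
    (M.commute (mul_mem (M.commutator_mem (M.commutator_mem ha y) x) (M.commutator_mem ha y))
      (M.commutator_mem ha x)).mul_pow,
    (M.commute (M.commutator_mem (M.commutator_mem ha y) x) (M.commutator_mem ha y)).mul_pow, h1,
    one_mul, D.co_mul (M.val_sq hrs hy ha) (M.val_sq hrs hx ha), add_comm]
  rfl

theorem val_c {x a : G} (hx : M.Lev r x) (ha : a ∈ M.A) :
    M.val s (D.c x) (D.c a) = (D.lam : F) * M.val s x a := by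
  rw [val, ← map_commutatorElement, ← map_pow, D.co_c (M.val_sq hrs hx ha)]; rfl

theorem lev_succ {x : G} (hx : M.Lev r x) (h0 : ∀ a ∈ M.A, M.val s x a = 0) : M.Lev (r + 1) x := by
  intro a ha
  obtain ⟨b, hb, hbe⟩ := hx a ha
  have h1 := D.eq_one_of_co (M.val_sq hrs hx ha) (h0 a ha)
  rw [← hbe, ← pow_mul, ← pow_add, hrs] at h1
  obtain ⟨d, hd, hde⟩ := M.exists_sq_of_pow le_rfl hb h1
  exact ⟨d, hd, by rw [pow_succ', pow_mul, hde, hbe]⟩

omit hrs

theorem val_one_left {a : G} : M.val s 1 a = 0 := by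
  rw [val, commutatorElement_one_left, one_pow, D.co_one]

/-- The elements of the layer acting trivially on `A` modulo fourth powers. -/
def ker₁ : Subgroup G where
  carrier := {x | x ∈ layer M.A ∧ ∀ a ∈ M.A, M.val M.k x a = 0}
  one_mem' := ⟨one_mem _, fun _ _ => M.val_one_left⟩
  mul_mem' := fun {x y} hx hy => ⟨mul_mem hx.1 hy.1, fun a ha => by
    rw [M.val_add_left (r := 1) (add_comm _ _) (M.lev_one x) (M.lev_one y) ha, hx.2 a ha, hy.2 a ha,
      add_zero]⟩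
  inv_mem' := fun {x} hx => ⟨inv_mem hx.1, fun a ha => by
    have h := M.val_add_left (r := 1) (add_comm _ _) (M.lev_one x) (M.lev_one x⁻¹) ha
    rw [mul_inv_cancel, M.val_one_left, hx.2 a ha, zero_add] at h
    exact h.symm⟩

theorem lev_two_of_ker {x : G} (hx : x ∈ M.ker₁) : M.Lev 2 x :=
  M.lev_succ (r := 1) (add_comm _ _) (M.lev_one x) hx.2

theorem c_inv_mem [Finite G] {a : G} (ha : a ∈ M.A) : D.c.symm a ∈ M.A := by
  have e : ∀ n, (D.c ^ n) a ∈ M.A := by
    intro n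
    induction n with
    | zero => simpa using ha
    | succ n ih => rw [pow_succ', MulAut.mul_apply]; exact M.inv _ ih
  have h := e (orderOf D.c - 1)
  have h2 : D.c ((D.c ^ (orderOf D.c - 1)) a) = a := by
    rw [← MulAut.mul_apply, ← pow_succ', Nat.sub_add_cancel (orderOf_pos D.c), pow_orderOf_eq_one,
      MulAut.one_apply]
  rwa [← (MulEquiv.eq_symm_apply _).2 h2]

theorem c_mem_ker [Finite G] {x : G} (hx : x ∈ M.ker₁) : D.c x ∈ M.ker₁ := by
  refine ⟨map_layer_mem D.c M.inv hx.1, fun a ha => ?_⟩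
  rw [← D.c.apply_symm_apply a, M.val_c (r := 1) (add_comm _ _) (M.lev_one x) (M.c_inv_mem ha),
    hx.2 _ (M.c_inv_mem ha), mul_zero]

theorem p_sq_add {x y : G} (hx : x ∈ M.ker₁) (hy : y ∈ M.ker₁) :
    M.p ((x * y) ^ 2) = M.p (x ^ 2) + M.p (y ^ 2) := by
  have hx' : x⁻¹ ∈ M.ker₁ := inv_mem hx
  have hy2 : y ^ 2 ∈ M.A := (mem_layer.1 hy.1).1
  have hx2 : x ^ 2 ∈ M.A := (mem_layer.1 hx.1).1
  set r := ⁅x⁻¹, y⁆ with hr
  have hrA : r ∈ M.A := (mem_layer.1 hx'.1).2 y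
  obtain ⟨b, hb, hbe⟩ := M.lev_two_of_ker hx' _ hy2
  obtain ⟨d, hd, hde⟩ := M.lev_two_of_ker hy r hrA
  have h1 : b ^ (2 ^ 2) = d ^ (2 ^ 2) * r ^ 2 := by
    rw [hbe, hde, sq y, commutator_mul_right, ← hr, conj_eq_commutator_mul y r, sq r, ← mul_assoc,
      (M.commute hrA (M.commutator_mem hrA y)).eq, mul_assoc]
  have hw : (b * d⁻¹) ^ 2 ∈ M.A := pow_mem (mul_mem hb (inv_mem hd)) 2
  have hE : (r * ((b * d⁻¹) ^ 2)⁻¹) ^ 2 = 1 := by
    rw [(M.commute hrA (inv_mem hw)).mul_pow, inv_pow, mul_inv_eq_one, ← pow_mul,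
      show 2 * 2 = 2 ^ 2 from rfl, (M.commute hb (inv_mem hd)).mul_pow, inv_pow, h1,
      (M.commute (pow_mem hd _) (pow_mem hrA 2)).eq, mul_inv_cancel_right]
  have hp : M.p r = 0 := by
    rw [show r = r * ((b * d⁻¹) ^ 2)⁻¹ * (b * d⁻¹) ^ 2 from (inv_mul_cancel_right _ _).symm,
      M.p_mul (M.E_le hE) hw, M.p_E hE, M.p_sq (mul_mem hb (inv_mem hd)), add_zero]
  rw [mul_sq_eq, ← hr, M.p_mul (mul_mem hx2 hrA) hy2, M.p_mul hx2 hrA, hp, add_zero]

theorem mem_of_p_sq {x : G} (hx : x ∈ M.ker₁) (h0 : M.p (x ^ 2) = 0) : x ∈ M.A := by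
  have hx2 : x ^ 2 ∈ M.A := (mem_layer.1 hx.1).1
  have key : ∀ i, ∀ j, 1 ≤ j → M.k + 2 ≤ j + i → ∀ b ∈ M.A,
      ∃ a ∈ M.A, a ^ 2 * ⁅x, a⁆ = b ^ (2 ^ j) := by
    intro i
    induction i with
    | zero =>
      intro j _ hj b hb
      refine ⟨1, one_mem _, ?_⟩
      obtain ⟨t, rfl⟩ : ∃ t, j = M.k + 2 + t := ⟨j - (M.k + 2), by omega⟩
      rw [pow_add, pow_mul, M.pow_eq b hb, one_pow, one_pow, commutatorElement_one_right, one_mul]
    | succ i ih =>
      intro j hj1 hj b hb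
      obtain ⟨d, hd, hde⟩ := M.lev_two_of_ker hx b hb
      obtain ⟨a, ha, hae⟩ := ih (j + 1) (by omega) (by omega) d⁻¹ (inv_mem hd)
      obtain ⟨t, rfl⟩ : ∃ t, j = t + 1 := ⟨j - 1, by omega⟩
      refine ⟨b ^ (2 ^ t) * a, mul_mem (pow_mem hb _) ha, ?_⟩
      rw [M.commutator_mul (pow_mem hb _) ha, M.commutator_pow hb, (M.commute (pow_mem hb _) ha).mul_pow,
        mul_assoc, ← mul_assoc (a ^ 2),
        (M.commute (pow_mem ha 2) (pow_mem (M.commutator_mem hb x) _)).eq, mul_assoc _ (a ^ 2), hae,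
        ← pow_mul b, ← pow_succ, ← hde, ← pow_mul d, ← pow_add, inv_pow,
        show 2 + t = t + 1 + 1 by omega, mul_inv_cancel, mul_one]
  obtain ⟨c, hc, hce⟩ := M.exists_sq_of_p hx2 h0
  obtain ⟨a, ha, hae⟩ := key (M.k + 1) 1 le_rfl (by omega) c⁻¹ (inv_mem hc)
  rw [pow_one, inv_pow, hce] at hae
  have h1 : (x * a) ^ 2 = 1 := by
    have e : (x * a) ^ 2 = (⁅x, a⁆ * a * x ^ 2) * a := by
      simp only [commutatorElement_def, sq]; group
    rw [e, mul_assoc, ← (M.commute ha hx2).eq, ← mul_assoc, mul_assoc ⁅x, a⁆, ← sq,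
      ← (M.commute (pow_mem ha 2) (M.commutator_mem ha x)).eq, hae, inv_mul_cancel]
  simpa using mul_mem (M.E_le h1) (inv_mem ha)

variable [Finite G]

/-- The layer acts faithfully on `A` modulo fourth powers. -/
theorem mem_of_val (hG : IsPGroup 2 G) {x : G} (hx : x ∈ layer M.A)
    (h0 : ∀ a ∈ M.A, M.val M.k x a = 0) : x ∈ M.A := by
  have hxk : x ∈ M.ker₁ := ⟨hx, h0⟩
  by_contra hxA
  have hq0 : M.p (x ^ 2) ≠ 0 := fun h => hxA (M.mem_of_p_sq hxk h)
  have hsq : ∀ y ∈ M.ker₁, y ^ 2 ∈ M.A := fun y hy => (mem_layer.1 hy.1).1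
  have key : ∀ r, 2 ≤ r → r ≤ M.k + 2 → ∀ y ∈ M.ker₁, M.Lev r y := by
    intro r hr
    induction r, hr using Nat.le_induction with
    | base => intro _ y hy; exact M.lev_two_of_ker hy
    | succ r hr ih =>
      intro hrk
      have hlev := ih (by omega)
      have hrs : r + (M.k + 1 - r) = M.k + 1 := by omega
      set s := M.k + 1 - r
      have hform := form_eq_zero (D := D) M.ker₁ (fun y hy => M.c_mem_ker hy)
        (fun y => M.p (y ^ 2)) (fun y hy z hz => M.p_sq_add hy hz)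
        (fun y hy => by rw [← map_pow, M.p_c (hsq y hy)]) hxk hq0
        (fun y z => M.val s y (z ^ 2))
        (fun y hy z hz w hw => M.val_add_left hrs (hlev y hy) (hlev z hz) (hsq w hw))
        (fun y hy z hz w hw => by
          rw [← M.val_add_right hrs (hlev y hy) (hsq z hz) (hsq w hw)]
          exact M.val_eq_of_p hrs (hlev y hy) (hsq _ (mul_mem hz hw))
            (mul_mem (hsq z hz) (hsq w hw)) (by rw [M.p_sq_add hz hw, M.p_mul (hsq z hz) (hsq w hw)]))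
        (fun y hy h0 z hz => by
          have hyA := M.mem_of_p_sq hy h0
          refine ⟨?_, M.val_sq_right hrs (hlev z hz) hyA⟩
          rw [val, commutatorElement_eq_one_iff_mul_comm.2 (M.comm y hyA _ (hsq z hz)), one_pow,
            D.co_one])
        (fun y _ => by
          rw [val, commutatorElement_eq_one_iff_mul_comm.2 (Commute.self_pow y 2).eq, one_pow,
            D.co_one])
        (fun y hy z hz => by rw [← map_pow, M.val_c hrs (hlev y hy) (hsq z hz)])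
      intro y hy
      refine M.lev_succ hrs (hlev y hy) fun a ha => ?_
      let S : AddSubgroup F :=
        { carrier := {u | ∃ z ∈ M.ker₁, M.p (z ^ 2) = u}
          zero_mem' := ⟨1, one_mem _, by rw [one_pow, M.p_one]⟩
          add_mem' := fun {u v} ⟨z, hz, hzu⟩ ⟨w, hw, hwv⟩ =>
            ⟨z * w, mul_mem hz hw, by rw [M.p_sq_add hz hw, hzu, hwv]⟩
          neg_mem' := fun {u} h => by
            show ∃ z ∈ M.ker₁, M.p (z ^ 2) = -u
            rwa [CharTwo.neg_eq] }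
      have hS : S = ⊤ := eq_top_of_invariant D.card D.lam D.big S
        (fun u ⟨z, hz, hzu⟩ => ⟨D.c z, M.c_mem_ker hz, by rw [← map_pow, M.p_c (hsq z hz), hzu]⟩)
        ⟨x, hxk, rfl⟩ hq0
      obtain ⟨z, hz, hza⟩ := (hS ▸ AddSubgroup.mem_top _ : M.p a ∈ S)
      rw [M.val_eq_of_p hrs (hlev y hy) ha (hsq z hz) hza.symm]
      exact hform y hy z hz
  refine hxA (M.centralizer_le hG (mem_centralizer_iff.2 fun a ha => ?_))
  obtain ⟨b, hb, hbe⟩ := key (M.k + 2) (by omega) le_rfl x hxk a ha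
  rw [M.pow_eq b hb] at hbe
  exact (commutatorElement_eq_one_iff_mul_comm.1 hbe.symm).symm

/-- A choice of preimages under `p`. -/
noncomputable def rep (u : F) : G := (M.p_surjective u).choose

omit [Finite G] in
theorem rep_mem (u : F) : M.rep u ∈ M.A := (M.p_surjective u).choose_spec.1

omit [Finite G] in
theorem p_rep (u : F) : M.p (M.rep u) = u := (M.p_surjective u).choose_spec.2

/-- The map of `F` induced by `x`. -/
noncomputable def lin (x : G) : F →+ F :=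
  AddMonoidHom.mk' (fun u => M.val M.k x (M.rep u)) fun u v => by
    rw [← M.val_add_right (r := 1) (add_comm _ _) (M.lev_one x) (M.rep_mem u) (M.rep_mem v)]
    exact M.val_eq_of_p (r := 1) (add_comm _ _) (M.lev_one x) (M.rep_mem _)
      (mul_mem (M.rep_mem u) (M.rep_mem v))
      (by rw [M.p_rep, M.p_mul (M.rep_mem u) (M.rep_mem v), M.p_rep, M.p_rep])

omit [Finite G] in
theorem lin_p {a : G} (ha : a ∈ M.A) (x : G) : M.lin x (M.p a) = M.val M.k x a :=
  M.val_eq_of_p (r := 1) (add_comm _ _) (M.lev_one x) (M.rep_mem _) ha (M.p_rep _)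

omit [Finite G] in
theorem lin_mul (x y : G) : M.lin (x * y) = M.lin x + M.lin y :=
  AddMonoidHom.ext fun u =>
    M.val_add_left (r := 1) (add_comm _ _) (M.lev_one x) (M.lev_one y) (M.rep_mem u)

omit [Finite G] in
theorem lin_of_mem {x : G} (hx : x ∈ M.A) : M.lin x = 0 :=
  AddMonoidHom.ext fun u => by
    show M.val M.k x (M.rep u) = 0
    rw [val, commutatorElement_eq_one_iff_mul_comm.2 (M.comm x hx _ (M.rep_mem u)), one_pow, D.co_one]

omit [Finite G] in
theorem lin_c (x : G) : M.lin (D.c x) = (AddMonoidHom.mulLeft (D.lam : F)).comp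
    ((M.lin x).comp (AddMonoidHom.mulLeft ((D.lam⁻¹ : Fˣ) : F))) := by
  refine AddMonoidHom.ext fun u => ?_
  obtain ⟨a, ha, rfl⟩ := M.p_surjective u
  obtain ⟨b, hb, hbe⟩ := M.p_surjective (((D.lam⁻¹ : Fˣ) : F) * M.p a)
  have h : M.p (D.c b) = M.p a := by rw [M.p_c hb, hbe, Units.mul_inv_cancel_left]
  rw [AddMonoidHom.comp_apply, AddMonoidHom.comp_apply, AddMonoidHom.coe_mulLeft,
    AddMonoidHom.coe_mulLeft, ← h, M.lin_p (M.inv b hb), M.val_c (r := 1) (add_comm _ _) (M.lev_one x) hb,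
    ← M.lin_p hb, h, hbe]

omit [Finite G] in
theorem lin_one : M.lin 1 = 0 := M.lin_of_mem (one_mem _)

omit [Finite G] in
theorem lin_inv (x : G) : M.lin x⁻¹ = M.lin x := by
  have h := M.lin_mul x x⁻¹
  rw [mul_inv_cancel, M.lin_one] at h
  ext u
  have h2 := DFunLike.congr_fun h u
  exact (CharTwo.add_eq_zero.1 h2.symm).symm

/-- The maps induced by the layer. -/
noncomputable def image : AddSubgroup (F →+ F) where
  carrier := {f | ∃ x ∈ layer M.A, M.lin x = f}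
  zero_mem' := ⟨1, one_mem _, M.lin_one⟩
  add_mem' := fun {f g} ⟨x, hx, hxf⟩ ⟨y, hy, hyg⟩ =>
    ⟨x * y, mul_mem hx hy, by rw [M.lin_mul, hxf, hyg]⟩
  neg_mem' := fun {f} ⟨x, hx, hxf⟩ => ⟨x, hx, by
    rw [hxf]; ext u; simp [CharTwo.neg_eq]⟩

theorem mem_of_lin (hG : IsPGroup 2 G) {x : G} (hx : x ∈ layer M.A) (h : M.lin x = 0) : x ∈ M.A :=
  M.mem_of_val hG hx fun a ha => by rw [← M.lin_p ha, h]; rfl

omit [Finite G] in
theorem image_invariant : ∀ f ∈ M.image, (AddMonoidHom.mulLeft (D.lam : F)).comp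
    (f.comp (AddMonoidHom.mulLeft ((D.lam⁻¹ : Fˣ) : F))) ∈ M.image := by
  rintro f ⟨x, hx, rfl⟩
  exact ⟨D.c x, map_layer_mem D.c M.inv hx, M.lin_c x⟩

/-- No nonzero scalar map is induced. -/
theorem scalar_eq_zero (hG : IsPGroup 2 G) {c : F} {h : ℕ} (hh : h ≡ 0 [MOD D.n])
    (hmem : mono c h ∈ M.image) : c = 0 := by
  obtain ⟨x, hx, hxe⟩ := hmem
  have hfix : M.lin (D.c x) = M.lin x := by
    rw [M.lin_c, hxe]
    ext u
    rw [mono_mod D.card c h, show h % D.n = 0 from hh]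
    simp only [AddMonoidHom.comp_apply, AddMonoidHom.coe_mulLeft, mono_apply, pow_zero, pow_one]
    rw [mul_left_comm c, Units.mul_inv_cancel_left]
  have h1 : x⁻¹ * D.c x ∈ M.A := M.mem_of_lin hG (mul_mem (inv_mem hx) (map_layer_mem D.c M.inv hx))
    (by rw [M.lin_mul, M.lin_inv, hfix]; ext u; exact CharTwo.add_self_eq_zero _)
  have h2 := M.lin_of_mem (M.mem_of_fixed_coset (mem_layer.1 hx).1 h1)
  rw [hxe] at h2
  simpa using DFunLike.congr_fun h2 1

end CfsgLib.TransInvol.MaxAb
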