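import Mathlib
import Cfsg.Agent.Lib.PGroup.TransInvol.Kernel

/-!
# The exponent of the maximal invariant abelian subgroup, and the conclusion
-/

set_option autoImplicit false

open Subgroup
open scoped commutatorElement

namespace CfsgLib.TransInvol.MaxAb

variable {G : Type*} [Group G] [Finite G] {F : Type} [Field F] [Finite F] [CharP F 2]
  {D : Data G F} (M : MaxAb D)

theorem lin_idempotent (hk : 1 ≤ M.k) {x : G} (hx : x ∈ layer M.A) (u : F) :
    M.lin x (M.lin x u) = M.lin x u := by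
  obtain ⟨a, ha, rfl⟩ := M.p_surjective u
  obtain ⟨b, hb, hbe⟩ := M.exists_sq_commutator ha x
  obtain ⟨d, hd, hde⟩ := M.exists_sq_commutator hb x
  have hval : ∀ {w z}, z ^ 2 = ⁅x, w⁆ → M.val M.k x w = M.p z := by
    intro w z h
    rw [val, ← h, ← pow_mul, ← pow_succ']; rfl
  rw [M.lin_p ha, hval hbe, M.lin_p hb, hval hde]
  have hx2 : ⁅x ^ 2, a⁆ = 1 :=
    commutatorElement_eq_one_iff_mul_comm.2 (M.comm _ (mem_layer.1 hx).1 a ha)
  rw [sq x, M.commutator_mul_left' ha, ← hbe, M.commutator_pow hb, ← hde, ← pow_mul, mul_assoc,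
    ← sq (b ^ 2), ← pow_mul, show 2 * 2 = 4 from rfl, ← (M.commute hd hb).mul_pow] at hx2
  have hp : M.p (d * b) = 0 := by
    obtain ⟨j, hj⟩ : ∃ j, M.k + 1 = 2 + j := ⟨M.k - 1, by omega⟩
    rw [p, hj, pow_add, pow_mul, show (2 : ℕ) ^ 2 = 4 from rfl, hx2, one_pow, D.co_one]
  rw [M.p_mul hd hb] at hp
  exact CharTwo.add_eq_zero.1 hp

theorem exists_not_mem (hG : IsPGroup 2 G) (hna : ¬ IsMulCommutative G) :
    ∃ x ∈ layer M.A, x ∉ M.A := by
  obtain ⟨x, -, hx, hxA⟩ := exists_mem_layer hG M.A ⊤ fun h => hna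
    ⟨⟨fun a b => M.comm a (h (mem_top a)) b (h (mem_top b))⟩⟩
  exact ⟨x, hx, hxA⟩

theorem components (x : G) (hx : x ∈ layer M.A) :
    ∃ a : Fin D.n → F, M.lin x = ∑ i, mono (a i) (i : ℕ) ∧ ∀ i, mono (a i) (i : ℕ) ∈ M.image :=
  exists_components D.card D.lam D.big M.image M.image_invariant ⟨x, hx, rfl⟩

/-- The exponent is four. -/
theorem k_eq_zero (hG : IsPGroup 2 G) (hna : ¬ IsMulCommutative G) : M.k = 0 := by
  by_contra hk
  obtain ⟨x, hx, hxA⟩ := M.exists_not_mem hG hna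
  obtain ⟨a, ha, hmem⟩ := M.components x hx
  refine hxA (M.mem_of_lin hG hx ?_)
  rw [ha]
  refine Finset.sum_eq_zero fun i _ => ?_
  have hc : a i = 0 := by
    by_contra hc
    refine hc (M.scalar_eq_zero hG ?_ (hmem i))
    obtain ⟨y, hy, hye⟩ := hmem i
    have h2 : mono (a i * a i ^ (2 ^ (i : ℕ))) ((i : ℕ) + i) = mono (a i) (i : ℕ) := by
      ext v
      have h := M.lin_idempotent (Nat.pos_of_ne_zero hk) hy v
      rw [hye, mono_apply, mono_apply, mul_pow, ← pow_mul, ← pow_add, ← mul_assoc] at h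
      simpa using h
    have h3 := (mono_inj D.lam D.big (mul_ne_zero hc (pow_ne_zero _ hc)) h2).2
    exact Nat.ModEq.add_right_cancel' (i : ℕ) (by rwa [zero_add])
  rw [hc]; ext v; simp

section Four

variable (hk : M.k = 0) (hG : IsPGroup 2 G)
include hk hG

theorem mem_of_lin_zero {g : G} (h : M.lin g = 0) : g ∈ M.A := by
  refine M.centralizer_le hG (mem_centralizer_iff.2 fun a ha => ?_)
  have h1 : M.val M.k g a = 0 := by rw [← M.lin_p ha, h]; rfl
  have h2 := M.val_sq (s := M.k) (r := 1) (add_comm _ _) (M.lev_one g) ha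
  rw [val, hk, pow_zero, pow_one] at h1
  rw [hk, pow_zero, pow_one] at h2
  exact (commutatorElement_eq_one_iff_mul_comm.1 (D.eq_one_of_co h2 h1)).symm

theorem sq_mem (g : G) : g ^ 2 ∈ M.A := M.mem_of_lin_zero hk hG (by
  rw [sq, M.lin_mul]; ext u; exact CharTwo.add_self_eq_zero _)

theorem layer_top (g : G) : g ∈ layer M.A :=
  mem_layer.2 ⟨M.sq_mem hk hG g, fun h => by
    rw [commutator_eq_squares]
    exact mul_mem (mul_mem (M.sq_mem hk hG _) (M.sq_mem hk hG _)) (M.sq_mem hk hG _)⟩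

theorem commutator_mem_A (g h : G) : ⁅g, h⁆ ∈ M.A := (mem_layer.1 (M.layer_top hk hG g)).2 h

omit hk in
theorem p_conj' {a : G} (ha : a ∈ M.A) (g : G) : M.p (g * a * g⁻¹) = M.p a := M.p_conj ha g

theorem beta_add_right (g h l : G) : M.p ⁅g, h * l⁆ = M.p ⁅g, h⁆ + M.p ⁅g, l⁆ := by
  rw [commutator_mul_right, M.p_mul (M.commutator_mem_A hk hG g h)
    (M.normal.conj_mem _ (M.commutator_mem_A hk hG g l) h), M.p_conj (M.commutator_mem_A hk hG g l)]

theorem beta_comm (g h : G) : M.p ⁅h, g⁆ = M.p ⁅g, h⁆ := by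
  rw [← commutatorElement_inv g h, M.p_inv (M.commutator_mem_A hk hG g h)]

theorem beta_add_left (g h l : G) : M.p ⁅g * h, l⁆ = M.p ⁅g, l⁆ + M.p ⁅h, l⁆ := by
  rw [M.beta_comm hk hG l, M.beta_add_right hk hG, M.beta_comm hk hG g, M.beta_comm hk hG h]

theorem quad_mul (g h : G) :
    M.p ((g * h) ^ 2) = M.p (g ^ 2) + M.p (h ^ 2) + M.p ⁅g, h⁆ := by
  have hb : M.p ⁅g⁻¹, h⁆ = M.p ⁅g, h⁆ := by
    have := M.beta_add_left hk hG g g⁻¹ h
    rw [mul_inv_cancel, commutatorElement_one_left, M.p_one] at this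
    exact (CharTwo.add_eq_zero.1 this.symm).symm
  rw [mul_sq_eq, M.p_mul (mul_mem (M.sq_mem hk hG g) (M.commutator_mem_A hk hG _ _)) (M.sq_mem hk hG h),
    M.p_mul (M.sq_mem hk hG g) (M.commutator_mem_A hk hG _ _), hb]
  abel

omit hk in
theorem beta_of_mem {a : G} (ha : a ∈ M.A) (g : G) : M.p ⁅g, a⁆ = 0 := M.p_commutator ha g

theorem beta_congr {g g' : G} (h : M.lin g = M.lin g') (l : G) : M.p ⁅g, l⁆ = M.p ⁅g', l⁆ := by
  have hd : g'⁻¹ * g ∈ M.A := M.mem_of_lin_zero hk hG (by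
    rw [M.lin_mul, M.lin_inv, h]; ext u; exact CharTwo.add_self_eq_zero _)
  have h1 := M.beta_add_left hk hG g' (g'⁻¹ * g) l
  rwa [mul_inv_cancel_left, M.beta_comm hk hG l (g'⁻¹ * g), M.beta_of_mem hG hd, add_zero] at h1

theorem lin_quad (g h : G) : M.lin g (M.p (h ^ 2)) = M.p ⁅g, h⁆ + M.lin h (M.p ⁅g, h⁆) := by
  have hr := M.commutator_mem_A hk hG g h
  have h2 := M.val_sq (s := M.k) (r := 1) (add_comm _ _) (M.lev_one h) hr
  have hp : M.p ⁅g, h⁆ = D.co (⁅g, h⁆ ^ 2) := by rw [p, hk]; rfl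
  have hr2 : (⁅g, h⁆ ^ 2) ^ 2 = 1 := by
    have := M.pow_eq _ hr
    rw [hk] at this
    rw [← pow_mul]; exact this
  rw [M.lin_p (M.sq_mem hk hG h), M.lin_p hr, val, val, hk, pow_zero, pow_one, pow_one, hp,
    ← D.co_mul hr2 (by rw [hk, pow_zero, pow_one] at h2; exact h2)]
  congr 1
  rw [sq h, commutator_mul_right, conj_eq_commutator_mul h ⁅g, h⁆,
    (M.commute (M.commutator_mem hr h) hr).eq, ← mul_assoc, ← sq]

theorem lin_quad_self (g : G) : M.lin g (M.p (g ^ 2)) = 0 := by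
  rw [M.lin_p (M.sq_mem hk hG g), val,
    commutatorElement_eq_one_iff_mul_comm.2 (Commute.self_pow g 2).eq, one_pow, D.co_one]

theorem quad_pure {g : G} {c : F} {i : ℕ} (h : M.lin g = mono c i) : M.p (g ^ 2) = 0 := by
  by_cases hc : c = 0
  · have hgA : g ∈ M.A := M.mem_of_lin_zero hk hG (by rw [h, hc]; ext u; simp)
    exact M.p_sq hgA
  · have h1 := M.lin_quad_self hk hG g
    rw [h, mono_apply] at h1
    rcases mul_eq_zero.1 h1 with h2 | h2
    · exact absurd h2 hc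
    · exact pow_eq_zero_iff (Nat.two_pow_pos i).ne' |>.1 h2

theorem beta_rel {g g' : G} {c c' : F} {i i' : ℕ} (h : M.lin g = mono c i) (h' : M.lin g' = mono c' i') :
    c * M.p ⁅g, g'⁆ ^ (2 ^ i) = M.p ⁅g, g'⁆ := by
  have h1 := M.lin_quad hk hG g' g
  rw [h', M.quad_pure hk hG h, map_zero, h, mono_apply, M.beta_comm hk hG g g'] at h1
  exact (CharTwo.add_eq_zero.1 h1.symm).symm

/-- The bound for a pair of components with nonzero form. -/
theorem pair_bound {g g' : G} {c c' : F} {i i' : ℕ} (h : M.lin g = mono c i)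
    (h' : M.lin g' = mono c' i') (hi' : ¬ i' ≡ 0 [MOD D.n]) (hne : M.p ⁅g, g'⁆ ≠ 0) :
    (({e | mono e i ∈ M.image} : Set F) \ {0}).ncard.succ ^ 2 ≤ Nat.card F := by
  set x := M.p ⁅g, g'⁆ with hx
  have hrel : c * x ^ (2 ^ i) = x := M.beta_rel hk hG h h'
  have hc : c ≠ 0 := by
    rintro rfl
    rw [zero_mul] at hrel
    exact hne hrel.symm
  set κ := x ^ (2 ^ i) / c with hκ
  have hκ0 : κ ≠ 0 := div_ne_zero (pow_ne_zero _ hne) hc
  have key : ∀ e, mono e i ∈ M.image → ∀ ge, M.lin ge = mono e i →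
      M.p ⁅ge, g'⁆ = κ * e ^ 2 ∧ (κ * e ^ 2) ^ (2 ^ i) = κ * e := by
    rintro e - ge hge
    set y := M.p ⁅ge, g'⁆
    have hy : e * y ^ (2 ^ i) = y := M.beta_rel hk hG hge h'
    have hsum : M.lin (g * ge) = mono (c + e) i := by
      rw [M.lin_mul, h, hge]; ext v; simp [add_mul]
    have hxy := M.beta_rel hk hG hsum h'
    rw [M.beta_add_left hk hG, add_pow_expChar_pow] at hxy
    have h2 : c * y ^ (2 ^ i) + e * x ^ (2 ^ i) = 0 := by linear_combination hxy - hrel - hy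
    have h3 : y ^ (2 ^ i) = κ * e := by
      rw [hκ, div_mul_eq_mul_div, eq_div_iff hc]
      linear_combination CharTwo.add_eq_zero.1 h2
    have h4 : y = κ * e ^ 2 := by rw [← hy, h3]; ring
    exact ⟨h4, h4 ▸ h3⟩
  by_cases hi : i + 1 ≡ 0 [MOD D.n]
  · exfalso
    have hid : ∀ v : F, (v ^ (2 ^ i)) ^ 2 = v := fun v => by
      rw [← pow_mul, ← pow_succ, pow_two_pow_mod D.card, show (i + 1) % D.n = 0 from hi, pow_zero,
        pow_one]
    obtain ⟨hxc, h5⟩ := key c ⟨g, M.layer_top hk hG g, h⟩ g h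
    rw [mul_pow, ← pow_mul c, mul_comm 2, pow_mul c, hid] at h5
    have h6 : κ ^ (2 ^ i) = κ := mul_right_cancel₀ hc h5
    have h7 : κ ^ 2 = κ := by
      have := hid κ
      rwa [h6] at this
    have hκ1 : κ = 1 := mul_left_cancel₀ hκ0 (by rw [mul_one, ← sq]; exact h7)
    have hge : M.lin (D.c g) = mono ((D.lam : F) * ((D.lam⁻¹ : Fˣ) : F) ^ (2 ^ i) * c) i := by
      rw [M.lin_c, h]
      ext v
      simp only [AddMonoidHom.comp_apply, AddMonoidHom.coe_mulLeft, mono_apply, mul_pow]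
      ring
    obtain ⟨hy, -⟩ := key _ ⟨D.c g, M.layer_top hk hG _, hge⟩ _ hge
    have hrel' := M.beta_rel hk hG h' hge
    rw [M.beta_comm hk hG (D.c g) g', hy, hκ1, one_mul] at hrel'
    have hrel0 := M.beta_rel hk hG h' h
    rw [M.beta_comm hk hG g g', hxc, hκ1, one_mul] at hrel0
    have hμ : ((D.lam : F) * ((D.lam⁻¹ : Fˣ) : F) ^ (2 ^ i)) ^ 2 = D.lam := by
      rw [mul_pow, hid, sq, mul_assoc, Units.mul_inv, mul_one]
    rw [mul_pow, hμ, mul_pow] at hrel'
    refine hi' (eq_of_two_pow D.lam D.big ?_)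
    rw [pow_zero, pow_one]
    refine mul_right_cancel₀ (pow_ne_zero 2 hc) ?_
    linear_combination hrel' - (D.lam : F) ^ (2 ^ i') * hrel0
  · refine card_semiquad_sq_le D.lam D.big hi _ (κ / κ ^ (2 ^ i)) fun e he _ => ?_
    obtain ⟨ge, -, hge⟩ := id (he : mono e i ∈ M.image)
    obtain ⟨-, h5⟩ := key e he ge hge
    have h0 : κ ^ (2 ^ i) ≠ 0 := pow_ne_zero _ hκ0
    rw [mul_pow, ← pow_mul e, mul_comm 2, pow_mul e] at h5
    rw [div_mul_eq_mul_div, eq_div_iff h0, mul_comm, h5]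

omit hk hG in
theorem lin_map {y : MulAut G} (hyA : ∀ a ∈ M.A, y a ∈ M.A) {α : F} {τ : F ≃+* F}
    (hy : ∀ v, y (D.ι v) = D.ι (α * τ v)) {g : G} {c : F} {i : ℕ} (h : M.lin g = mono c i) :
    M.lin (y g) = mono (α * τ c / α ^ (2 ^ i)) i := by
  have hco : ∀ z, z ^ 2 = 1 → D.co (y z) = α * τ (D.co z) := by
    intro z hz
    conv_lhs => rw [← D.ι_co hz, hy, D.co_ι]
  have hp : ∀ a ∈ M.A, M.p (y a) = α * τ (M.p a) := fun a ha => by
    rw [p, ← map_pow, hco _ (M.pow_sq_eq ha)]; rfl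
  have hα : α ≠ 0 := by
    rintro rfl
    have h2 := (hy 1).trans (by rw [zero_mul])
    have h3 : y (D.ι 1) = y (D.ι 0) := h2.trans (by rw [hy 0, zero_mul])
    exact one_ne_zero (D.ι_inj (y.injective h3))
  refine AddMonoidHom.ext fun v => ?_
  obtain ⟨a, ha, hae⟩ := M.p_surjective (τ.symm (v / α))
  have hv : M.p (y a) = v := by rw [hp a ha, hae, RingEquiv.apply_symm_apply, mul_div_cancel₀ _ hα]
  conv_lhs => rw [← hv, M.lin_p (hyA a ha)]
  rw [val, ← map_commutatorElement, ← map_pow,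
    hco _ (M.val_sq (r := 1) (add_comm _ _) (M.lev_one g) ha)]
  have h4 : D.co (⁅g, a⁆ ^ (2 ^ M.k)) = c * M.p a ^ (2 ^ i) := by
    show M.val M.k g a = _
    rw [← M.lin_p ha, h, mono_apply]
  rw [h4, mono_apply, hae, map_mul, map_pow, RingEquiv.apply_symm_apply, div_pow]
  field_simp

theorem stable_of_quad {g₀ : G} (h : M.p (g₀ ^ 2) ≠ 0) (y : MulAut G) :
    ∀ a ∈ M.A, y a ∈ M.A := by
  set S := {x : G | x ^ 2 = 1} ∪ Set.range (fun g : G => g ^ 2)
  have hSA : closure S ≤ M.A := (closure_le _).2 fun z hz => by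
    rcases hz with hz | ⟨g, rfl⟩
    · exact M.E_le hz
    · exact M.sq_mem hk hG g
  have hmap : ∀ (f : MulAut G), ∀ z ∈ closure S, f z ∈ closure S := by
    intro f z hz
    have : (closure S).map f.toMonoidHom ≤ closure S := by
      rw [MonoidHom.map_closure, closure_le]
      rintro _ ⟨s, hs, rfl⟩
      refine subset_closure ?_
      rcases hs with hs | ⟨a, rfl⟩
      · exact Or.inl (by show _ ^ 2 = (1 : G); rw [← map_pow, hs, map_one])
      · exact Or.inr ⟨f a, by simp⟩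
    exact this ⟨z, hz, rfl⟩
  have hA : M.A ≤ closure S := by
    let T : AddSubgroup F :=
      { carrier := {u | ∃ z ∈ closure S, M.p z = u}
        zero_mem' := ⟨1, one_mem _, M.p_one⟩
        add_mem' := fun {u v} ⟨z, hz, hzu⟩ ⟨w, hw, hwv⟩ =>
          ⟨z * w, mul_mem hz hw, by rw [M.p_mul (hSA hz) (hSA hw), hzu, hwv]⟩
        neg_mem' := fun {u} h => by
          show ∃ z ∈ closure S, M.p z = -u
          rwa [CharTwo.neg_eq] }
    have hT : T = ⊤ := eq_top_of_invariant D.card D.lam D.big T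
      (fun u ⟨z, hz, hzu⟩ => ⟨D.c z, hmap _ z hz, by rw [M.p_c (hSA hz), hzu]⟩)
      ⟨g₀ ^ 2, subset_closure (Or.inr ⟨g₀, rfl⟩), rfl⟩ h
    intro a ha
    obtain ⟨z, hz, hza⟩ := (hT ▸ AddSubgroup.mem_top _ : M.p a ∈ T)
    have hzA := hSA hz
    obtain ⟨b, hb, hbe⟩ := M.exists_sq_of_p (mul_mem ha (inv_mem hzA))
      (by rw [M.p_mul ha (inv_mem hzA), M.p_inv hzA, hza, CharTwo.add_self_eq_zero])
    have := mul_mem (Subgroup.subset_closure (show a * z⁻¹ ∈ S from Or.inr ⟨b, hbe⟩)) hz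
    rwa [inv_mul_cancel_right] at this
  exact fun a ha => hSA (hmap y a (hA ha))

/-- Homogeneous elements of different degrees commute modulo `A ^ 2`. -/
theorem beta_pure {g g' : G} {c c' : F} {i i' : Fin D.n} (h : M.lin g = mono c (i : ℕ))
    (h' : M.lin g' = mono c' (i' : ℕ)) : M.p ⁅g, g'⁆ = 0 := by
  by_cases hii : i = i'
  · subst hii
    have hs : M.lin (g * g') = mono (c + c') (i : ℕ) := by
      rw [M.lin_mul, h, h']; ext v; simp [add_mul]
    have hq := M.quad_mul hk hG g g'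
    rw [M.quad_pure hk hG hs, M.quad_pure hk hG h, M.quad_pure hk hG h', zero_add, zero_add] at hq
    exact hq.symm
  by_contra hne
  have hcA : ∀ {z : G} {d : F} {j : ℕ}, M.lin z = mono d j → j ≡ 0 [MOD D.n] → z ∈ M.A := by
    intro z d j hz hj
    have hd := M.scalar_eq_zero hG hj ⟨z, M.layer_top hk hG z, hz⟩
    exact M.mem_of_lin_zero hk hG (by rw [hz, hd]; ext v; simp)
  have hi : ¬ (i : ℕ) ≡ 0 [MOD D.n] := fun hj => hne (by
    rw [M.beta_comm hk hG g' g, M.beta_of_mem hG (hcA h hj)])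
  have hi' : ¬ (i' : ℕ) ≡ 0 [MOD D.n] := fun hj => hne (M.beta_of_mem hG (hcA h' hj) g)
  set C := ({e | mono e (i : ℕ) ∈ M.image} : Set F) \ {0}
  set C' := ({e | mono e (i' : ℕ) ∈ M.image} : Set F) \ {0}
  have hb : C.ncard.succ ^ 2 ≤ Nat.card F := M.pair_bound hk hG h h' hi' hne
  have hb' : C'.ncard.succ ^ 2 ≤ Nat.card F :=
    M.pair_bound hk hG h' h hi (by rwa [M.beta_comm hk hG g g'])
  obtain ⟨g₀, hg₀⟩ : ∃ g₀, M.p (g₀ ^ 2) ≠ 0 := by
    refine ⟨g * g', ?_⟩
    rwa [M.quad_mul hk hG, M.quad_pure hk hG h, M.quad_pure hk hG h', zero_add, zero_add]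
  classical
  let f : F × F → F := fun e =>
    if he : (∃ z, M.lin z = mono e.1 (i : ℕ)) ∧ ∃ z, M.lin z = mono e.2 (i' : ℕ) then
      M.p ⁅he.1.choose, he.2.choose⁆ else 0
  set V := {v : F | v ≠ 0 ∧ ∃ z z', (∃ e, M.lin z = mono e (i : ℕ)) ∧
    (∃ e, M.lin z' = mono e (i' : ℕ)) ∧ M.p ⁅z, z'⁆ = v}
  have hsub : V ⊆ f '' (C ×ˢ C') := by
    rintro v ⟨hv, z, z', ⟨e, he⟩, ⟨e', he'⟩, hzz⟩
    have hz0 : e ≠ 0 := by
      rintro rfl
      have hzA := M.mem_of_lin_zero hk hG (g := z) (by rw [he]; ext u; simp)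
      rw [M.beta_comm hk hG z' z, M.beta_of_mem hG hzA] at hzz
      exact hv hzz.symm
    have hz0' : e' ≠ 0 := by
      rintro rfl
      have hzA := M.mem_of_lin_zero hk hG (g := z') (by rw [he']; ext u; simp)
      rw [M.beta_of_mem hG hzA] at hzz
      exact hv hzz.symm
    refine ⟨(e, e'), ⟨⟨⟨z, M.layer_top hk hG z, he⟩, hz0⟩, ⟨z', M.layer_top hk hG z', he'⟩, hz0'⟩, ?_⟩
    have hcond : (∃ w, M.lin w = mono (e, e').1 (i : ℕ)) ∧ ∃ w, M.lin w = mono (e, e').2 (i' : ℕ) :=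
      ⟨⟨z, he⟩, z', he'⟩
    show (if he : _ then _ else _) = v
    rw [dif_pos hcond, M.beta_congr hk hG (hcond.1.choose_spec.trans he.symm),
      M.beta_comm hk hG _ z, M.beta_congr hk hG (hcond.2.choose_spec.trans he'.symm),
      M.beta_comm hk hG z z', hzz]
  have hall : ({0} : Set F)ᶜ ⊆ V := by
    intro v hv
    obtain ⟨y, hy, hyv⟩ := D.trans _ v hne hv
    obtain ⟨α, τ, hατ⟩ := D.semi y hy
    have hyA := M.stable_of_quad hk hG hg₀ y
    refine ⟨hv, y g, y g', ⟨_, M.lin_map hyA hατ h⟩, ⟨_, M.lin_map hyA hατ h'⟩, ?_⟩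
    rw [← map_commutatorElement, p, ← map_pow]
    have := M.pow_sq_eq (M.commutator_mem_A hk hG g g')
    rw [← D.ι_co this, hατ, D.co_ι]
    exact D.ι_inj ((hατ _).symm.trans hyv)
  have h1 : Nat.card F - 1 ≤ C.ncard * C'.ncard := by
    have := (Set.ncard_le_ncard hall (Set.toFinite _)).trans
      ((Set.ncard_le_ncard hsub (Set.toFinite _)).trans (Set.ncard_image_le (Set.toFinite _)))
    rwa [Set.ncard_compl, Set.ncard_singleton, Set.ncard_prod] at this
  have hq : 2 ≤ Nat.card F := Finite.one_lt_card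
  have hmul : C.ncard.succ * C'.ncard.succ ≤ Nat.card F := by
    by_contra hlt
    push Not at hlt
    rw [sq] at hb hb'
    have := Nat.mul_le_mul hb hb'
    have h2 := Nat.mul_self_lt_mul_self hlt
    nlinarith
  rw [Nat.succ_mul, Nat.mul_succ] at hmul
  have h0 : C.ncard = 0 ∧ C'.ncard = 0 := by omega
  rw [h0.1, zero_mul] at h1
  omega

/-- All squares lie in the kernel of `p`. -/
theorem quad_zero (g : G) : M.p (g ^ 2) = 0 := by
  classical
  have hbeta : ∀ (g' : G) (c' : F) (i' : Fin D.n), M.lin g' = mono c' (i' : ℕ) →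
      ∀ z : G, M.p ⁅z, g'⁆ = 0 := by
    intro g' c' i' h' z
    obtain ⟨a, ha, hmem⟩ := M.components z (M.layer_top hk hG z)
    have key : ∀ s : Finset (Fin D.n), ∀ w, M.lin w = ∑ j ∈ s, mono (a j) (j : ℕ) →
        M.p ⁅w, g'⁆ = 0 := by
      intro s
      induction s using Finset.induction_on with
      | empty =>
        intro w hw
        rw [Finset.sum_empty] at hw
        rw [M.beta_comm hk hG g' w, M.beta_of_mem hG (M.mem_of_lin_zero hk hG hw)]
      | insert j s hj ih =>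
        intro w hw
        obtain ⟨wj, -, hwj⟩ := hmem j
        have h2 : M.lin (wj * w) = ∑ j ∈ s, mono (a j) (j : ℕ) := by
          rw [M.lin_mul, hwj, hw, Finset.sum_insert hj, ← add_assoc]
          ext u; simp [CharTwo.add_self_eq_zero]
        have h3 := M.beta_add_left hk hG wj w g'
        rwa [ih _ h2, M.beta_pure hk hG hwj h', zero_add, eq_comm] at h3
    exact key Finset.univ z ha
  obtain ⟨a, ha, hmem⟩ := M.components g (M.layer_top hk hG g)
  have key : ∀ s : Finset (Fin D.n), ∀ w, M.lin w = ∑ j ∈ s, mono (a j) (j : ℕ) →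
      M.p (w ^ 2) = 0 := by
    intro s
    induction s using Finset.induction_on with
    | empty =>
      intro w hw
      rw [Finset.sum_empty] at hw
      exact M.p_sq (M.mem_of_lin_zero hk hG hw)
    | insert j s hj ih =>
      intro w hw
      obtain ⟨wj, -, hwj⟩ := hmem j
      have h2 : M.lin (wj * w) = ∑ j ∈ s, mono (a j) (j : ℕ) := by
        rw [M.lin_mul, hwj, hw, Finset.sum_insert hj, ← add_assoc]
        ext u; simp [CharTwo.add_self_eq_zero]
      have h3 := M.quad_mul hk hG wj w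
      rwa [ih _ h2, M.quad_pure hk hG hwj, M.beta_comm hk hG w wj, hbeta wj _ j hwj w, zero_add,
        add_zero, eq_comm] at h3
  exact key Finset.univ g ha

theorem center_sq (hna : ¬ IsMulCommutative G) {z : G} (hz : z ∈ center G) : z ^ 2 = 1 := by
  have hle : center G ≤ M.A := fun w hw => M.centralizer_le hG
    (mem_centralizer_iff.2 fun a _ => mem_center_iff.1 hw a)
  have hzA := hle hz
  by_contra hne
  have hp : M.p z ≠ 0 := by
    intro h0
    refine hne ?_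
    have := D.eq_one_of_co (M.pow_sq_eq hzA) h0
    rwa [hk] at this
  let T : AddSubgroup F :=
    { carrier := {u | ∃ w ∈ center G, M.p w = u}
      zero_mem' := ⟨1, one_mem _, M.p_one⟩
      add_mem' := fun {u v} ⟨w, hw, hwu⟩ ⟨w', hw', hwv⟩ =>
        ⟨w * w', mul_mem hw hw', by rw [M.p_mul (hle hw) (hle hw'), hwu, hwv]⟩
      neg_mem' := fun {u} h => by
        show ∃ w ∈ center G, M.p w = -u
        rwa [CharTwo.neg_eq] }
  have hT : T = ⊤ := eq_top_of_invariant D.card D.lam D.big T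
    (fun u ⟨w, hw, hwu⟩ => ⟨D.c w, mem_center_iff.2 fun v => by
      have h := congrArg D.c (mem_center_iff.1 hw (D.c.symm v))
      rwa [map_mul, map_mul, MulEquiv.apply_symm_apply] at h, by rw [M.p_c (hle hw), hwu]⟩)
    ⟨z, hz, rfl⟩ hp
  have hAZ : M.A ≤ center G := by
    intro a ha
    obtain ⟨w, hw, hwa⟩ := (hT ▸ AddSubgroup.mem_top _ : M.p a ∈ T)
    obtain ⟨b, hb, hbe⟩ := M.exists_sq_of_p (mul_mem ha (inv_mem (hle hw)))
      (by rw [M.p_mul ha (inv_mem (hle hw)), M.p_inv (hle hw), hwa, CharTwo.add_self_eq_zero])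
    have hb2 : (b ^ 2) ^ 2 = 1 := by
      have := M.pow_eq b hb
      rw [hk] at this
      rw [← pow_mul]; exact this
    have := mul_mem (mem_center_iff.2 fun v => (D.central hb2 v).symm) hw
    rwa [hbe, inv_mul_cancel_right] at this
  have htop : ∀ v, v ∈ M.A := fun v => M.centralizer_le hG
    (mem_centralizer_iff.2 fun a ha => (mem_center_iff.1 (hAZ ha) v).symm)
  exact hna ⟨⟨fun a b => M.comm a (htop a) b (htop b)⟩⟩

theorem sq_sq_eq_one (g : G) : (g ^ 2) ^ 2 = 1 := by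
  have := D.eq_one_of_co (M.pow_sq_eq (M.sq_mem hk hG g)) (M.quad_zero hk hG g)
  rwa [hk] at this

end Four

end CfsgLib.TransInvol.MaxAb

namespace CfsgLib.TransInvol

/-- A finite nonabelian two-group with at least two involutions and a solvable group of
automorphisms transitive on them is special with all involutions central. -/
theorem special_of_transitive {G : Type*} [Group G] [Finite G] (hG : IsPGroup 2 G)
    (hna : ¬ IsMulCommutative G) (htwo : ∃ x y : G, x ≠ y ∧ x ≠ 1 ∧ x ^ 2 = 1 ∧ y ≠ 1 ∧ y ^ 2 = 1)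
    (Y : Subgroup (MulAut G)) [Group.IsSolvable Y]
    (htr : ∀ x y : G, x ≠ 1 → x ^ 2 = 1 → y ≠ 1 → y ^ 2 = 1 → ∃ a ∈ Y, a x = y) :
    commutator G = frattini G ∧ frattini G = center G ∧ ∀ x : G, x ∈ center G ↔ x ^ 2 = 1 := by
  haveI : Fact (Nat.Prime 2) := ⟨Nat.prime_two⟩
  obtain ⟨x₀, y₀, -, hx₀, hx₀2, -, -⟩ := id htwo
  have hcen : ∀ x : G, x ^ 2 = 1 → ∀ g, x * g = g * x := by
    haveI : Nontrivial G := ⟨⟨x₀, 1, hx₀⟩⟩
    haveI := hG.center_nontrivial
    obtain ⟨⟨z, hz⟩, hzo⟩ := exists_prime_orderOf_dvd_card' (G := center G) 2 (by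
      obtain ⟨k, hk⟩ := IsPGroup.iff_card.1 (hG.to_subgroup (center G))
      rcases Nat.eq_zero_or_pos k with rfl | h0
      · exact absurd hk (by simpa using (Finite.one_lt_card (α := center G)).ne')
      · exact hk ▸ dvd_pow_self 2 h0.ne')
    rw [← Subgroup.orderOf_coe, orderOf_eq_prime_iff] at hzo
    intro x hx g
    by_cases hx1 : x = 1
    · rw [hx1, one_mul, mul_one]
    obtain ⟨a, -, rfl⟩ := htr z x hzo.2 hzo.1 hx1 hx
    have h := congrArg a (mem_center_iff.1 hz (a.symm g))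
    rw [map_mul, map_mul, MulEquiv.apply_symm_apply] at h
    exact h.symm
  obtain ⟨F, fF, finF, chF, D, -⟩ := exists_data htwo hcen Y htr
  by_cases hsmall : ∀ H, D.Good H → H ≤ D.E
  · obtain ⟨hsq, hZ⟩ := D.squares_of_small hG hsmall
    exact D.conclude hG hna hsq hZ
  · push Not at hsmall
    obtain ⟨H, hH, hnle⟩ := hsmall
    obtain ⟨M⟩ := exists_maxAb D hG hH hnle
    have hk := M.k_eq_zero hG hna
    exact D.conclude hG hna (M.sq_sq_eq_one hk hG) fun z hz => M.center_sq hk hG hna hz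

end CfsgLib.TransInvol
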