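import Mathlib

/-!
# Anisotropic quadratic maps between vector spaces over the field with two elements
-/

set_option autoImplicit false

open MvPolynomial

namespace CfsgLib.TransInvol

theorem finrank_le_of_anisotropic {V W : Type*} [AddCommGroup V] [Module (ZMod 2) V] [Finite V]
    [AddCommGroup W] [Module (ZMod 2) W] [Finite W] (q : V → W)
    (β : V →ₗ[ZMod 2] V →ₗ[ZMod 2] W) (hq : ∀ v w, q (v + w) = q v + q w + β v w)
    (haniso : ∀ v, q v = 0 → v = 0) :
    Module.finrank (ZMod 2) V ≤ 2 * Module.finrank (ZMod 2) W := by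
  classical
  haveI : Module.Finite (ZMod 2) V := Module.Finite.of_finite
  haveI : Module.Finite (ZMod 2) W := Module.Finite.of_finite
  set d := Module.finrank (ZMod 2) V
  set n := Module.finrank (ZMod 2) W
  have b : Module.Basis (Fin d) (ZMod 2) V := Module.finBasis (ZMod 2) V
  have c : Module.Basis (Fin n) (ZMod 2) W := Module.finBasis (ZMod 2) W
  have hneg : ∀ w : W, w + w = 0 := fun w => by
    rw [← two_smul (ZMod 2), show (2 : ZMod 2) = 0 from rfl, zero_smul]
  have hq0 : q 0 = 0 := by
    have h := hq 0 0
    rw [add_zero, map_zero, add_zero, hneg] at h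
    exact h
  have hdiag : ∀ v, β v v = 0 := by
    intro v
    have h := hq v v
    rw [show v + v = 0 by rw [← two_smul (ZMod 2), show (2 : ZMod 2) = 0 from rfl, zero_smul], hq0,
      hneg, zero_add] at h
    exact h.symm
  have hsym : ∀ v w, β v w = β w v := by
    intro v w
    have h1 := hq v w
    rw [add_comm v w, hq w v, add_comm (q w) (q v)] at h1
    exact (add_left_cancel h1).symm
  let Bc : Fin d → Fin d → W := fun i j =>
    if i = j then q (b i) else if i < j then β (b i) (b j) else 0
  let B : V →ₗ[ZMod 2] V →ₗ[ZMod 2] W := b.constr (ZMod 2) fun i => b.constr (ZMod 2) (Bc i)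
  have hB : ∀ i j, B (b i) (b j) = Bc i j := fun i j => by
    rw [show B (b i) = b.constr (ZMod 2) (Bc i) from b.constr_basis _ _ i, b.constr_basis]
  have hβB : β + (B + B.flip) = 0 := by
    refine b.ext fun i => b.ext fun j => ?_
    simp only [LinearMap.add_apply, LinearMap.flip_apply, hB, LinearMap.zero_apply, Bc]
    rcases lt_trichotomy i j with h | h | h
    · simp [h.ne, h.ne', h, h.not_gt, hneg]
    · subst h; simp [hdiag, hneg]
    · simp [h.ne, h.ne', h, h.not_gt, hsym (b j) (b i), hneg]
  let D : V →+ W := AddMonoidHom.mk' (fun v => q v + B v v) fun v w => by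
    have h := LinearMap.congr_fun (LinearMap.congr_fun hβB v) w
    simp only [LinearMap.add_apply, LinearMap.flip_apply, LinearMap.zero_apply] at h
    simp only [hq, map_add, LinearMap.add_apply]
    calc _ = (q v + B v v) + (q w + B w w) + (β v w + (B v w + B w v)) := by abel
      _ = _ := by rw [h, add_zero]
  have hD : D.toZModLinearMap 2 = 0 := b.ext fun i => by
    show q (b i) + B (b i) (b i) = 0
    rw [hB]; simp [Bc, hneg]
  have hqB : ∀ v, q v = B v v := by
    intro v
    have h : q v + B v v = 0 := LinearMap.congr_fun hD v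
    calc q v = q v + (B v v + B v v) := by rw [hneg, add_zero]
      _ = B v v := by rw [← add_assoc, h, zero_add]
  by_contra hlt
  push Not at hlt
  let f : Fin n → MvPolynomial (Fin d) (ZMod 2) := fun l =>
    ∑ i, ∑ j, C (c.repr (Bc i j) l) * (X i * X j)
  have heval : ∀ x l, eval x (f l) = c.repr (q (b.equivFun.symm x)) l := by
    intro x l
    rw [hqB, b.equivFun_symm_apply]
    simp only [f, map_sum, map_mul, eval_C, eval_X, LinearMap.sum_apply, map_smul,
      LinearMap.smul_apply, hB, Finsupp.coe_finsetSum, Finset.sum_apply, Finsupp.smul_apply,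
      smul_eq_mul]
    simp only [Finset.mul_sum]
    rw [Finset.sum_comm]
    refine Finset.sum_congr rfl fun i _ => Finset.sum_congr rfl fun j _ => by ring
  have hdeg : (∑ l, (f l).totalDegree) < Fintype.card (Fin d) := by
    rw [Fintype.card_fin]
    refine lt_of_le_of_lt (Finset.sum_le_card_nsmul _ _ 2 fun l _ => ?_) (by simpa [mul_comm] using hlt)
    refine totalDegree_finsetSum_le fun i _ => totalDegree_finsetSum_le fun j _ => ?_
    refine (totalDegree_mul _ _).trans ?_
    rw [totalDegree_C, zero_add]
    exact (totalDegree_mul _ _).trans (by simp)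
  have h2 := char_dvd_card_solutions_of_fintype_sum_lt 2 hdeg
  have h1 : Nat.card {x : Fin d → ZMod 2 // ∀ l, eval x (f l) = 0} = 1 := by
    rw [Nat.card_eq_fintype_card, Fintype.card_eq_one_iff]
    refine ⟨⟨0, fun l => by rw [heval, map_zero, hq0, map_zero]; rfl⟩, fun ⟨x, hx⟩ => Subtype.ext ?_⟩
    have h0 : q (b.equivFun.symm x) = 0 := c.repr.map_eq_zero_iff.1 (Finsupp.ext fun l => by
      rw [← heval, hx l]; rfl)
    exact b.equivFun.symm.map_eq_zero_iff.1 (haniso _ h0)
  rw [@Nat.card_eq_fintype_card _ _] at h1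
  have h3 : 2 ∣ 1 := h2.trans (dvd_of_eq (by convert h1))
  norm_num at h3

end CfsgLib.TransInvol
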