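import Mathlib
import Cfsg.Prelude.Def_LieRecognition
import Cfsg.Agent.Lib.PGroup.TransInvol.Final
import Cfsg.Agent.Lib.PGroup.TransInvol.Cyclic
import Cfsg.Agent.Lib.PGroup.TransInvol.Quadratic

/-!
# Suzuki two-groups: the squaring map on the central quotient
-/

set_option autoImplicit false

open Subgroup
open scoped commutatorElement

namespace CfsgLib.TransInvol

/-- The data of a Suzuki two-group. -/
structure Suz (P : Type*) [Group P] (F : Type) [Field F] (k : MulAut P) extends Singer P F k where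
  center_iff : ∀ z : P, z ∈ center P ↔ z ^ 2 = 1
  sq_mem : ∀ x : P, x ^ 2 ∈ center P
  comm_mem : ∀ x y : P, ⁅x, y⁆ ∈ center P
  k_pow : k ^ (2 ^ n - 1) = 1
  nonab : ∃ x y : P, x * y ≠ y * x

theorem exists_suz {P : Type*} [Group P] (hP : Cfsg.IsSuzukiTwoGroup P) :
    ∃ (F : Type) (_ : Field F) (_ : Finite F) (_ : CharP F 2) (k : MulAut P), Nonempty (Suz P F k) := by
  obtain ⟨hfin, hG, ⟨a, b, hab⟩, ⟨u, v, huv, hu, hu2, hv, hv2⟩, K, hKc, hK⟩ := hP
  haveI := hfin
  haveI := hKc
  have htwo : ∃ x y : P, x ≠ y ∧ x ≠ 1 ∧ x ^ 2 = 1 ∧ y ≠ 1 ∧ y ^ 2 = 1 :=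
    ⟨u, v, huv, hu, by rw [sq, hu2], hv, by rw [sq, hv2]⟩
  haveI : Group.IsSolvable K := Group.isSolvable_of_comm fun x y =>
    (IsCyclic.commGroup (α := K)).mul_comm x y
  have htr : ∀ x y : P, x ≠ 1 → x ^ 2 = 1 → y ≠ 1 → y ^ 2 = 1 → ∃ a ∈ K, a x = y := by
    intro x y hx hx2 hy hy2
    obtain ⟨k, hk, -⟩ := hK x y hx (by rw [← sq, hx2]) hy (by rw [← sq, hy2])
    exact ⟨k, k.2, hk⟩
  obtain ⟨hGΦ, hΦZ, hZ⟩ := special_of_transitive hG (fun h => hab (h.is_comm.comm a b)) htwo K htr
  obtain ⟨⟨k, hk⟩, hgen⟩ := IsCyclic.exists_monoid_generator (α := K)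
  have htr' : ∀ x y : P, x ≠ 1 → x ^ 2 = 1 → y ≠ 1 → y ^ 2 = 1 → ∃ i : ℕ, (k ^ i) x = y := by
    intro x y hx hx2 hy hy2
    obtain ⟨f, hf, hfx⟩ := htr x y hx hx2 hy hy2
    obtain ⟨i, hi⟩ := Submonoid.mem_powers_iff _ _ |>.1 (hgen ⟨f, hf⟩)
    exact ⟨i, by rw [← hfx]; exact DFunLike.congr_fun (congrArg Subtype.val hi) x⟩
  obtain ⟨F, fF, finF, chF, ⟨S⟩⟩ := exists_singer htwo
    (fun x hx g => ((mem_center_iff.1 ((hZ x).2 hx)) g).symm) k htr'
  haveI : Fact (Nat.Prime 2) := ⟨Nat.prime_two⟩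
  refine ⟨F, fF, finF, chF, k, ⟨{ S with
    center_iff := hZ
    sq_mem := fun x => hΦZ.le (CfsgLib.Coprime.pow_mem_frattini hG x)
    comm_mem := fun x y => hΦZ.le (hGΦ.le (commutator_mem_commutator (mem_top x) (mem_top y)))
    k_pow := ?_
    nonab := ⟨a, b, hab⟩ }⟩⟩
  have hpow : ∀ (i : ℕ) w, (k ^ i) (S.ι w) = S.ι ((S.g : F) ^ i * w) := by
    intro i
    induction i with
    | zero => intro w; simp
    | succ i ih => intro w; rw [pow_succ', MulAut.mul_apply, ih, S.k_ι, pow_succ', mul_assoc]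
  obtain ⟨w, rfl⟩ := (S.mem_iff u).1 (by rw [sq, hu2])
  obtain ⟨f, -, huniq⟩ := hK (S.ι w) (S.ι w) hu hu2 hu hu2
  have h1 := huniq ⟨k ^ (2 ^ S.n - 1), pow_mem hk _⟩ (by
    show (k ^ (2 ^ S.n - 1)) (S.ι w) = S.ι w
    rw [hpow, ← Units.val_pow_eq_pow_val, ← S.orderOf_g, pow_orderOf_eq_one, Units.val_one, one_mul])
  exact congrArg Subtype.val (h1.trans (huniq 1 rfl).symm)

namespace Suz

variable {P : Type*} [Group P] {F : Type} [Field F] {k : MulAut P} (S : Suz P F k)
include S

/-- Field coordinate of a central element. -/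
noncomputable def coord (_S : Suz P F k) : P → F := Function.invFun _S.ι

theorem ι_coord {z : P} (hz : z ∈ center P) : S.ι (S.coord z) = z :=
  Function.invFun_eq ((S.mem_iff z).1 ((S.center_iff z).1 hz))

theorem coord_ι (u : F) : S.coord (S.ι u) = u := Function.leftInverse_invFun S.ι_inj u

theorem ι_mem (u : F) : S.ι u ∈ center P := (S.center_iff _).2 ((S.mem_iff _).2 ⟨u, rfl⟩)

theorem coord_mul {x y : P} (hx : x ∈ center P) (hy : y ∈ center P) :
    S.coord (x * y) = S.coord x + S.coord y := by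
  apply S.ι_inj
  rw [S.ι_coord (mul_mem hx hy), S.ι_add, S.ι_coord hx, S.ι_coord hy]

theorem coord_k {z : P} (hz : z ∈ center P) : S.coord (k z) = (S.g : F) * S.coord z := by
  conv_lhs => rw [← S.ι_coord hz, S.k_ι, S.coord_ι]

theorem coord_one : S.coord 1 = 0 := by
  have h := S.coord_mul (one_mem (center P)) (one_mem (center P))
  rwa [mul_one, left_eq_add] at h

theorem coord_eq_zero {z : P} (hz : z ∈ center P) (h : S.coord z = 0) : z = 1 := by
  have h0 : S.ι 0 * S.ι 0 = S.ι 0 := by rw [← S.ι_add, add_zero]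
  rw [← S.ι_coord hz, h]
  exact mul_eq_left.1 h0

/-- The squaring map. -/
noncomputable def sqMap (x : P) : F := S.coord (x ^ 2)

/-- The commutator map. -/
noncomputable def brMap (x y : P) : F := S.coord ⁅x, y⁆

theorem conj_comm (g x y : P) : g * ⁅x, y⁆ * g⁻¹ = ⁅x, y⁆ := by
  rw [mem_center_iff.1 (S.comm_mem x y) g, mul_inv_cancel_right]

theorem brMap_add_left (x y z : P) : S.brMap (x * y) z = S.brMap x z + S.brMap y z := by
  rw [brMap, commutator_mul_left, S.conj_comm, S.coord_mul (S.comm_mem _ _) (S.comm_mem _ _),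
    add_comm]
  rfl

theorem brMap_add_right (x y z : P) : S.brMap x (y * z) = S.brMap x y + S.brMap x z := by
  rw [brMap, commutator_mul_right, S.conj_comm, S.coord_mul (S.comm_mem _ _) (S.comm_mem _ _)]
  rfl

theorem brMap_center {z : P} (hz : z ∈ center P) (x : P) : S.brMap z x = 0 ∧ S.brMap x z = 0 := by
  rw [brMap, brMap, commutatorElement_eq_one_iff_mul_comm.2 (mem_center_iff.1 hz x).symm,
    commutatorElement_eq_one_iff_mul_comm.2 (mem_center_iff.1 hz x), S.coord_one]
  exact ⟨rfl, rfl⟩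

theorem sqMap_mul [CharP F 2] (x y : P) :
    S.sqMap (x * y) = S.sqMap x + S.sqMap y + S.brMap x y := by
  have h1 : S.brMap x⁻¹ y = S.brMap x y := by
    have := S.brMap_add_left x x⁻¹ y
    rw [mul_inv_cancel, (S.brMap_center (one_mem _) y).1] at this
    exact (CharTwo.add_eq_zero.1 this.symm).symm
  rw [sqMap, mul_sq_eq, S.coord_mul (mul_mem (S.sq_mem x) (S.comm_mem _ _)) (S.sq_mem y),
    S.coord_mul (S.sq_mem x) (S.comm_mem _ _)]
  show S.sqMap x + S.brMap x⁻¹ y + S.sqMap y = _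
  rw [h1]; abel

theorem sqMap_k (x : P) : S.sqMap (k x) = (S.g : F) * S.sqMap x := by
  rw [sqMap, ← map_pow, S.coord_k (S.sq_mem x)]; rfl

theorem brMap_k (x y : P) : S.brMap (k x) (k y) = (S.g : F) * S.brMap x y := by
  rw [brMap, ← map_commutatorElement, S.coord_k (S.comm_mem x y)]; rfl

theorem sqMap_congr {x y : P} (h : (x : P ⧸ center P) = y) : S.sqMap x = S.sqMap y := by
  rw [QuotientGroup.eq] at h
  have e : y = x * (x⁻¹ * y) := (mul_inv_cancel_left x y).symm
  rw [sqMap, sqMap, e, (show Commute x (x⁻¹ * y) from mem_center_iff.1 h x).mul_pow,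
    (S.center_iff _).1 h, mul_one]

theorem mem_center_of_sqMap {x : P} (h : S.sqMap x = 0) : x ∈ center P :=
  (S.center_iff x).2 (S.coord_eq_zero (S.sq_mem x) h)

theorem brMap_congr {x x' y y' : P} (hx : (x : P ⧸ center P) = x') (hy : (y : P ⧸ center P) = y') :
    S.brMap x y = S.brMap x' y' := by
  rw [QuotientGroup.eq] at hx hy
  rw [← mul_inv_cancel_left x x', ← mul_inv_cancel_left y y', S.brMap_add_left, S.brMap_add_right,
    (S.brMap_center hy x).2, (S.brMap_center hx _).1, add_zero, add_zero]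

theorem card_center : Nat.card (center P) = Nat.card F := by
  refine (Nat.card_congr ?_).symm
  exact Equiv.ofBijective (fun u => ⟨S.ι u, S.ι_mem u⟩)
    ⟨fun u v h => S.ι_inj (congrArg Subtype.val h), fun z => ⟨S.coord z.1, Subtype.ext (S.ι_coord z.2)⟩⟩

/-- The induced automorphism of the central quotient. -/
noncomputable def kV (_S : Suz P F k) : MulAut (P ⧸ center P) :=
  QuotientGroup.congr (center P) (center P) k (characteristic_iff_map_eq.1 inferInstance k)

theorem kV_mk (x : P) : S.kV (x : P ⧸ center P) = (k x : P) := rfl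

theorem kV_pow_mk (i : ℕ) (x : P) : (S.kV ^ i) (x : P ⧸ center P) = ((k ^ i) x : P) := by
  induction i with
  | zero => rfl
  | succ i ih => rw [pow_succ', MulAut.mul_apply, ih, kV_mk, pow_succ', MulAut.mul_apply]

theorem quot_sq (v : P ⧸ center P) : v ^ 2 = 1 := by
  induction v using QuotientGroup.induction_on with
  | _ x => rw [← QuotientGroup.mk_pow, QuotientGroup.eq_one_iff]; exact S.sq_mem x

theorem quot_comm (v w : P ⧸ center P) : v * w = w * v := by
  induction v using QuotientGroup.induction_on with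
  | _ x =>
    induction w using QuotientGroup.induction_on with
    | _ y =>
      rw [← QuotientGroup.mk_mul, ← QuotientGroup.mk_mul, QuotientGroup.eq]
      have := S.comm_mem y⁻¹ x⁻¹
      rw [commutatorElement_def, inv_inv, inv_inv] at this
      rwa [mul_inv_rev, ← mul_assoc]

theorem eq_zero_of_fixed {i : ℕ} (hi : i < 2 ^ S.n - 1) {v : P ⧸ center P} (hv : v ≠ 1)
    (h : (S.kV ^ i) v = v) : i = 0 := by
  induction v using QuotientGroup.induction_on with
  | _ x =>
    rw [S.kV_pow_mk] at h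
    have hq : ∀ j, S.sqMap ((k ^ j) x) = (S.g : F) ^ j * S.sqMap x := by
      intro j
      induction j with
      | zero => simp
      | succ j ih => rw [pow_succ', MulAut.mul_apply, S.sqMap_k, ih, pow_succ', mul_assoc]
    have hne : S.sqMap x ≠ 0 := fun h0 =>
      hv ((QuotientGroup.eq_one_iff x).2 (S.mem_center_of_sqMap h0))
    have h2 := S.sqMap_congr h
    rw [hq] at h2
    have h3 : S.g ^ i = 1 := Units.ext (by
      rw [Units.val_pow_eq_pow_val]
      exact mul_right_cancel₀ hne (h2.trans (one_mul _).symm))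
    by_contra h0
    have := Nat.le_of_dvd (by omega) (orderOf_dvd_of_pow_eq_one h3)
    rw [S.orderOf_g] at this
    omega

theorem exists_ne_one : ∃ v : P ⧸ center P, v ≠ 1 := by
  obtain ⟨x, y, hxy⟩ := S.nonab
  refine ⟨(x : P ⧸ center P), fun h => hxy ?_⟩
  exact (mem_center_iff.1 ((QuotientGroup.eq_one_iff x).1 h) y).symm

variable [Finite P]

theorem orderOf_kV : orderOf S.kV = 2 ^ S.n - 1 := by
  have hn := Nat.pow_le_pow_right (show 2 > 0 by norm_num) S.two_le
  refine (orderOf_eq_iff (by omega)).2 ⟨?_, fun i hi hi0 h => ?_⟩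
  · refine MulEquiv.ext fun v => ?_
    induction v using QuotientGroup.induction_on with
    | _ x => rw [S.kV_pow_mk, S.k_pow]; rfl
  · obtain ⟨v, hv⟩ := S.exists_ne_one
    have := S.eq_zero_of_fixed hi hv (by rw [h]; rfl)
    omega

theorem dvd_card_sub_one : 2 ^ S.n - 1 ∣ Nat.card (P ⧸ center P) - 1 := by
  classical
  let T := {v : P ⧸ center P // v ≠ 1}
  let act : zpowers S.kV →* Equiv.Perm T := MonoidHom.mk'
    (fun f => (f : MulAut (P ⧸ center P)).toEquiv.subtypeEquiv fun v =>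
      (map_ne_one_iff (f : MulAut (P ⧸ center P)) (EquivLike.injective _)).symm)
    fun f g => Equiv.ext fun v => rfl
  letI : MulAction (zpowers S.kV) T := MulAction.compHom T act
  have hfree : ∀ b : T, MulAction.stabilizer (zpowers S.kV) b = ⊥ := by
    intro b
    rw [eq_bot_iff]
    rintro ⟨f, hf⟩ hfb
    obtain ⟨i, rfl⟩ := mem_zpowers_iff.1 hf
    have hb : (S.kV ^ i) b.1 = b.1 := congrArg Subtype.val (MulAction.mem_stabilizer_iff.1 hfb)
    have hpos : 0 < orderOf S.kV := orderOf_pos _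
    obtain ⟨j, hj, hje⟩ : ∃ j < orderOf S.kV, S.kV ^ j = S.kV ^ i := by
      refine ⟨(i % (orderOf S.kV : ℤ)).toNat, ?_, ?_⟩
      · have := Int.emod_lt_of_pos i (show (0 : ℤ) < orderOf S.kV by omega)
        omega
      · rw [← zpow_natCast, Int.toNat_of_nonneg (Int.emod_nonneg _ (by omega)), zpow_mod_orderOf]
    rw [S.orderOf_kV] at hj
    have h0 := S.eq_zero_of_fixed hj b.2 (by rw [hje]; exact hb)
    rw [mem_bot]
    refine Subtype.ext ?_
    show S.kV ^ i = 1
    rw [← hje, h0, pow_zero]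
  have h := Nat.card_congr (MulAction.selfEquivOrbitsQuotientProd hfree)
  rw [Nat.card_prod, Nat.card_zpowers, S.orderOf_kV] at h
  have hT : Nat.card T = Nat.card (P ⧸ center P) - 1 := by
    show Nat.card ↥({1}ᶜ : Set (P ⧸ center P)) = _
    rw [Nat.card_coe_set_eq, Set.ncard_compl, Set.ncard_singleton]
  exact hT ▸ h ▸ dvd_mul_left _ _

theorem card_quotient [Finite F] [CharP F 2] :
    Nat.card (P ⧸ center P) = 2 ^ S.n ∨ Nat.card (P ⧸ center P) = 2 ^ (2 * S.n) := by
  classical
  letI : CommGroup (P ⧸ center P) :=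
    { (inferInstance : Group (P ⧸ center P)) with mul_comm := S.quot_comm }
  letI : Module (ZMod 2) (Additive (P ⧸ center P)) := AddCommGroup.zmodModule (n := 2) fun v => by
    rw [two_nsmul]
    exact Additive.toMul.injective ((sq _).symm.trans (S.quot_sq (Additive.toMul v)))
  letI := ZMod.algebra F 2
  haveI : Module.Finite (ZMod 2) F := Module.Finite.of_finite
  haveI : Module.Finite (ZMod 2) (Additive (P ⧸ center P)) := Module.Finite.of_finite
  let out : Additive (P ⧸ center P) → P := fun v => (Additive.toMul v).out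
  have hout : ∀ v, ((out v : P) : P ⧸ center P) = Additive.toMul v := fun v =>
    QuotientGroup.out_eq' _
  have hmul : ∀ v w, ((out (v + w) : P) : P ⧸ center P) = ((out v * out w : P) : P ⧸ center P) :=
    fun v w => by rw [QuotientGroup.mk_mul, hout, hout, hout]; rfl
  let β1 : Additive (P ⧸ center P) →+ (Additive (P ⧸ center P) →ₗ[ZMod 2] F) :=
    AddMonoidHom.mk' (fun v => (AddMonoidHom.mk' (fun w => S.brMap (out v) (out w)) fun w w' => by
      rw [← S.brMap_add_right]; exact S.brMap_congr rfl (hmul w w')).toZModLinearMap 2)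
      fun v v' => LinearMap.ext fun w => by
        show S.brMap (out (v + v')) (out w) = S.brMap (out v) (out w) + S.brMap (out v') (out w)
        rw [← S.brMap_add_left]; exact S.brMap_congr (hmul v v') rfl
  have hle := finrank_le_of_anisotropic (fun v => S.sqMap (out v)) (β1.toZModLinearMap 2)
    (fun v w => (S.sqMap_congr (hmul v w)).trans (S.sqMap_mul _ _))
    (fun v hv => Additive.toMul.injective
      ((hout v).symm.trans ((QuotientGroup.eq_one_iff _).2 (S.mem_center_of_sqMap hv))))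
  set d := Module.finrank (ZMod 2) (Additive (P ⧸ center P)) with hd
  have hcard : Nat.card (P ⧸ center P) = 2 ^ d := by
    rw [hd, ← Nat.card_congr (Additive.toMul (α := P ⧸ center P)),
      Module.natCard_eq_pow_finrank (K := ZMod 2), Nat.card_zmod]
  rw [finrank_eq S.card] at hle
  have hdvd := S.dvd_card_sub_one
  rw [hcard] at hdvd
  have hn := S.two_le
  have hmod : d % S.n = 0 := by
    have h1 : 2 ^ d ≡ 1 [MOD 2 ^ S.n - 1] := ((Nat.modEq_iff_dvd' Nat.one_le_two_pow).2 hdvd).symm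
    have h2 : 2 ^ d ≡ 2 ^ (d % S.n) [MOD 2 ^ S.n - 1] :=
      two_pow_modEq ⟨hn, 1, one_dvd _, mul_one _⟩ d
    have h3 := h2.symm.trans h1
    have hlt : 2 ^ (d % S.n) < 2 ^ S.n - 1 := by
      have hle' : d % S.n + 1 ≤ S.n := Nat.mod_lt _ (by omega)
      have := Nat.pow_le_pow_right (show 2 > 0 by norm_num) hle'
      have h4 : 2 ^ 2 ≤ 2 ^ S.n := Nat.pow_le_pow_right (by norm_num) hn
      have := Nat.one_le_two_pow (n := d % S.n)
      rw [pow_succ] at *
      omega
    have h5 : 2 ^ (d % S.n) = 2 ^ 0 := h3.eq_of_lt_of_lt hlt (lt_of_le_of_lt Nat.one_le_two_pow hlt)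
    exact Nat.pow_right_injective le_rfl h5
  have hd0 : d ≠ 0 := by
    intro h0
    obtain ⟨v, hv⟩ := S.exists_ne_one
    have h1 : Nat.card (P ⧸ center P) = 1 := by rw [hcard, h0, pow_zero]
    exact hv ((Nat.card_eq_one_iff_unique.1 h1).1.elim v 1)
  rw [hcard]
  obtain ⟨t, ht⟩ := Nat.dvd_of_mod_eq_zero hmod
  have : t = 1 ∨ t = 2 := by
    have h1 : t ≤ 2 := Nat.le_of_mul_le_mul_left (by omega : S.n * t ≤ S.n * 2) (by omega)
    have h2 : t ≠ 0 := by rintro rfl; exact hd0 (by omega)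
    omega
  rcases this with rfl | rfl
  · exact Or.inl (by rw [ht, mul_one])
  · exact Or.inr (by rw [ht, mul_comm])

theorem card_cases [Finite F] [CharP F 2] :
    Nat.card P = Nat.card (center P) ^ 2 ∨ Nat.card P = Nat.card (center P) ^ 3 := by
  have h := (center P).card_mul_index
  rw [Subgroup.index_eq_card, S.card_center, S.card] at h
  rw [S.card_center, S.card]
  rcases S.card_quotient with h' | h' <;> rw [h'] at h <;> rw [← h]
  · left; rw [← pow_add, ← pow_mul]; congr 1; ring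
  · right; rw [← pow_add, ← pow_mul]; congr 1; ring

theorem exponent_eq_four : Monoid.exponent P = 4 := by
  have h4 : Monoid.exponent P ∣ 4 := Monoid.exponent_dvd_of_forall_pow_eq_one fun x => by
    rw [show 4 = 2 * 2 from rfl, pow_mul, (S.center_iff _).1 (S.sq_mem x)]
  have h2 : ¬ Monoid.exponent P ∣ 2 := by
    intro h
    obtain ⟨x, y, hxy⟩ := S.nonab
    obtain ⟨c, hc⟩ := h
    refine hxy (mem_center_iff.1 ((S.center_iff y).2 ?_) x)
    rw [hc, pow_mul, Monoid.pow_exponent_eq_one, one_pow]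
  obtain ⟨j, hj, hje⟩ := (Nat.dvd_prime_pow Nat.prime_two (m := 2)).1 h4
  interval_cases j
  · exact absurd (hje ▸ one_dvd 2) h2
  · exact absurd (hje ▸ dvd_rfl) h2
  · exact hje

end Suz

end CfsgLib.TransInvol
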