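import Mathlib

/-!
# Central extensions of elementary abelian two-groups with the same squaring map
-/

set_option autoImplicit false

namespace CfsgLib.TransInvol

open Subgroup

/-- Two central extensions of `V` by `Z` (both of exponent two) with the same squaring map are
isomorphic. -/
theorem nonempty_mulEquiv_of_squares {P H Z V : Type*} [Group P] [Group H] [Group Z] [Group V]
    (ιP : Z →* P) (ιH : Z →* H) (πP : P →* V) (πH : H →* V)
    (hPi : Function.Injective ιP) (hHi : Function.Injective ιH)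
    (hPs : Function.Surjective πP) (hHs : Function.Surjective πH)
    (hPe : ιP.range = πP.ker) (hHe : ιH.range = πH.ker)
    (hPc : ιP.range ≤ center P) (hHc : ιH.range ≤ center H)
    (hsq : ∀ p h, πP p = πH h → ∃ z, p ^ 2 = ιP z ∧ h ^ 2 = ιH z) :
    Nonempty (P ≃* H) := by
  classical
  let D : Subgroup (P × H) :=
    (πP.comp (MonoidHom.fst P H)).eqLocus (πH.comp (MonoidHom.snd P H))
  have hPmem : ∀ z, πP (ιP z) = 1 := fun z => MonoidHom.mem_ker.1 (hPe ▸ ⟨z, rfl⟩)
  have hHmem : ∀ z, πH (ιH z) = 1 := fun z => MonoidHom.mem_ker.1 (hHe ▸ ⟨z, rfl⟩)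
  let δ : Z →* D := (ιP.prod ιH).codRestrict D fun z => by
    show πP (ιP z) = πH (ιH z)
    rw [hPmem, hHmem]
  haveI hΔn : δ.range.Normal := ⟨by
    rintro _ ⟨z, rfl⟩ g
    have : g * δ z = δ z * g := Subtype.ext (Prod.ext
      (mem_center_iff.1 (hPc ⟨z, rfl⟩) _) (mem_center_iff.1 (hHc ⟨z, rfl⟩) _))
    rw [this, mul_inv_cancel_right]
    exact ⟨z, rfl⟩⟩
  have hsq' : ∀ x : D ⧸ δ.range, x * x = 1 := by
    intro x
    induction x using QuotientGroup.induction_on with
    | _ d =>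
      obtain ⟨z, h1, h2⟩ := hsq d.1.1 d.1.2 d.2
      rw [← QuotientGroup.mk_mul, QuotientGroup.eq_one_iff]
      exact ⟨z, Subtype.ext (Prod.ext (by simp [δ, ← h1, sq]) (by simp [δ, ← h2, sq]))⟩
  have hcomm : ∀ x y : D ⧸ δ.range, x * y = y * x := fun x y => by
    have hinv : ∀ x : D ⧸ δ.range, x⁻¹ = x := fun x => inv_eq_of_mul_eq_one_right (hsq' x)
    conv_lhs => rw [← hinv (x * y), mul_inv_rev, hinv, hinv]
  letI : CommGroup (D ⧸ δ.range) :=
    { (inferInstance : Group (D ⧸ δ.range)) with mul_comm := hcomm }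
  letI : Module (ZMod 2) (Additive (D ⧸ δ.range)) := AddCommGroup.zmodModule (n := 2) fun v => by
    rw [two_nsmul]; exact Additive.toMul.injective (hsq' (Additive.toMul v))
  let J : Subgroup (D ⧸ δ.range) :=
    ((πP.comp (MonoidHom.fst P H)).comp D.subtype).ker.map (QuotientGroup.mk' δ.range)
  obtain ⟨C', hC'⟩ := Submodule.exists_isCompl (AddSubgroup.toZModSubmodule 2 J.toAddSubgroup)
  let C : Subgroup D := (AddSubgroup.toSubgroup' C'.toAddSubgroup).comap (QuotientGroup.mk' δ.range)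
  have hmemC : ∀ d : D, d ∈ C ↔ Additive.ofMul (QuotientGroup.mk' δ.range d) ∈ C' := fun _ => Iff.rfl
  have hδC : ∀ z, δ z ∈ C := by
    intro z
    rw [hmemC, show QuotientGroup.mk' δ.range (δ z) = 1 from (QuotientGroup.eq_one_iff _).2 ⟨z, rfl⟩,
      ofMul_one]
    exact zero_mem C'
  have hmeet : ∀ d ∈ C, πP (d : P × H).1 = 1 → ∃ z, d = δ z := by
    intro d hd hd1
    have h0 : Additive.ofMul (QuotientGroup.mk' δ.range d) = 0 :=
      Submodule.disjoint_def.1 hC'.disjoint _
        (show _ ∈ J from ⟨d, hd1, rfl⟩) ((hmemC d).1 hd)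
    obtain ⟨z, hz⟩ := (QuotientGroup.eq_one_iff d).1 (Additive.ofMul.injective (h0.trans ofMul_one.symm))
    exact ⟨z, hz.symm⟩
  have hproj : ∀ d : D, ∃ e ∈ C, πP (e : P × H).1 = πP (d : P × H).1 := by
    intro d
    obtain ⟨j, hj, e, he, hje⟩ := Submodule.mem_sup.1
      (hC'.sup_eq_top ▸ Submodule.mem_top (x := Additive.ofMul (QuotientGroup.mk' δ.range d)))
    obtain ⟨j', hj', hjj⟩ := (hj : Additive.toMul j ∈ J)
    refine ⟨j'⁻¹ * d, ?_, ?_⟩
    · rw [hmemC, map_mul, map_inv, hjj, ofMul_mul, ofMul_inv, ofMul_toMul, ← hje,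
        neg_add_cancel_left]
      exact he
    · show πP ((j' : P × H).1⁻¹ * _) = _
      rw [map_mul, map_inv, show πP (j' : P × H).1 = 1 from hj', inv_one, one_mul]
  let f : C →* P := (MonoidHom.fst P H).comp (D.subtype.comp C.subtype)
  let g : C →* H := (MonoidHom.snd P H).comp (D.subtype.comp C.subtype)
  have hfi : Function.Injective f := (injective_iff_map_eq_one f).2 fun c hc => by
    obtain ⟨z, hz⟩ := hmeet c c.2 (by rw [show (c : D).1.1 = 1 from hc, map_one])
    have : z = 1 := hPi ((congrArg (fun d : D => d.1.1) hz).symm.trans (hc.trans (map_one _).symm))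
    exact Subtype.ext (hz.trans (by rw [this, map_one]; rfl))
  have hgi : Function.Injective g := (injective_iff_map_eq_one g).2 fun c hc => by
    obtain ⟨z, hz⟩ := hmeet c c.2 ((c : D).2.trans (by
      show πH (c : D).1.2 = 1
      rw [show (c : D).1.2 = 1 from hc, map_one]))
    have : z = 1 := hHi ((congrArg (fun d : D => d.1.2) hz).symm.trans (hc.trans (map_one _).symm))
    exact Subtype.ext (hz.trans (by rw [this, map_one]; rfl))
  have hfs : Function.Surjective f := by
    intro p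
    obtain ⟨h, hh⟩ := hHs (πP p)
    obtain ⟨e, he, hee⟩ := hproj ⟨(p, h), hh.symm⟩
    obtain ⟨z, hz⟩ : (e : P × H).1⁻¹ * p ∈ ιP.range := by
      rw [hPe, MonoidHom.mem_ker, map_mul, map_inv, hee, inv_mul_cancel]
    refine ⟨⟨e * δ z, mul_mem he (hδC z)⟩, ?_⟩
    show (e : P × H).1 * ιP z = p
    rw [hz, mul_inv_cancel_left]
  have hgs : Function.Surjective g := by
    intro h
    obtain ⟨p, hp⟩ := hPs (πH h)
    obtain ⟨e, he, hee⟩ := hproj ⟨(p, h), hp⟩
    obtain ⟨z, hz⟩ : (e : P × H).2⁻¹ * h ∈ ιH.range := by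
      rw [hHe, MonoidHom.mem_ker, map_mul, map_inv, show πH (e : P × H).2 = πP (e : P × H).1 from e.2.symm,
        hee, hp, inv_mul_cancel]
    refine ⟨⟨e * δ z, mul_mem he (hδC z)⟩, ?_⟩
    show (e : P × H).2 * ιH z = h
    rw [hz, mul_inv_cancel_left]
  exact ⟨(MulEquiv.ofBijective f ⟨hfi, hfs⟩).symm.trans (MulEquiv.ofBijective g ⟨hgi, hgs⟩)⟩

end CfsgLib.TransInvol
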