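import Mathlib
import Cfsg.Agent.Lib.PGroup.TransInvol.Suzuki
import Cfsg.Agent.Lib.PGroup.TransInvol.FibreProduct

/-!
# Two-groups with four central elements of order at most two, permuted transitively
-/

set_option autoImplicit false

open Subgroup
open scoped commutatorElement

namespace CfsgLib.TransInvol

/-- An abelian two-group with four elements of order at most two, permuted transitively, is
homocyclic. -/
theorem homocyclic_of_transitive {T : Type*} [Group T] [Finite T] (hT : IsPGroup 2 T)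
    (hab : ∀ x y : T, x * y = y * x) (hfour : Nat.card {x : T // x ^ 2 = 1} = 4)
    (htr : ∀ x y : T, x ≠ 1 → x ^ 2 = 1 → y ≠ 1 → y ^ 2 = 1 → ∃ σ : MulAut T, σ x = y) :
    ∃ n : ℕ, 1 ≤ n ∧ Nonempty (T ≃* Multiplicative (ZMod (2 ^ n) × ZMod (2 ^ n))) := by
  classical
  letI : CommGroup T := { (inferInstance : Group T) with mul_comm := hab }
  have hex : ∃ e, ∀ x : T, x ^ 2 ^ e = 1 := by
    obtain ⟨e, he⟩ := hT.exists_card_eq
    exact ⟨e, fun x => he ▸ pow_card_eq_one'⟩
  obtain ⟨e, he, hmin⟩ : ∃ e, (∀ x : T, x ^ 2 ^ e = 1) ∧ ∀ j < e, ∃ x : T, x ^ 2 ^ j ≠ 1 := by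
    refine ⟨Nat.find hex, Nat.find_spec hex, fun j hj => ?_⟩
    have := Nat.find_min hex hj
    push Not at this
    exact this
  set E := {x : T | x ^ 2 = 1} with hE
  have hE4 : E.ncard = 4 := by rw [← Nat.card_coe_set_eq]; exact hfour
  obtain ⟨m, rfl⟩ : ∃ m, e = m + 1 := by
    refine Nat.exists_eq_succ_of_ne_zero fun h0 => ?_
    subst h0
    have hsub : E ⊆ {1} := fun x _ => by
      have := he x
      rwa [pow_zero, pow_one] at this
    have := Set.ncard_le_ncard hsub (Set.toFinite _)
    rw [hE4, Set.ncard_singleton] at this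
    omega
  obtain ⟨x₀, hx₀⟩ := hmin m (Nat.lt_succ_self m)
  have hx₀2 : (x₀ ^ 2 ^ m) ^ 2 = 1 := by rw [← pow_mul, ← pow_succ]; exact he x₀
  have hsurj : ∀ u : T, u ^ 2 = 1 → ∃ a : T, a ^ 2 ^ m = u := by
    intro u hu
    by_cases hu1 : u = 1
    · exact ⟨1, by rw [one_pow, hu1]⟩
    obtain ⟨σ, hσ⟩ := htr _ u hx₀ hx₀2 hu1 hu
    exact ⟨σ x₀, by rw [← map_pow, hσ]⟩
  set u := x₀ ^ 2 ^ m with hu
  obtain ⟨v, hv2, hv⟩ : ∃ v ∈ E, v ∉ ({1, u} : Set T) := by
    by_contra h
    push Not at h
    have := Set.ncard_le_ncard (show E ⊆ ({1, u} : Set T) from h) (Set.toFinite _)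
    rw [hE4, Set.ncard_pair (Ne.symm hx₀)] at this
    omega
  simp only [Set.mem_insert_iff, Set.mem_singleton_iff, not_or] at hv
  have huv : u * v ≠ 1 := fun h => hv.2 (by
    have hinv : u⁻¹ = u := inv_eq_of_mul_eq_one_right (by rw [← sq]; exact hx₀2)
    rw [← mul_left_cancel (h.trans (mul_inv_cancel u).symm)] at hinv
    exact hinv)
  have hEeq : ∀ w ∈ E, w = 1 ∨ w = u ∨ w = v ∨ w = u * v := by
    intro w hw
    by_contra h
    simp only [not_or] at h
    have hsub : ({1, u, v, u * v, w} : Set T) ⊆ E := by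
      intro z hz
      simp only [Set.mem_insert_iff, Set.mem_singleton_iff] at hz
      rcases hz with rfl | rfl | rfl | rfl | rfl
      · exact one_pow 2
      · exact hx₀2
      · exact hv2
      · show (u * v) ^ 2 = 1
        rw [mul_pow, hx₀2, show v ^ 2 = 1 from hv2, one_mul]
      · exact hw
    have h5 := Set.ncard_le_ncard hsub (Set.toFinite _)
    rw [hE4, Set.ncard_insert_of_notMem (by simp [Ne.symm hx₀, Ne.symm hv.1, Ne.symm huv, Ne.symm h.1]),
      Set.ncard_insert_of_notMem (by simp [Ne.symm hv.2, Ne.symm h.2.1, hv.1]),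
      Set.ncard_insert_of_notMem (by simp [Ne.symm h.2.2.1, hx₀]),
      Set.ncard_pair (Ne.symm h.2.2.2)] at h5
    omega
  obtain ⟨b, hb⟩ := hsurj v hv2
  refine ⟨m + 1, Nat.succ_pos m, ?_⟩
  set N := 2 ^ (m + 1) with hN
  haveI : NeZero N := ⟨pow_ne_zero _ two_ne_zero⟩
  let θ : Multiplicative (ZMod N × ZMod N) →* T := MonoidHom.mk'
    (fun w => x₀ ^ (Multiplicative.toAdd w).1.val * b ^ (Multiplicative.toAdd w).2.val) fun w z => by
      have hab' : ∀ (g : T) (i j : ZMod N), g ^ (i + j).val = g ^ i.val * g ^ j.val := fun g i j => by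
        rw [ZMod.val_add, ← pow_eq_pow_mod _ (he g), pow_add]
      simp only [toAdd_mul, Prod.fst_add, Prod.snd_add, hab']
      exact mul_mul_mul_comm _ _ _ _
  have hθ : ∀ i j : ℕ, x₀ ^ i * b ^ j ∈ θ.range := fun i j =>
    ⟨Multiplicative.ofAdd ((i : ZMod N), (j : ZMod N)), by
      show x₀ ^ (i : ZMod N).val * b ^ (j : ZMod N).val = _
      rw [ZMod.val_natCast, ZMod.val_natCast, ← pow_eq_pow_mod _ (he x₀), ← pow_eq_pow_mod _ (he b)]⟩
  have hrange : ∀ j, j ≤ m + 1 → ∀ x : T, x ^ 2 ^ j = 1 → x ∈ θ.range := by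
    intro j
    induction j with
    | zero => intro _ x hx; rw [pow_zero, pow_one] at hx; rw [hx]; exact one_mem _
    | succ j ih =>
      intro hj x hx
      have hw : x ^ 2 ^ j ∈ E := by
        show (x ^ 2 ^ j) ^ 2 = 1
        rw [← pow_mul, ← pow_succ, hx]
      obtain ⟨i, k, hik⟩ : ∃ i k, (x₀ ^ i * b ^ k) ^ 2 ^ m = x ^ 2 ^ j := by
        rcases hEeq _ hw with h | h | h | h
        · exact ⟨0, 0, by simp [h]⟩
        · exact ⟨1, 0, by simp [h, hu]⟩
        · exact ⟨0, 1, by simp [h, hb]⟩
        · exact ⟨1, 1, by simp [h, hu, hb, mul_pow]⟩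
      set y := (x₀ ^ i * b ^ k) ^ 2 ^ (m - j)
      have hy : y ∈ θ.range := pow_mem (hθ i k) _
      have hxy : (x * y⁻¹) ^ 2 ^ j = 1 := by
        rw [mul_pow, inv_pow, ← pow_mul (x₀ ^ i * b ^ k), ← pow_add, Nat.sub_add_cancel (by omega),
          hik, mul_inv_cancel]
      simpa using mul_mem (ih (by omega) _ hxy) hy
  have hs : Function.Surjective θ := fun x => MonoidHom.mem_range.1 (hrange (m + 1) le_rfl x (he x))
  have hinj : Function.Injective θ := by
    rw [injective_iff_map_eq_one]
    intro w hw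
    set i := (Multiplicative.toAdd w).1.val
    set k := (Multiplicative.toAdd w).2.val
    have hi : i < N := ZMod.val_lt _
    have hk : k < N := ZMod.val_lt _
    have key : ∀ j, j ≤ m + 1 → 2 ^ j ∣ i ∧ 2 ^ j ∣ k := by
      intro j
      induction j with
      | zero => exact fun _ => ⟨one_dvd _, one_dvd _⟩
      | succ j ih =>
        intro hj
        obtain ⟨⟨i', hi'⟩, k', hk'⟩ := ih (by omega)
        have h1 : (x₀ ^ i * b ^ k) ^ 2 ^ (m - j) = 1 := by
          rw [show x₀ ^ i * b ^ k = 1 from hw, one_pow]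
        rw [mul_pow, ← pow_mul, ← pow_mul, hi', hk', mul_comm (2 ^ j) i', mul_comm (2 ^ j) k',
          mul_assoc, mul_assoc, ← pow_add, Nat.add_sub_cancel' (by omega), mul_comm i', mul_comm k',
          pow_mul, pow_mul, hb, ← hu] at h1
        have hpar : ∀ (z : T) (c : ℕ), z ^ 2 = 1 → z ^ c = if Even c then 1 else z := by
          intro z c hz
          split_ifs with h
          · obtain ⟨d, rfl⟩ := h
            rw [← two_mul, pow_mul, hz, one_pow]
          · obtain ⟨d, rfl⟩ := Nat.not_even_iff_odd.1 h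
            rw [pow_succ, pow_mul, hz, one_pow, one_mul]
        rw [hpar u i' hx₀2, hpar v k' hv2] at h1
        by_cases hie : Even i' <;> by_cases hke : Even k' <;> simp [hie, hke] at h1
        · exact ⟨hi' ▸ (pow_succ 2 j).symm ▸ Nat.mul_dvd_mul_left _ (even_iff_two_dvd.1 hie),
            hk' ▸ (pow_succ 2 j).symm ▸ Nat.mul_dvd_mul_left _ (even_iff_two_dvd.1 hke)⟩
        · exact absurd h1 hv.1
        · exact absurd h1 hx₀
        · exact absurd h1 huv
    obtain ⟨hi2, hk2⟩ := key (m + 1) le_rfl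
    have hi0 := Nat.eq_zero_of_dvd_of_lt hi2 hi
    have hk0 := Nat.eq_zero_of_dvd_of_lt hk2 hk
    exact Multiplicative.toAdd.injective
      (Prod.ext ((ZMod.val_eq_zero _).1 hi0) ((ZMod.val_eq_zero _).1 hk0))
  exact ⟨(MulEquiv.ofBijective θ ⟨hinj, hs⟩).symm⟩

section

variable {T : Type*} [Group T]

/-- In a special group with an automorphism of `3`-power order acting as an element of order three
on the centre of order four, the central quotient has order at most sixteen and the automorphism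
has order three. -/
theorem exists_suz_of_transitive [Finite T] (hT : IsPGroup 2 T) (hna : ¬ IsMulCommutative T)
    (htwo : ∃ x y : T, x ≠ y ∧ x ≠ 1 ∧ x ^ 2 = 1 ∧ y ≠ 1 ∧ y ^ 2 = 1) (φ : MulAut T)
    (htr : ∀ x y : T, x ≠ 1 → x ^ 2 = 1 → y ≠ 1 → y ^ 2 = 1 → ∃ i : ℕ, (φ ^ i) x = y)
    (hfour : Nat.card {x : T // x ^ 2 = 1} = 4) :
    ∃ (F : Type) (_ : Field F) (_ : Finite F) (_ : CharP F 2) (ψ : MulAut T) (S : Suz T F ψ),
      S.n = 2 := by
  classical
  haveI : Fact (Nat.Prime 2) := ⟨Nat.prime_two⟩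
  letI : CommGroup (zpowers φ) := IsCyclic.commGroup
  haveI : Group.IsSolvable (zpowers φ) := Group.isSolvable_of_comm fun x y => mul_comm x y
  obtain ⟨hGΦ, hΦZ, hZ⟩ := special_of_transitive hT hna htwo (zpowers φ) (fun x y hx hx2 hy hy2 => by
    obtain ⟨i, hi⟩ := htr x y hx hx2 hy hy2
    exact ⟨φ ^ i, Subgroup.pow_mem _ (mem_zpowers φ) i, hi⟩)
  obtain ⟨F, fF, finF, chF, ⟨R⟩⟩ := exists_singer htwo
    (fun x hx g => (mem_center_iff.1 ((hZ x).2 hx) g).symm) φ htr
  have hF4 : Nat.card F = 4 := by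
    rw [← hfour]
    refine Nat.card_eq_of_bijective (fun u => ⟨R.ι u, (R.mem_iff _).2 ⟨u, rfl⟩⟩)
      ⟨fun u v h => R.ι_inj (congrArg Subtype.val h), fun z => ?_⟩
    obtain ⟨u, hu⟩ := (R.mem_iff z.1).1 z.2
    exact ⟨u, Subtype.ext hu⟩
  have hn : R.n = 2 := Nat.pow_right_injective (le_refl 2)
    (show 2 ^ R.n = 2 ^ 2 by rw [← R.card, hF4])
  obtain ⟨b, M, hM, hbM⟩ :=
    Nat.exists_eq_pow_mul_and_not_dvd (orderOf_pos φ).ne' 3 (by norm_num)
  set ψ := φ ^ M with hψ
  have hψb : ψ ^ 3 ^ b = 1 := by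
    rw [hψ, ← pow_mul, mul_comm, ← hbM, pow_orderOf_eq_one]
  have hpow : ∀ (i : ℕ) w, (φ ^ i) (R.ι w) = R.ι (((R.g ^ i : Fˣ) : F) * w) := by
    intro i
    induction i with
    | zero => intro w; simp
    | succ i ih => intro w; rw [pow_succ', MulAut.mul_apply, ih, R.k_ι, pow_succ', Units.val_mul, mul_assoc]
  have hg3 : orderOf (R.g ^ M) = 2 ^ R.n - 1 := by
    have hc : Nat.Coprime 3 M := (Nat.prime_three.coprime_iff_not_dvd).2 hM
    rw [Nat.Coprime.orderOf_pow, R.orderOf_g]
    rw [R.orderOf_g, hn]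
    exact hc
  have hsq : ∀ x : T, x ^ 2 ∈ center T := fun x =>
    hΦZ.le (CfsgLib.Coprime.pow_mem_frattini hT x)
  have hcomm : ∀ x y : T, ⁅x, y⁆ ∈ center T := fun x y =>
    hΦZ.le (hGΦ.le (commutator_mem_commutator (mem_top x) (mem_top y)))
  have hψZ : ∀ z ∈ center T, (ψ ^ 3) z = z := by
    intro z hz
    obtain ⟨w, rfl⟩ := (R.mem_iff z).1 ((hZ z).1 hz)
    rw [hψ, ← pow_mul, hpow, pow_mul]
    have h3 := pow_orderOf_eq_one (R.g ^ M)
    rw [hg3, hn] at h3
    rw [show (2 : ℕ) ^ 2 - 1 = 3 from rfl] at h3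
    rw [h3, Units.val_one, one_mul]
  -- the quotient
  let Q := T ⧸ center T
  have hQsq : ∀ v : Q, v ^ 2 = 1 := fun v => by
    induction v using QuotientGroup.induction_on with
    | _ x => rw [← QuotientGroup.mk_pow, QuotientGroup.eq_one_iff]; exact hsq x
  have hQinv : ∀ z : Q, z⁻¹ = z := fun z => inv_eq_of_mul_eq_one_right (by rw [← sq]; exact hQsq z)
  have hQcomm : ∀ v w : Q, v * w = w * v := fun v w => by
    conv_lhs => rw [← hQinv (v * w), mul_inv_rev, hQinv, hQinv]
  letI : CommGroup Q := { (inferInstance : Group Q) with mul_comm := hQcomm }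
  letI : Module (ZMod 2) (Additive Q) := AddCommGroup.zmodModule (n := 2) fun v => by
    rw [two_nsmul]
    exact Additive.toMul.injective ((sq _).symm.trans (hQsq (Additive.toMul v)))
  letI := ZMod.algebra F 2
  haveI : Module.Finite (ZMod 2) F := Module.Finite.of_finite
  haveI : Module.Finite (ZMod 2) (Additive Q) := Module.Finite.of_finite
  have hQcard : Nat.card Q ≤ 16 := by
    let C := Function.invFun R.ι
    have hC : ∀ z ∈ center T, R.ι (C z) = z := fun z hz =>
      Function.invFun_eq ((R.mem_iff z).1 ((hZ z).1 hz))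
    have hCmul : ∀ x ∈ center T, ∀ y ∈ center T, C (x * y) = C x + C y := fun x hx y hy => R.ι_inj (by
      rw [hC _ (mul_mem hx hy), R.ι_add, hC _ hx, hC _ hy])
    have hC1 : C 1 = 0 := by
      have h := hCmul 1 (one_mem _) 1 (one_mem _)
      rwa [mul_one, left_eq_add] at h
    let br : T → T → F := fun x y => C ⁅x, y⁆
    have hcj : ∀ g x y : T, g * ⁅x, y⁆ * g⁻¹ = ⁅x, y⁆ := fun g x y => by
      rw [mem_center_iff.1 (hcomm x y) g, mul_inv_cancel_right]
    have hbl : ∀ x y z, br (x * y) z = br x z + br y z := fun x y z => by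
      show C _ = C _ + C _
      rw [commutator_mul_left, hcj, hCmul _ (hcomm _ _) _ (hcomm _ _), add_comm]
    have hbr' : ∀ x y z, br x (y * z) = br x y + br x z := fun x y z => by
      show C _ = C _ + C _
      rw [commutator_mul_right, hcj, hCmul _ (hcomm _ _) _ (hcomm _ _)]
    have hb0 : ∀ z ∈ center T, ∀ x, br z x = 0 ∧ br x z = 0 := fun z hz x => by
      show C _ = 0 ∧ C _ = 0
      rw [commutatorElement_eq_one_iff_mul_comm.2 (mem_center_iff.1 hz x).symm,
        commutatorElement_eq_one_iff_mul_comm.2 (mem_center_iff.1 hz x)]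
      exact ⟨hC1, hC1⟩
    have hcongr : ∀ {x x' y y' : T}, (x : Q) = x' → (y : Q) = y' → br x y = br x' y' := by
      intro x x' y y' hx hy
      rw [QuotientGroup.eq] at hx hy
      rw [← mul_inv_cancel_left x x', ← mul_inv_cancel_left y y', hbl, hbr', (hb0 _ hy x).2,
        (hb0 _ hx _).1, add_zero, add_zero]
    have hsmul : ∀ x y : T, C ((x * y) ^ 2) = C (x ^ 2) + C (y ^ 2) + br x y := by
      intro x y
      have h1 : br x⁻¹ y = br x y := by
        have := hbl x x⁻¹ y
        rw [mul_inv_cancel, (hb0 1 (one_mem _) y).1] at this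
        exact (CharTwo.add_eq_zero.1 this.symm).symm
      rw [mul_sq_eq, hCmul _ (mul_mem (hsq x) (hcomm _ _)) _ (hsq y), hCmul _ (hsq x) _ (hcomm _ _)]
      show C (x ^ 2) + br x⁻¹ y + C (y ^ 2) = _
      rw [h1]; abel
    have hscongr : ∀ {x y : T}, (x : Q) = y → C (x ^ 2) = C (y ^ 2) := by
      intro x y h
      rw [QuotientGroup.eq] at h
      rw [show y = x * (x⁻¹ * y) from (mul_inv_cancel_left x y).symm,
        (show Commute x (x⁻¹ * y) from mem_center_iff.1 h x).mul_pow, (hZ _).1 h, mul_one]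
    let out : Additive Q → T := fun v => (Additive.toMul v).out
    have hout : ∀ v, ((out v : T) : Q) = Additive.toMul v := fun v => QuotientGroup.out_eq' _
    have hmul : ∀ v w, ((out (v + w) : T) : Q) = ((out v * out w : T) : Q) := fun v w => by
      rw [QuotientGroup.mk_mul, hout, hout, hout]; rfl
    let β1 : Additive Q →+ (Additive Q →ₗ[ZMod 2] F) :=
      AddMonoidHom.mk' (fun v => (AddMonoidHom.mk' (fun w => br (out v) (out w)) fun w w' => by
        rw [← hbr']; exact hcongr rfl (hmul w w')).toZModLinearMap 2)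
        fun v v' => LinearMap.ext fun w => by
          show br (out (v + v')) (out w) = br (out v) (out w) + br (out v') (out w)
          rw [← hbl]; exact hcongr (hmul v v') rfl
    have hle := finrank_le_of_anisotropic (fun v => C ((out v) ^ 2)) (β1.toZModLinearMap 2)
      (fun v w => (hscongr (hmul v w)).trans (hsmul _ _))
      (fun v hv => Additive.toMul.injective ((hout v).symm.trans ((QuotientGroup.eq_one_iff _).2
        ((hZ _).2 (by
          rw [← hC _ (hsq (out v)), hv, ← hC1, hC _ (one_mem _)])))))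
    rw [finrank_eq (n := 2) (by rw [hF4]; norm_num)] at hle
    rw [← Nat.card_congr (Additive.toMul (α := Q)), Module.natCard_eq_pow_finrank (K := ZMod 2),
      Nat.card_zmod]
    exact (Nat.pow_le_pow_right (by norm_num) hle).trans (by norm_num)
  let κ : MulAut Q := QuotientGroup.congr (center T) (center T) ψ
    (characteristic_iff_map_eq.1 inferInstance ψ)
  have hκ : ∀ (i : ℕ) (x : T), (κ ^ i) (x : Q) = ((ψ ^ i) x : T) := by
    intro i x
    induction i with
    | zero => rfl
    | succ i ih => rw [pow_succ', MulAut.mul_apply, ih, pow_succ', MulAut.mul_apply]; rfl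
  have hcoe : ∀ (i : ℕ) (w : Q), (κ ^ i) w = (⇑κ)^[i] w := by
    intro i w
    induction i with
    | zero => rfl
    | succ i ih => rw [pow_succ', MulAut.mul_apply, ih, Function.iterate_succ_apply']
  have hκ3 : ∀ v : Q, (κ ^ 3) v = v := by
    by_contra h
    push Not at h
    obtain ⟨v, hv⟩ := h
    have hper : ∀ w : Q, Function.minimalPeriod κ w ∣ 3 ^ b := fun w =>
      Function.IsPeriodicPt.minimalPeriod_dvd (by
        show (⇑κ)^[3 ^ b] w = w
        rw [← hcoe]
        induction w using QuotientGroup.induction_on with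
        | _ x => rw [hκ, hψb]; rfl)
    have hfix : ∀ w : Q, Function.minimalPeriod κ w ∣ 3 → (κ ^ 3) w = w := fun w h => by
      rw [hcoe]
      exact Function.isPeriodicPt_iff_minimalPeriod_dvd.2 h
    have h9 : 9 ≤ Function.minimalPeriod κ v := by
      obtain ⟨i, -, hi⟩ := (Nat.dvd_prime_pow Nat.prime_three).1 (hper v)
      have hi2 : 2 ≤ i := by
        by_contra h2
        refine hv (hfix v ?_)
        rw [hi]
        interval_cases i <;> norm_num
      rw [hi]
      exact (by norm_num : 9 ≤ 3 ^ 2).trans (Nat.pow_le_pow_right (by norm_num) hi2)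
    set O := (fun i => (⇑κ)^[i] v) '' Set.Iio (Function.minimalPeriod κ v) with hO
    have hOcard : O.ncard = Function.minimalPeriod κ v := by
      rw [hO, Set.InjOn.ncard_image (Function.iterate_injOn_Iio_minimalPeriod),
        ← Finset.coe_Iio, Set.ncard_coe_finset, Nat.card_Iio]
    have h16 : Function.minimalPeriod κ v ≤ 16 := by
      rw [← hOcard]; exact ((Set.ncard_le_card O).trans hQcard)
    have hO9 : O.ncard = 9 := by
      rw [hOcard]
      obtain ⟨i, -, hi⟩ := (Nat.dvd_prime_pow Nat.prime_three).1 (hper v)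
      rw [hi] at h9 h16 ⊢
      rcases lt_trichotomy i 2 with h | rfl | h
      · interval_cases i <;> norm_num at h9
      · norm_num
      · have : 3 ^ 3 ≤ 3 ^ i := Nat.pow_le_pow_right (by norm_num) h
        omega
    let U : Subgroup Q :=
      { carrier := {w | (κ ^ 3) w = w}
        one_mem' := map_one _
        mul_mem' := fun {a c} (ha : (κ ^ 3) a = a) (hc : (κ ^ 3) c = c) => by
          show (κ ^ 3) (a * c) = _; rw [map_mul, ha, hc]
        inv_mem' := fun {a} (ha : (κ ^ 3) a = a) => by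
          show (κ ^ 3) a⁻¹ = _; rw [map_inv, ha] }
    have hcomp : (U : Set Q) = Oᶜ := by
      ext w
      constructor
      · rintro hw ⟨i, -, rfl⟩
        refine hv ?_
        rw [hcoe]
        have h1 : Function.IsPeriodicPt κ 3 ((⇑κ)^[i] v) := by
          show (⇑κ)^[3] _ = _
          rw [← hcoe]; exact hw
        exact ((Function.Injective.iterate κ.injective i) (by
          rw [← Function.iterate_add_apply, add_comm, Function.iterate_add_apply]; exact h1))
      · intro hw
        refine hfix w ?_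
        obtain ⟨i, -, hi⟩ := (Nat.dvd_prime_pow Nat.prime_three).1 (hper w)
        rw [hi]
        have hdis : (fun j => (⇑κ)^[j] w) '' Set.Iio (Function.minimalPeriod κ w) ⊆ Oᶜ := by
          rintro _ ⟨j, -, rfl⟩ ⟨l, hl, hlj⟩
          refine hw ⟨(l + (3 ^ b * (j + 1) - j)) % Function.minimalPeriod κ v,
            Set.mem_Iio.2 (Nat.mod_lt _ (by omega)), ?_⟩
          have hperw : Function.IsPeriodicPt κ (3 ^ b * (j + 1)) w :=
            ((Function.isPeriodicPt_iff_minimalPeriod_dvd).2 (hper w)).mul_const _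
          have hge : j ≤ 3 ^ b * (j + 1) := by
            have : 1 ≤ 3 ^ b := Nat.one_le_pow _ _ (by norm_num)
            nlinarith
          show (⇑κ)^[_] v = w
          rw [Function.iterate_mod_minimalPeriod_eq, add_comm, Function.iterate_add_apply]
          show (⇑κ)^[_] ((fun i => (⇑κ)^[i] v) l) = w
          rw [hlj, ← Function.iterate_add_apply, Nat.sub_add_cancel hge]
          exact hperw
        have hle : Function.minimalPeriod κ w ≤ 7 := by
          have h1 := Set.ncard_le_ncard hdis (Set.toFinite _)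
          rw [Set.InjOn.ncard_image (Function.iterate_injOn_Iio_minimalPeriod), ← Finset.coe_Iio,
            Set.ncard_coe_finset, Nat.card_Iio, Set.ncard_compl, hO9] at h1
          omega
        rw [hi] at hle
        have : i ≤ 1 := by
          by_contra h2
          have : 3 ^ 2 ≤ 3 ^ i := Nat.pow_le_pow_right (by norm_num) (by omega)
          omega
        interval_cases i <;> norm_num
    have hU : Nat.card U = Nat.card Q - 9 := by
      rw [← hO9, ← Set.ncard_compl, ← hcomp, ← Nat.card_coe_set_eq]; rfl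
    have hdvd := U.card_subgroup_dvd_card
    obtain ⟨d, hd⟩ := (hT.to_quotient (center T)).exists_card_eq
    have h9Q : 9 ≤ Nat.card Q := hO9 ▸ Set.ncard_le_card O
    rw [hU, show Nat.card Q = 2 ^ d from hd] at hdvd
    rw [show Nat.card Q = 2 ^ d from hd] at h9Q hQcard
    have hd4 : d = 4 := by
      have h1 : d ≤ 4 := (Nat.pow_le_pow_iff_right (a := 2) (by norm_num)).1 (by simpa using hQcard)
      have h2 : 4 ≤ d := by
        by_contra h3
        have := Nat.pow_le_pow_right (show 2 > 0 by norm_num) (show d ≤ 3 by omega)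
        omega
      omega
    subst hd4
    norm_num at hdvd
  have hk3 : ψ ^ 3 = 1 := by
    refine MulEquiv.ext fun x => ?_
    have hmem : x⁻¹ * (ψ ^ 3) x ∈ center T := by
      rw [← QuotientGroup.eq, ← hκ]; exact (hκ3 _).symm
    set h := x⁻¹ * (ψ ^ 3) x with hh
    have hx : (ψ ^ 3) x = x * h := (mul_inv_cancel_left _ _).symm
    have hit : ∀ i, ((ψ ^ 3) ^ i) x = x * h ^ i := by
      intro i
      induction i with
      | zero => simp
      | succ i ih =>
        rw [pow_succ', MulAut.mul_apply, ih, map_mul, map_pow, hψZ h hmem, hx, mul_assoc, ← pow_succ']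
    have h1 := hit (3 ^ b)
    rw [← pow_mul, mul_comm 3, pow_mul, hψb, one_pow, MulAut.one_apply, left_eq_mul] at h1
    have h2 : h = 1 := by
      obtain ⟨t, ht⟩ : Odd (3 ^ b) := Odd.pow (by decide)
      rw [ht, pow_succ, pow_mul, (hZ h).1 hmem, one_pow, one_mul] at h1
      exact h1
    rw [hx, h2, mul_one]; rfl
  refine ⟨F, fF, finF, chF, ψ,
    { n := R.n, two_le := R.two_le, card := R.card, g := R.g ^ M, orderOf_g := hg3
      ι := R.ι, ι_add := R.ι_add, ι_inj := R.ι_inj, mem_iff := R.mem_iff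
      k_ι := fun u => hpow M u
      center_iff := hZ, sq_mem := hsq, comm_mem := hcomm
      k_pow := by rw [hn]; exact hk3
      nonab := by
        by_contra h
        push Not at h
        exact hna ⟨⟨h⟩⟩ }, hn⟩

end

namespace Suz

variable {T : Type*} [Group T] {F : Type} [Field F] [CharP F 2] {k : MulAut T} (S : Suz T F k)
  (hn : S.n = 2)
include hn

theorem g_rel : (S.g : F) ^ 2 = (S.g : F) + 1 ∧ (S.g : F) ≠ 1 ∧ (S.g : F) ^ 3 = 1 := by
  have h3 := pow_orderOf_eq_one S.g
  have ho := S.orderOf_g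
  rw [hn] at ho
  have ho' : orderOf S.g = 3 := by rw [ho]; norm_num
  rw [ho'] at h3
  have h3' : (S.g : F) ^ 3 = 1 := by rw [← Units.val_pow_eq_pow_val, h3, Units.val_one]
  have h1 : (S.g : F) ≠ 1 := fun h => by
    have : S.g = 1 := Units.ext h
    rw [this, orderOf_one] at ho'
    norm_num at ho'
  refine ⟨?_, h1, h3'⟩
  have : ((S.g : F) - 1) * ((S.g : F) ^ 2 + (S.g : F) + 1) = 0 := by linear_combination h3'
  have h4 := (mul_eq_zero.1 this).resolve_left (sub_ne_zero.2 h1)
  exact CharTwo.add_eq_zero.1 (by rw [← add_assoc]; exact h4)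

theorem mem_four [Finite F] (a : F) :
    a = 0 ∨ a = 1 ∨ a = (S.g : F) ∨ a = (S.g : F) ^ 2 := by
  classical
  haveI := Fintype.ofFinite F
  obtain ⟨hg, hg1, hg3⟩ := S.g_rel hn
  by_contra h
  simp only [not_or] at h
  have hg0 : (S.g : F) ≠ 0 := S.g.ne_zero
  have hg21 : (S.g : F) ^ 2 ≠ 1 := fun e => hg0 (by simpa [e] using hg)
  have hg2g : (S.g : F) ^ 2 ≠ S.g := fun e => one_ne_zero (α := F) (by simpa [e] using hg)
  have hc : ({a, 0, 1, (S.g : F), (S.g : F) ^ 2} : Finset F).card = 5 := by
    simp [Finset.card_insert_of_notMem, h.1, h.2.1, h.2.2.1, h.2.2.2, hg0, hg0.symm, hg1.symm,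
      hg21.symm, hg2g.symm, (pow_ne_zero 2 hg0).symm]
  have := Finset.card_le_univ ({a, 0, 1, (S.g : F), (S.g : F) ^ 2} : Finset F)
  rw [hc, ← Nat.card_eq_fintype_card, S.card, hn] at this
  norm_num at this

/-- The normal form of the squaring map when the centre has order four. -/
theorem exists_normal_form [Finite T] [Finite F] :
    ∃ π : T →* Multiplicative (F × F), Function.Surjective π ∧ π.ker = center T ∧
      ∀ p, S.sqMap p = (Multiplicative.toAdd (π p)).1 ^ 2 +
        (Multiplicative.toAdd (π p)).1 * (Multiplicative.toAdd (π p)).2 +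
        (S.g : F) * (Multiplicative.toAdd (π p)).2 ^ 2 := by
  classical
  obtain ⟨hg, hg1, hg3⟩ := S.g_rel hn
  have hg0 : (S.g : F) ≠ 0 := S.g.ne_zero
  have h2 : (2 : F) = 0 := CharTwo.two_eq_zero
  letI : CommGroup (T ⧸ center T) :=
    { (inferInstance : Group (T ⧸ center T)) with mul_comm := S.quot_comm }
  letI : Module (ZMod 2) (Additive (T ⧸ center T)) := AddCommGroup.zmodModule (n := 2) fun v => by
    rw [two_nsmul]
    exact Additive.toMul.injective ((sq _).symm.trans (S.quot_sq (Additive.toMul v)))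
  letI := ZMod.algebra F 2
  haveI : Module.Finite (ZMod 2) F := Module.Finite.of_finite
  haveI : Module.Finite (ZMod 2) (Additive (T ⧸ center T)) := Module.Finite.of_finite
  have hsum : ∀ x : T, ((x * k x * (k ^ 2) x : T) : T ⧸ center T) = 1 := by
    intro x
    by_contra h
    have hk3 : k ^ 3 = 1 := by have := S.k_pow; rw [hn] at this; exact this
    have hi : (S.kV ^ 1) ((x * k x * (k ^ 2) x : T) : T ⧸ center T) = (x * k x * (k ^ 2) x : T) := by
      have e3 : k ((k ^ 2) x) = x := by rw [← MulAut.mul_apply, ← pow_succ', hk3, MulAut.one_apply]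
      have e2 : k (k x) = (k ^ 2) x := by rw [← MulAut.mul_apply, ← sq]
      rw [S.kV_pow_mk, pow_one, map_mul, map_mul, e3, e2]
      simp only [QuotientGroup.mk_mul]
      rw [S.quot_comm ((k x : T) * ((k ^ 2) x : T)) (x : T), mul_assoc]
    have := S.eq_zero_of_fixed (i := 1) (by rw [hn]; norm_num) h hi
    omega
  have hk2 : ∀ x : T, (((k ^ 2) x : T) : T ⧸ center T) = ((x * k x : T) : T ⧸ center T) := fun x => by
    have h := hsum x
    rw [QuotientGroup.mk_mul] at h
    have hinv := inv_eq_of_mul_eq_one_right h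
    rw [← hinv]
    exact inv_eq_of_mul_eq_one_right (by rw [← sq]; exact S.quot_sq _)
  have hline : ∀ x, S.brMap x (k x) = 0 := by
    intro x
    have h := S.sqMap_mul x (k x)
    rw [← S.sqMap_congr (hk2 x), S.sqMap_k, sq k, MulAut.mul_apply, S.sqMap_k, S.sqMap_k] at h
    linear_combination -h + S.sqMap x * hg
  have hright : ∀ x y, S.brMap x (k y) = (S.g : F) ^ 2 * S.brMap x y ∧
      S.brMap (k x) y = (S.g : F) ^ 2 * S.brMap x y := by
    intro x y
    have hk3 : k ^ 3 = 1 := by have := S.k_pow; rw [hn] at this; exact this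
    have hkkk : ∀ z, k ((k ^ 2) z) = z := fun z => by
      rw [← MulAut.mul_apply, ← pow_succ', hk3, MulAut.one_apply]
    set c := S.brMap x y
    set A := S.brMap x (k y) with hA
    set B := S.brMap (k x) y with hB
    have e1 : B = (S.g : F) * (c + A) := by
      rw [hB, hA, ← S.brMap_add_right, ← S.brMap_congr rfl (hk2 y), ← S.brMap_k, hkkk]
    have e2 : A = (S.g : F) * (c + B) := by
      rw [hB, hA, ← S.brMap_add_left, ← S.brMap_congr (hk2 x) rfl, ← S.brMap_k, hkkk]
    have hAB : A = B := by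
      have h5 : (A - B) * (1 + (S.g : F)) = 0 := by linear_combination e2 - e1
      have hne : (1 : F) + S.g ≠ 0 := by rw [add_comm, ← hg]; exact pow_ne_zero _ hg0
      exact sub_eq_zero.1 ((mul_eq_zero.1 h5).resolve_right hne)
    have hAv : A = (S.g : F) ^ 2 * c := by
      rw [← hAB] at e2
      have h6 : A * (S.g : F) ^ 2 = (S.g : F) * c := by
        linear_combination e2 + A * hg + (A * (S.g : F)) * h2
      linear_combination (S.g : F) * h6 - A * hg3
    exact ⟨hAv, hAB ▸ hAv⟩
  have hscal : ∀ (i : ℕ) x y, S.brMap x ((k ^ i) y) = (S.g : F) ^ (2 * i) * S.brMap x y := by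
    intro i x y
    induction i with
    | zero => simp
    | succ i ih => rw [pow_succ', MulAut.mul_apply, (hright x _).1, ih, Nat.mul_succ, pow_add]; ring
  have hqk : ∀ (i : ℕ) x, S.sqMap ((k ^ i) x) = (S.g : F) ^ i * S.sqMap x := by
    intro i x
    induction i with
    | zero => simp
    | succ i ih => rw [pow_succ', MulAut.mul_apply, S.sqMap_k, ih, pow_succ', mul_assoc]
  have hnot : ∀ x, x ∉ center T → S.sqMap x ≠ 0 := fun x hx h => hx (S.mem_center_of_sqMap h)
  -- first basis vector
  obtain ⟨x, hxq⟩ : ∃ x, S.sqMap x = 1 := by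
    obtain ⟨v, hv⟩ := S.exists_ne_one
    induction v using QuotientGroup.induction_on with
    | _ w =>
      have hw : S.sqMap w ≠ 0 := hnot w fun h => hv ((QuotientGroup.eq_one_iff w).2 h)
      rcases S.mem_four hn (S.sqMap w) with h | h | h | h
      · exact absurd h hw
      · exact ⟨w, h⟩
      · exact ⟨(k ^ 2) w, by rw [hqk, h, ← pow_succ, hg3]⟩
      · exact ⟨(k ^ 1) w, by rw [hqk, h, pow_one, ← pow_succ', hg3]⟩
  -- second vector
  obtain ⟨y, hy1⟩ : ∃ y, S.brMap x y ≠ 0 := by
    by_contra h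
    push Not at h
    have hxc : x ∉ center T := fun hc => by
      have h1 : S.sqMap x = 0 := by
        show S.coord (x ^ 2) = 0
        rw [(S.center_iff x).1 hc, S.coord_one]
      exact one_ne_zero (hxq.symm.trans h1)
    refine hxc (mem_center_iff.2 fun z => ?_)
    exact (commutatorElement_eq_one_iff_mul_comm.1 (S.coord_eq_zero (S.comm_mem x z) (h z))).symm
  obtain ⟨y₁, hy₁⟩ : ∃ y₁, S.brMap x y₁ = 1 := by
    rcases S.mem_four hn (S.brMap x y) with h | h | h | h
    · exact absurd h hy1
    · exact ⟨y, h⟩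
    · exact ⟨(k ^ 1) y, by rw [hscal, h, ← pow_succ, show 2 * 1 + 1 = 3 from rfl, hg3]⟩
    · exact ⟨(k ^ 2) y, by rw [hscal, h, ← pow_add, show 2 * 2 + 2 = 3 * 2 from rfl, pow_mul, hg3, one_pow]⟩
  obtain ⟨y₂, hy₂, hy₂q⟩ : ∃ y₂, S.brMap x y₂ = 1 ∧ S.sqMap y₂ = (S.g : F) := by
    have hy₁c : y₁ ∉ center T := fun hc => one_ne_zero (hy₁.symm.trans (S.brMap_center hc x).2)
    rcases S.mem_four hn (S.sqMap y₁) with h | h | h | h
    · exact absurd h (hnot _ hy₁c)
    · exfalso
      have h1 : S.sqMap (x * y₁ * y₁) = 1 := by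
        rw [mul_assoc, ← sq, ← hxq]
        refine (S.sqMap_congr ?_).symm
        rw [QuotientGroup.eq, inv_mul_cancel_left]; exact S.sq_mem y₁
      -- `x + k y₁` is singular
      have hk1 : S.brMap x ((k ^ 2) y₁) = (S.g : F) := by
        rw [hscal, hy₁, show 2 * 2 = 3 + 1 from rfl, pow_succ, hg3, one_mul, mul_one]
      have h3 : S.sqMap ((k ^ 2) y₁) = (S.g : F) ^ 2 := by rw [hqk, h, mul_one]
      have h4 : S.sqMap (x * (k ^ 2) y₁) = 0 := by
        rw [S.sqMap_mul, hxq, h3, hk1]
        linear_combination hg + ((S.g : F) + 1) * h2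
      have h5 := S.mem_center_of_sqMap h4
      have h6 : S.brMap x (x * (k ^ 2) y₁) = 0 := (S.brMap_center h5 x).2
      rw [S.brMap_add_right, hk1, brMap, commutatorElement_self, S.coord_one, zero_add] at h6
      exact hg0 h6
    · exact ⟨y₁, hy₁, h⟩
    · refine ⟨y₁ * (k ^ 2) x, ?_, ?_⟩
      · rw [S.brMap_add_right, hy₁, hscal, brMap, commutatorElement_self, S.coord_one, mul_zero,
          add_zero]
      · have h3 : S.brMap y₁ x = 1 := by
          have h4 := S.sqMap_mul x y₁
          have h5 := S.sqMap_mul y₁ x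
          have h6 : S.sqMap (x * y₁) = S.sqMap (y₁ * x) :=
            S.sqMap_congr (by rw [QuotientGroup.mk_mul, QuotientGroup.mk_mul, S.quot_comm])
          linear_combination -h5 + h4 + hy₁ - h6
        rw [S.sqMap_mul, h, hqk, hxq, hscal, h3]
        linear_combination ((S.g : F) ^ 2) * h2 + (S.g : F) * hg3
  -- the coordinate map
  have hli : LinearIndependent (ZMod 2) ![(1 : F), (S.g : F) ^ 2] := by
    rw [LinearIndependent.pair_iff]
    intro s t hst
    rcases (show ∀ r : ZMod 2, r = 0 ∨ r = 1 by decide) s with rfl | rfl <;>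
      rcases (show ∀ r : ZMod 2, r = 0 ∨ r = 1 by decide) t with rfl | rfl <;> simp at hst ⊢
    exact hg0 (by linear_combination hst - hg - h2)
  let bF : Module.Basis (Fin 2) (ZMod 2) F :=
    basisOfLinearIndependentOfCardEqFinrank hli (by rw [Fintype.card_fin, finrank_eq S.card, hn])
  let vec : T → Additive (T ⧸ center T) := fun z => Additive.ofMul (z : T ⧸ center T)
  let L : T → (F →ₗ[ZMod 2] Additive (T ⧸ center T)) := fun z =>
    bF.constr (ZMod 2) ![vec z, vec (k z)]
  have hL1 : ∀ z, L z 1 = vec z := fun z => by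
    have : bF 0 = (1 : F) := by simp [bF]
    rw [← this]; exact bF.constr_basis _ _ 0
  have hL2 : ∀ z, L z ((S.g : F) ^ 2) = vec (k z) := fun z => by
    have : bF 1 = (S.g : F) ^ 2 := by simp [bF]
    rw [← this]; exact bF.constr_basis _ _ 1
  have hLg : ∀ z, L z (S.g : F) = vec ((k ^ 2) z) := fun z => by
    rw [show (S.g : F) = 1 + (S.g : F) ^ 2 by linear_combination -hg - h2, map_add, hL1, hL2]
    show _ = Additive.ofMul _
    rw [hk2, QuotientGroup.mk_mul, ofMul_mul]
  let rep : T → F → T := fun z a => if a = 0 then 1 else if a = 1 then z else if a = (S.g : F) then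
    (k ^ 2) z else k z
  have hrep : ∀ z a, vec (rep z a) = L z a := by
    intro z a
    have e1 : (1 : F) ≠ 0 := one_ne_zero
    have e3 : (S.g : F) ^ 2 ≠ S.g := fun e => e1 (by simpa [e] using hg)
    have e4 : (S.g : F) ^ 2 ≠ 1 := fun e => hg0 (by simpa [e] using hg)
    rcases S.mem_four hn a with rfl | rfl | rfl | rfl
    · simp [rep, vec]
    · simp [rep, hL1]
    · simp [rep, hg0, hg1, hLg]
    · simp [rep, e4, e3, hL2, hg0]
  have hqrep : ∀ z a, S.sqMap (rep z a) = a ^ 2 * S.sqMap z := by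
    intro z a
    have e1 : (1 : F) ≠ 0 := one_ne_zero
    have e3 : (S.g : F) ^ 2 ≠ S.g := fun e => e1 (by simpa [e] using hg)
    have e4 : (S.g : F) ^ 2 ≠ 1 := fun e => hg0 (by simpa [e] using hg)
    rcases S.mem_four hn a with rfl | rfl | rfl | rfl
    · simp [rep, sqMap, S.coord_one]
    · simp [rep]
    · simp [rep, hg0, hg1, hqk]
    · simp only [rep, e4, e3, hg0, pow_eq_zero_iff two_ne_zero, if_false]
      rw [S.sqMap_k]
      linear_combination -((S.g : F) * S.sqMap z) * hg3
  have hbrep : ∀ z w a, S.brMap z (rep w a) = a * S.brMap z w ∧ S.brMap (rep z a) w = a * S.brMap z w := by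
    intro z w a
    have e1 : (1 : F) ≠ 0 := one_ne_zero
    have e3 : (S.g : F) ^ 2 ≠ S.g := fun e => e1 (by simpa [e] using hg)
    have e4 : (S.g : F) ^ 2 ≠ 1 := fun e => hg0 (by simpa [e] using hg)
    rcases S.mem_four hn a with rfl | rfl | rfl | rfl
    · simp [rep, brMap, S.coord_one]
    · simp [rep]
    · simp only [rep, hg0, hg1, if_false, if_true]
      rw [hscal, sq k, MulAut.mul_apply, (hright _ _).2, (hright _ _).2]
      exact ⟨by linear_combination (S.g : F) * S.brMap z w * hg3,
        by linear_combination (S.g : F) * S.brMap z w * hg3⟩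
    · simp only [rep, e4, e3, hg0, pow_eq_zero_iff two_ne_zero, if_false]
      exact hright z w
  let L2 : F × F →+ Additive (T ⧸ center T) :=
    (L x).toAddMonoidHom.coprod (L y₂).toAddMonoidHom
  have hform : ∀ a c : F, ∀ p : T, vec p = L2 (a, c) →
      S.sqMap p = a ^ 2 + a * c + (S.g : F) * c ^ 2 := by
    intro a c p hp
    have hp' : (p : T ⧸ center T) = ((rep x a * rep y₂ c : T) : T ⧸ center T) := by
      apply Additive.ofMul.injective
      rw [QuotientGroup.mk_mul, ofMul_mul]
      show vec p = vec (rep x a) + vec (rep y₂ c)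
      rw [hp, hrep, hrep]; rfl
    rw [S.sqMap_congr hp', S.sqMap_mul, hqrep, hqrep, (hbrep x (rep y₂ c) a).2, (hbrep x y₂ c).1,
      hxq, hy₂q, hy₂]
    ring
  have hinj : Function.Injective L2 := by
    rw [injective_iff_map_eq_zero]
    rintro ⟨a, c⟩ h0
    have h := hform a c 1 (by rw [h0]; simp [vec])
    rw [sqMap, one_pow, S.coord_one] at h
    by_cases hc : c = 0
    · subst hc
      have : a = 0 := pow_eq_zero_iff two_ne_zero |>.1 (by simpa using h.symm)
      rw [this]; rfl
    · exfalso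
      set t := a / c with ht
      have hteq : t ^ 2 + t + (S.g : F) = 0 := by
        rw [ht, div_pow]; field_simp; linear_combination -h
      rcases S.mem_four hn t with e | e | e | e <;> rw [e] at hteq
      · exact hg0 (by simpa using hteq)
      · exact hg0 (by linear_combination hteq - h2)
      · exact hg0 (pow_eq_zero_iff two_ne_zero |>.1 (by linear_combination hteq - (S.g : F) * h2))
      · exact hg0 (pow_eq_zero_iff two_ne_zero |>.1
          (by linear_combination hteq - (S.g : F) * hg3 - (S.g : F) * h2))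
  have hVcard : Nat.card (T ⧸ center T) ≤ 16 := by
    rcases S.card_quotient with h | h <;> rw [h, hn] <;> norm_num
  have hbij : Function.Bijective L2 := hinj.bijective_of_nat_card_le (by
    rw [Nat.card_prod, S.card, hn, Nat.card_congr (Additive.toMul (α := T ⧸ center T))]
    simpa using hVcard)
  let e := AddEquiv.ofBijective L2 hbij
  let π : T →* Multiplicative (F × F) := MonoidHom.mk'
    (fun p => Multiplicative.ofAdd (e.symm (vec p))) fun p r => by
      rw [← ofAdd_add, ← map_add]; rfl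
  refine ⟨π, fun w => ?_, ?_, fun p => hform _ _ p ?_⟩
  · obtain ⟨p, hp⟩ := QuotientGroup.mk_surjective (Additive.toMul (e (Multiplicative.toAdd w)))
    refine ⟨p, ?_⟩
    show Multiplicative.ofAdd (e.symm (vec p)) = w
    have : vec p = e (Multiplicative.toAdd w) := Additive.toMul.injective hp
    rw [this, AddEquiv.symm_apply_apply]; rfl
  · ext p
    rw [MonoidHom.mem_ker, ← QuotientGroup.eq_one_iff (N := center T)]
    show Multiplicative.ofAdd (e.symm (vec p)) = 1 ↔ _
    rw [ofAdd_eq_one, AddEquiv.map_eq_zero_iff]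
    exact ⟨fun h => Additive.ofMul.injective h, fun h => congrArg Additive.ofMul h⟩
  · show vec p = L2 (e.symm (vec p))
    exact (e.apply_symm_apply _).symm

end Suz

/-- Any two Suzuki two-groups with centre of order four and order sixty-four are isomorphic. -/
theorem nonempty_mulEquiv_of_four {T T' : Type*} [Group T] [Group T'] [Finite T] [Finite T']
    {F F' : Type} [Field F] [Field F'] [Finite F] [Finite F'] [CharP F 2] [CharP F' 2]
    {k : MulAut T} {k' : MulAut T'} (S : Suz T F k) (S' : Suz T' F' k') (hn : S.n = 2)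
    (hn' : S'.n = 2) : Nonempty (T ≃* T') := by
  classical
  obtain ⟨π, hπs, hπk, hπq⟩ := S.exists_normal_form hn
  obtain ⟨π', hπs', hπk', hπq'⟩ := S'.exists_normal_form hn'
  haveI := Fintype.ofFinite F
  haveI := Fintype.ofFinite F'
  obtain ⟨e₀⟩ : Nonempty (F ≃+* F') := ⟨FiniteField.ringEquivOfCardEq (by
    rw [← Nat.card_eq_fintype_card, ← Nat.card_eq_fintype_card, S.card, S'.card, hn, hn'])⟩
  obtain ⟨hg, hg1, hg3⟩ := S.g_rel hn
  obtain ⟨hg', hg1', hg3'⟩ := S'.g_rel hn'
  obtain ⟨e, he⟩ : ∃ e : F ≃+* F', e (S.g : F) = (S'.g : F') := by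
    rcases S'.mem_four hn' (e₀ (S.g : F)) with h | h | h | h
    · exact absurd (e₀.map_eq_zero_iff.1 h) S.g.ne_zero
    · exact absurd (e₀.map_eq_one_iff.1 h) hg1
    · exact ⟨e₀, h⟩
    · let fr : F' ≃+* F' := RingEquiv.ofBijective (frobenius F' 2)
        (Finite.injective_iff_bijective.1 (frobenius F' 2).injective)
      refine ⟨e₀.trans fr, ?_⟩
      show (e₀ (S.g : F)) ^ 2 = _
      rw [h, ← pow_mul, show 2 * 2 = 3 + 1 from rfl, pow_succ, hg3', one_mul]
  let mE : Multiplicative (F × F) ≃* Multiplicative (F' × F') :=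
    AddEquiv.toMultiplicative (e.toAddEquiv.prodCongr e.toAddEquiv)
  let ιT : Multiplicative F' →* T := MonoidHom.mk'
    (fun z => S.ι (e.symm (Multiplicative.toAdd z))) fun z w => by rw [toAdd_mul, map_add, S.ι_add]
  let ιT' : Multiplicative F' →* T' := MonoidHom.mk'
    (fun z => S'.ι (Multiplicative.toAdd z)) fun z w => by rw [toAdd_mul, S'.ι_add]
  refine nonempty_mulEquiv_of_squares ιT ιT' (mE.toMonoidHom.comp π) π' ?_ ?_ ?_ hπs' ?_ ?_ ?_ ?_ ?_
  · exact fun z w h => Multiplicative.toAdd.injective (e.symm.injective (S.ι_inj h))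
  · exact fun z w h => Multiplicative.toAdd.injective (S'.ι_inj h)
  · exact mE.surjective.comp hπs
  · have hk : (mE.toMonoidHom.comp π).ker = π.ker := by
      ext p
      exact mE.map_eq_one_iff
    rw [hk, hπk]
    ext z
    constructor
    · rintro ⟨w, rfl⟩; exact S.ι_mem _
    · intro hz
      refine ⟨Multiplicative.ofAdd (e (S.coord z)), ?_⟩
      show S.ι (e.symm (e (S.coord z))) = z
      rw [RingEquiv.symm_apply_apply, S.ι_coord hz]
  · rw [hπk']
    ext z
    constructor
    · rintro ⟨w, rfl⟩; exact S'.ι_mem _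
    · exact fun hz => ⟨Multiplicative.ofAdd (S'.coord z), S'.ι_coord hz⟩
  · rintro _ ⟨z, rfl⟩; exact S.ι_mem _
  · rintro _ ⟨z, rfl⟩; exact S'.ι_mem _
  · intro p p' hpp
    refine ⟨Multiplicative.ofAdd (S'.sqMap p'), ?_, (S'.ι_coord (S'.sq_mem p')).symm⟩
    show p ^ 2 = S.ι (e.symm (S'.sqMap p'))
    have h' : Multiplicative.toAdd (π' p') =
        (e (Multiplicative.toAdd (π p)).1, e (Multiplicative.toAdd (π p)).2) := by
      rw [← hpp]; rfl
    rw [hπq', h', ← he, ← map_pow, ← map_pow, ← map_mul, ← map_mul, ← map_add, ← map_add,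
      RingEquiv.symm_apply_apply, ← hπq, Suz.sqMap, S.ι_coord (S.sq_mem p)]

end CfsgLib.TransInvol
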