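import Mathlib
import Cfsg.Agent.Lib.PGroup.TransInvol.Suzuki
import Cfsg.Agent.Lib.PGroup.TransInvol.FibreProduct

/-!
# Suzuki two-groups of order `q ^ 2` are of type A
-/

set_option autoImplicit false

open Subgroup Cfsg
open scoped commutatorElement

namespace CfsgLib.TransInvol

section Matrices

variable {F : Type} [Field F] [CharP F 2] (φ : F →+* F)

/-- The standard element of the group of type A. -/
def typeAElt (x y : F) : GL (Fin 3) F where
  val := !![1, 0, 0; x, 1, 0; y, φ x, 1]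
  inv := !![1, 0, 0; x, 1, 0; y + φ x * x, φ x, 1]
  val_inv := by
    ext i j
    fin_cases i <;> fin_cases j <;> simp [Matrix.mul_apply, Fin.sum_univ_three, CharTwo.add_self_eq_zero]
  inv_val := by
    ext i j
    fin_cases i <;> fin_cases j <;> simp [Matrix.mul_apply, Fin.sum_univ_three, CharTwo.add_self_eq_zero]
    linear_combination CharTwo.add_self_eq_zero (y + φ x * x)

theorem typeAElt_mul (x y x' y' : F) :
    typeAElt φ x y * typeAElt φ x' y' = typeAElt φ (x + x') (y + y' + φ x * x') := by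
  refine Units.ext ?_
  show (typeAElt φ x y : Matrix (Fin 3) (Fin 3) F) * typeAElt φ x' y' = _
  ext i j
  fin_cases i <;> fin_cases j <;> simp [typeAElt, Matrix.mul_apply, Fin.sum_univ_three]
  ring

theorem typeAElt_zero : typeAElt φ 0 0 = 1 := by
  refine Units.ext ?_
  ext i j
  fin_cases i <;> fin_cases j <;> simp [typeAElt]

theorem typeAElt_inj {x y x' y' : F} (h : typeAElt φ x y = typeAElt φ x' y') : x = x' ∧ y = y' :=
  ⟨congrArg (fun g : GL (Fin 3) F => (g : Matrix (Fin 3) (Fin 3) F) 1 0) h,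
    congrArg (fun g : GL (Fin 3) F => (g : Matrix (Fin 3) (Fin 3) F) 2 0) h⟩

theorem mem_suzukiTypeA {g : GL (Fin 3) F} :
    g ∈ suzukiTypeA F φ ↔ ∃ x y, g = typeAElt φ x y := by
  let T : Subgroup (GL (Fin 3) F) :=
    { carrier := {g | ∃ x y, g = typeAElt φ x y}
      one_mem' := ⟨0, 0, (typeAElt_zero φ).symm⟩
      mul_mem' := fun {a b} ⟨x, y, ha⟩ ⟨x', y', hb⟩ =>
        ⟨_, _, (congrArg₂ (· * ·) ha hb).trans (typeAElt_mul φ x y x' y')⟩
      inv_mem' := fun {a} ⟨x, y, ha⟩ => ⟨x, y + φ x * x, (congrArg (·⁻¹) ha).trans (Units.ext rfl)⟩ }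
  constructor
  · intro h
    refine (closure_le T).2 ?_ h
    rintro a ⟨x, y, ha⟩
    exact ⟨x, y, Units.ext ha⟩
  · rintro ⟨x, y, rfl⟩
    exact subset_closure ⟨x, y, rfl⟩

end Matrices

section Form

variable {F : Type} [Field F] [Finite F] [CharP F 2] {n : ℕ} (hcard : Nat.card F = 2 ^ n)
include hcard

theorem exists_exponents (μ g : F) (β : F → F → F) (hl : ∀ u v w, β (u + v) w = β u w + β v w)
    (hr : ∀ u v w, β u (v + w) = β u v + β u w) (halt : ∀ u, β u u = 0)
    (heq : ∀ u v, β (μ * u) (μ * v) = g * β u v) {u₀ v₀ : F} (hne : β u₀ v₀ ≠ 0) :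
    ∃ i j, i < n ∧ j < n ∧ i ≠ j ∧ g = μ ^ (2 ^ i + 2 ^ j) := by
  classical
  let e : (Fin n → F) ≃+ (F →+ F) := AddEquiv.ofBijective (comb n) (comb_bijective hcard)
  let a : F →+ (Fin n → F) := e.symm.toAddMonoidHom.comp
    (AddMonoidHom.mk' (fun u => AddMonoidHom.mk' (β u) (hr u))
      (fun u v => AddMonoidHom.ext (hl u v)))
  let b : Fin n → Fin n → F := fun j =>
    e.symm ((Pi.evalAddMonoidHom (fun _ : Fin n => F) j).comp a)
  have hexp : ∀ u v, β u v = ∑ j, (∑ i, b j i * u ^ (2 ^ (i : ℕ))) * v ^ (2 ^ (j : ℕ)) := by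
    intro u v
    have h1 : ∀ j, a u j = ∑ i, b j i * u ^ (2 ^ (i : ℕ)) := by
      intro j
      rw [← comb_apply]
      have : comb n (b j) = (Pi.evalAddMonoidHom (fun _ : Fin n => F) j).comp a :=
        e.apply_symm_apply _
      rw [this]; rfl
    have h2 : comb n (a u) = AddMonoidHom.mk' (β u) (hr u) := e.apply_symm_apply _
    have h3 := DFunLike.congr_fun h2 v
    rw [comb_apply] at h3
    simp only [h1] at h3
    simpa using h3.symm
  have huniq : ∀ d : Fin n → Fin n → F,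
      (∀ u v, ∑ j, (∑ i, d j i * u ^ (2 ^ (i : ℕ))) * v ^ (2 ^ (j : ℕ)) = 0) → d = 0 := by
    intro d hd
    funext j
    refine (injective_iff_map_eq_zero _).1 (comb_injective hcard) (d j) (AddMonoidHom.ext fun u => ?_)
    have h := (injective_iff_map_eq_zero _).1 (comb_injective hcard)
      (fun j => ∑ i, d j i * u ^ (2 ^ (i : ℕ))) (AddMonoidHom.ext fun v => by
        rw [comb_apply]; simpa using hd u v)
    rw [comb_apply]
    simpa using congrFun h j
  have hd : (fun j i : Fin n => b j i * (μ ^ (2 ^ (i : ℕ)) * μ ^ (2 ^ (j : ℕ)) - g)) = 0 := by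
    refine huniq _ fun u v => ?_
    have h := heq u v
    rw [hexp, hexp, Finset.mul_sum, ← sub_eq_zero, ← Finset.sum_sub_distrib] at h
    rw [← h]
    refine Finset.sum_congr rfl fun j _ => ?_
    rw [Finset.sum_mul, Finset.sum_mul, Finset.sum_mul, Finset.mul_sum, ← Finset.sum_sub_distrib]
    refine Finset.sum_congr rfl fun i _ => ?_
    rw [mul_pow, mul_pow]
    ring
  by_contra hcon
  push Not at hcon
  have hoff : ∀ j i : Fin n, i ≠ j → b j i = 0 := by
    intro j i hij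
    by_contra hb
    have h := congrFun (congrFun hd j) i
    simp only [Pi.zero_apply, mul_eq_zero, hb, false_or, sub_eq_zero, ← pow_add] at h
    exact hcon i j i.2 j.2 (fun h' => hij (Fin.ext h')) h.symm
  have hdiag : ∀ u v, β u v = ∑ j, b j j * (u * v) ^ (2 ^ (j : ℕ)) := by
    intro u v
    rw [hexp]
    refine Finset.sum_congr rfl fun j _ => ?_
    rw [Finset.sum_eq_single j (fun i _ hi => by rw [hoff j i hi, zero_mul])
      (fun h => absurd (Finset.mem_univ j) h), mul_pow, mul_assoc]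
  have hzero : (fun j => b j j) = 0 := by
    refine (injective_iff_map_eq_zero _).1 (comb_injective hcard) _ (AddMonoidHom.ext fun x => ?_)
    obtain ⟨u, rfl⟩ := square_surjective hcard x
    rw [comb_apply, sq, ← hdiag, halt]; rfl
  refine hne ?_
  rw [hdiag]
  exact Finset.sum_eq_zero fun j _ => by rw [show b j j = 0 from congrFun hzero j, zero_mul]

end Form

theorem exists_frobenius_twist {n : ℕ} (hn : 2 ≤ n) {t : ℕ} (ht0 : 0 < t) :
    (∃ o s, Odd o ∧ t * o = n * s) ∨
      ∃ D, 3 ≤ D ∧ D ∣ 2 ^ n - 1 ∧ D ∣ 2 ^ t + 1 := by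
  set d := Nat.gcd n t
  have hd : 0 < d := Nat.gcd_pos_of_pos_right _ ht0
  obtain ⟨o, ho⟩ : d ∣ n := Nat.gcd_dvd_left n t
  obtain ⟨s, hs⟩ : d ∣ t := Nat.gcd_dvd_right n t
  rcases Nat.even_or_odd o with he | hodd
  · right
    have hs1 : Odd s := by
      rw [← Nat.not_even_iff_odd]
      intro hse
      obtain ⟨a, rfl⟩ := even_iff_two_dvd.1 he
      obtain ⟨b, rfl⟩ := even_iff_two_dvd.1 hse
      have h1 : 2 * d ∣ d := Nat.dvd_gcd ⟨a, by rw [ho]; ring⟩ ⟨b, by rw [hs]; ring⟩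
      have := Nat.le_of_dvd hd h1
      omega
    refine ⟨2 ^ d + 1, ?_, ?_, ?_⟩
    · have := Nat.pow_le_pow_right (show 2 > 0 by norm_num) hd
      norm_num at this
      omega
    · obtain ⟨a, rfl⟩ := even_iff_two_dvd.1 he
      refine (Dvd.intro (2 ^ d - 1) ?_).trans
        (Nat.pow_sub_one_dvd_pow_sub_one (x := 2) (show d * 2 ∣ n from ⟨a, by rw [ho, mul_assoc]⟩))
      rw [← Nat.sq_sub_sq, one_pow, ← pow_mul]
    · have := hs1.nat_add_dvd_pow_add_pow (2 ^ d) 1
      rwa [← pow_mul, ← hs, one_pow] at this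
  · exact Or.inl ⟨o, s, hodd, by rw [ho, hs]; ring⟩

theorem exists_typeA {P : Type*} [Group P] (hP : IsSuzukiTwoGroup P)
    (hcard : Nat.card P = Nat.card (center P) ^ 2) :
    ∃ (F : Type) (_ : Field F) (_ : Fintype F) (φ : F ≃+* F), Fintype.card F = Nat.card (center P) ∧
      φ ≠ RingEquiv.refl F ∧ Odd (orderOf φ) ∧ Nonempty (P ≃* suzukiTypeA F (φ : F →+* F)) := by
  haveI := hP.1
  obtain ⟨F, fF, finF, chF, k, ⟨S⟩⟩ := exists_suz hP
  have hn := S.two_le
  have hVcard : Nat.card (P ⧸ center P) = 2 ^ S.n := by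
    rcases S.card_quotient with h | h
    · exact h
    · exfalso
      have h' := (center P).card_mul_index
      rw [Subgroup.index_eq_card, h, hcard, S.card_center, S.card, ← pow_add, ← pow_mul] at h'
      have := Nat.pow_right_injective le_rfl h'
      omega
  have h4 : 2 ^ 2 ≤ 2 ^ S.n := Nat.pow_le_pow_right (by norm_num) hn
  have htr : ∀ x y : P ⧸ center P, x ≠ 1 → x ^ 2 = 1 → y ≠ 1 → y ^ 2 = 1 →
      ∃ i : ℕ, (S.kV ^ i) x = y := by
    intro x y hx _ hy _
    classical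
    let f : Fin (2 ^ S.n - 1) → {v : P ⧸ center P // v ≠ 1} := fun i =>
      ⟨(S.kV ^ (i : ℕ)) x, fun h => hx ((MulEquiv.map_eq_one_iff _).1 h)⟩
    have hinj : Function.Injective f := by
      intro i j hij
      have hij' : (S.kV ^ (i : ℕ)) x = (S.kV ^ (j : ℕ)) x := congrArg Subtype.val hij
      wlog hle : (i : ℕ) ≤ j generalizing i j
      · exact (this hij.symm hij'.symm (le_of_not_ge hle)).symm
      refine Fin.ext ?_
      have h2 : (S.kV ^ ((j : ℕ) - i)) ((S.kV ^ (i : ℕ)) x) = (S.kV ^ (i : ℕ)) x := by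
        rw [← MulAut.mul_apply, ← pow_add, Nat.sub_add_cancel hle, hij']
      have := S.eq_zero_of_fixed (by omega) (f i).2 h2
      omega
    have hbij := hinj.bijective_of_nat_card_le (by
      show Nat.card ↥({1}ᶜ : Set (P ⧸ center P)) ≤ _
      rw [Nat.card_coe_set_eq, Set.ncard_compl, Set.ncard_singleton, hVcard, Nat.card_fin])
    obtain ⟨i, hi⟩ := hbij.2 ⟨y, hy⟩
    exact ⟨i, congrArg Subtype.val hi⟩
  have htwo : ∃ x y : P ⧸ center P, x ≠ y ∧ x ≠ 1 ∧ x ^ 2 = 1 ∧ y ≠ 1 ∧ y ^ 2 = 1 := by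
    obtain ⟨x, hx⟩ := S.exists_ne_one
    obtain ⟨y, hy⟩ : ∃ y : P ⧸ center P, y ∉ ({1, x} : Set (P ⧸ center P)) := by
      by_contra h
      push Not at h
      have := (Set.ncard_le_ncard (show Set.univ ⊆ ({1, x} : Set (P ⧸ center P)) from fun v _ => h v)
        (Set.toFinite _)).trans (Set.ncard_pair (Ne.symm hx)).le
      rw [Set.ncard_univ, hVcard] at this
      omega
    simp only [Set.mem_insert_iff, Set.mem_singleton_iff, not_or] at hy
    exact ⟨x, y, Ne.symm hy.2, hx, S.quot_sq x, hy.1, S.quot_sq y⟩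
  obtain ⟨F', fF', finF', chF', ⟨S'⟩⟩ := exists_singer htwo (fun x _ g => S.quot_comm x g) S.kV htr
  have hsurj' : Function.Surjective S'.ι := fun v => (S'.mem_iff v).1 (S.quot_sq v)
  have hn' : S'.n = S.n := by
    refine Nat.pow_right_injective le_rfl ?_
    show 2 ^ S'.n = 2 ^ S.n
    rw [← S'.card, Nat.card_eq_of_bijective _ ⟨S'.ι_inj, hsurj'⟩, hVcard]
  haveI := Fintype.ofFinite F
  haveI := Fintype.ofFinite F'
  obtain ⟨e⟩ : Nonempty (F' ≃+* F) := ⟨FiniteField.ringEquivOfCardEq (by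
    rw [← Nat.card_eq_fintype_card, ← Nat.card_eq_fintype_card, S'.card, S.card, hn'])⟩
  let ι₂ : F → P ⧸ center P := fun u => S'.ι (e.symm u)
  have hι₂ : Function.Bijective ι₂ :=
    Function.Bijective.comp (g := S'.ι) ⟨S'.ι_inj, hsurj'⟩ e.symm.bijective
  have hι₂add : ∀ u v, ι₂ (u + v) = ι₂ u * ι₂ v := fun u v => by
    simp only [ι₂, map_add, S'.ι_add]
  set μ := Units.map e.toRingHom.toMonoidHom S'.g with hμ
  have hμo : orderOf μ = 2 ^ S.n - 1 := by
    rw [hμ, orderOf_injective _ (Units.map_injective e.injective), S'.orderOf_g, hn']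
  have hι₂k : ∀ u, S.kV (ι₂ u) = ι₂ ((μ : F) * u) := fun u => by
    simp only [ι₂, S'.k_ι, map_mul, hμ, Units.coe_map]
    congr 2
    exact (e.symm_apply_apply _).symm
  let r : F → P := fun u => (ι₂ u).out
  have hr : ∀ u, ((r u : P) : P ⧸ center P) = ι₂ u := fun u => QuotientGroup.out_eq' _
  let q : F → F := fun u => S.sqMap (r u)
  let β : F → F → F := fun u v => S.brMap (r u) (r v)
  have hradd : ∀ u v, ((r (u + v) : P) : P ⧸ center P) = ((r u * r v : P) : P ⧸ center P) :=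
    fun u v => by rw [QuotientGroup.mk_mul, hr, hr, hr, hι₂add]
  have hrmul : ∀ u, ((r ((μ : F) * u) : P) : P ⧸ center P) = ((k (r u) : P) : P ⧸ center P) :=
    fun u => by rw [hr, ← hι₂k, ← hr, S.kV_mk]
  have hqμ : ∀ u, q ((μ : F) * u) = (S.g : F) * q u := fun u =>
    (S.sqMap_congr (hrmul u)).trans (S.sqMap_k _)
  have hr0 : r 0 ∈ center P := by
    rw [← QuotientGroup.eq_one_iff, hr]
    have h := hι₂add 0 0
    rwa [add_zero, left_eq_mul] at h
  have hq0 : q 0 = 0 := by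
    show S.coord (r 0 ^ 2) = 0
    rw [(S.center_iff _).1 hr0, S.coord_one]
  have hqne : ∀ u, q u = 0 → u = 0 := fun u h => hι₂.1 (by
    rw [← hr, ← hr, (QuotientGroup.eq_one_iff _).2 (S.mem_center_of_sqMap h),
      (QuotientGroup.eq_one_iff _).2 hr0])
  have hsurjr : ∀ x : P, ∃ u, (x : P ⧸ center P) = (r u : P) := fun x => by
    obtain ⟨u, hu⟩ := hι₂.2 (x : P ⧸ center P)
    exact ⟨u, by rw [hr, hu]⟩
  obtain ⟨u₀, v₀, hne⟩ : ∃ u v, β u v ≠ 0 := by
    obtain ⟨x, y, hxy⟩ := S.nonab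
    obtain ⟨u, hu⟩ := hsurjr x
    obtain ⟨v, hv⟩ := hsurjr y
    refine ⟨u, v, fun h => hxy (commutatorElement_eq_one_iff_mul_comm.1 ?_)⟩
    exact S.coord_eq_zero (S.comm_mem x y) ((S.brMap_congr hu hv).trans h)
  obtain ⟨i₁, j₁, hi₁, hj₁, hij, hgμ⟩ := exists_exponents S.card (μ : F) (S.g : F) β
    (fun u v w => (S.brMap_congr (hradd u v) rfl).trans (S.brMap_add_left _ _ _))
    (fun u v w => (S.brMap_congr rfl (hradd v w)).trans (S.brMap_add_right _ _ _))
    (fun u => by show S.coord ⁅r u, r u⁆ = 0; rw [commutatorElement_self, S.coord_one])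
    (fun u v => (S.brMap_congr (hrmul u) (hrmul v)).trans (S.brMap_k _ _)) hne
  obtain ⟨i, t, ht0, htn, hgμ'⟩ : ∃ i t, 0 < t ∧ t < S.n ∧ (S.g : F) = (μ : F) ^ ((1 + 2 ^ t) * 2 ^ i) := by
    rcases Nat.lt_or_gt_of_ne hij with h | h
    · refine ⟨i₁, j₁ - i₁, by omega, by omega, ?_⟩
      rw [hgμ, add_mul, one_mul, ← pow_add, Nat.sub_add_cancel h.le]
    · refine ⟨j₁, i₁ - j₁, by omega, by omega, ?_⟩
      rw [hgμ, add_mul, one_mul, ← pow_add, Nat.sub_add_cancel h.le, add_comm]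
  have hpowq : ∀ (l : ℕ) u, q ((μ : F) ^ l * u) = (S.g : F) ^ l * q u := by
    intro l
    induction l with
    | zero => intro u; simp
    | succ l ih => intro u; rw [pow_succ', mul_assoc, hqμ, ih, pow_succ', mul_assoc]
  have hgen : ∀ u : F, u ≠ 0 → ∃ l : ℕ, (μ : F) ^ l = u := by
    intro u hu
    have htop : Submonoid.powers μ = ⊤ := by
      have hz : zpowers μ = ⊤ := eq_top_of_card_eq _ (by
        rw [Nat.card_zpowers, hμo, Nat.card_units, S.card])
      refine eq_top_iff.2 fun x _ => ?_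
      exact mem_powers_iff_mem_zpowers.2 (hz ▸ Subgroup.mem_top x)
    obtain ⟨l, hl⟩ := Submonoid.mem_powers_iff _ _ |>.1 (htop ▸ Submonoid.mem_top (Units.mk0 u hu))
    exact ⟨l, by simpa using congrArg Units.val hl⟩
  set a := q 1 with ha
  have ha0 : a ≠ 0 := fun h => one_ne_zero (hqne 1 h)
  have hqform : ∀ u, q u = a * (u ^ (2 ^ t) * u) ^ (2 ^ i) := by
    intro u
    by_cases hu : u = 0
    · subst hu; rw [hq0, mul_zero, zero_pow (Nat.two_pow_pos i).ne', mul_zero]
    obtain ⟨l, rfl⟩ := hgen u hu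
    have h := hpowq l 1
    rw [mul_one] at h
    rw [h, ← ha, hgμ', mul_comm a]
    congr 1
    rw [← pow_succ, ← pow_mul, ← pow_mul, ← pow_mul]
    congr 1
    ring
  let φ : F ≃+* F := RingEquiv.ofBijective (iterateFrobenius F 2 t)
    (Finite.injective_iff_bijective.1 (iterateFrobenius F 2 t).injective)
  have hφ : ∀ u, φ u = u ^ (2 ^ t) := fun _ => rfl
  have hφpow : ∀ (m : ℕ) u, (φ ^ m) u = u ^ (2 ^ (t * m)) := by
    intro m
    induction m with
    | zero => intro u; simp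
    | succ m ih =>
      intro u
      rw [pow_succ', RingAut.mul_apply, ih, hφ, ← pow_mul, ← pow_add, Nat.mul_succ]
  have hbig : BigDiv S.n (orderOf μ) := ⟨hn, 1, one_dvd _, by rw [hμo, mul_one]⟩
  have hne1 : φ ≠ RingEquiv.refl F := by
    intro h
    have h1 : (μ : F) ^ (2 ^ t) = (μ : F) ^ (2 ^ 0) := by
      rw [← hφ, h, pow_zero, pow_one]; rfl
    have h2 := eq_of_two_pow μ hbig h1
    have h3 := h2.eq_of_lt_of_lt htn (by omega)
    omega
  have hodd : Odd (orderOf φ) := by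
    rcases exists_frobenius_twist hn ht0 with ⟨o, s, ho, hos⟩ | ⟨D, hD, hD1, hD2⟩
    · refine ho.of_dvd_nat (orderOf_dvd_of_pow_eq_one (RingEquiv.ext fun u => ?_))
      rw [hφpow, hos, pow_two_pow_mod S.card, Nat.mul_mod_right, pow_zero, pow_one]
      rfl
    · exfalso
      obtain ⟨c, hc⟩ := hD1
      obtain ⟨w, hw⟩ := hD2
      have h1 : (μ : F) ^ c ≠ 1 := by
        intro h
        have h' : μ ^ c = 1 := Units.ext (by simpa using h)
        have hcpos : 0 < c := Nat.pos_of_ne_zero fun h0 => by rw [h0, mul_zero] at hc; omega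
        have := Nat.le_of_dvd hcpos (orderOf_dvd_of_pow_eq_one h')
        rw [hμo, hc] at this
        nlinarith
      have h2 : q ((μ : F) ^ c) = q 1 := by
        have h3 : (μ : F) ^ (c * (2 ^ t + 1)) = 1 := by
          rw [hw, ← mul_assoc, mul_comm c, ← hc, ← hμo, pow_mul, ← Units.val_pow_eq_pow_val,
            pow_orderOf_eq_one, Units.val_one, one_pow]
        rw [hqform, hqform, show ((μ : F) ^ c) ^ (2 ^ t) * (μ : F) ^ c = 1 by rw [← pow_succ, ← pow_mul, h3],
          one_pow, one_pow, one_mul, one_pow]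
      have h5 : (S.g : F) ^ c = 1 := by
        have := hpowq c 1
        rw [mul_one, h2] at this
        exact mul_right_cancel₀ ha0 (this.symm.trans (one_mul _).symm)
      have h6 : μ ^ c = 1 := by
        have hg : S.g ^ c = 1 := Units.ext (by simpa using h5)
        exact orderOf_dvd_iff_pow_eq_one.1 (by
          rw [hμo, ← S.orderOf_g]; exact orderOf_dvd_of_pow_eq_one hg)
      exact h1 (by simpa using congrArg Units.val h6)
  refine ⟨F, fF, ‹Fintype F›, φ, by rw [← Nat.card_eq_fintype_card, S.card_center], hne1, hodd, ?_⟩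
  let πP : P →* Multiplicative F := MonoidHom.mk'
    (fun x => Multiplicative.ofAdd (Function.invFun ι₂ (x : P ⧸ center P))) fun x y => by
      rw [← ofAdd_add]
      congr 1
      apply hι₂.1
      rw [hι₂add, Function.invFun_eq (hι₂.2 _), Function.invFun_eq (hι₂.2 _),
        Function.invFun_eq (hι₂.2 _), QuotientGroup.mk_mul]
  let ιP : Multiplicative F →* P := MonoidHom.mk'
    (fun z => S.ι (a * (Multiplicative.toAdd z) ^ (2 ^ i))) fun z w => by
      rw [toAdd_mul, add_pow_expChar_pow, mul_add, S.ι_add]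
  have hmk : ∀ x y : F, typeAElt (φ : F →+* F) x y ∈ suzukiTypeA F (φ : F →+* F) := fun x y =>
    (mem_suzukiTypeA _).2 ⟨x, y, rfl⟩
  let ιH : Multiplicative F →* suzukiTypeA F (φ : F →+* F) := MonoidHom.mk'
    (fun z => ⟨_, hmk 0 (Multiplicative.toAdd z)⟩) fun z w => Subtype.ext (by
      rw [Subgroup.coe_mul, typeAElt_mul]; simp)
  let πH : suzukiTypeA F (φ : F →+* F) →* Multiplicative F := MonoidHom.mk'
    (fun g => Multiplicative.ofAdd (((g : GL (Fin 3) F) : Matrix (Fin 3) (Fin 3) F) 1 0)) fun g h => by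
      obtain ⟨x, y, hg⟩ := (mem_suzukiTypeA _).1 g.2
      obtain ⟨x', y', hh⟩ := (mem_suzukiTypeA _).1 h.2
      rw [Subgroup.coe_mul, hg, hh, typeAElt_mul, ← ofAdd_add]
      simp [typeAElt]
  have hshape : ∀ g : suzukiTypeA F (φ : F →+* F), ∃ x y,
      (g : GL (Fin 3) F) = typeAElt (φ : F →+* F) x y ∧ πH g = Multiplicative.ofAdd x := by
    intro g
    obtain ⟨x, y, hg⟩ := (mem_suzukiTypeA _).1 g.2
    refine ⟨x, y, hg, ?_⟩
    show Multiplicative.ofAdd _ = _
    rw [hg]; rfl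
  refine nonempty_mulEquiv_of_squares ιP ιH πP πH ?_ ?_ ?_ ?_ ?_ ?_ ?_ ?_ ?_
  · intro z w h
    have h1 := mul_left_cancel₀ ha0 (S.ι_inj h)
    exact Multiplicative.toAdd.injective ((iterateFrobenius F 2 i).injective h1)
  · intro z w h
    exact Multiplicative.toAdd.injective (typeAElt_inj _ (congrArg Subtype.val h)).2
  · intro v
    refine ⟨r (Multiplicative.toAdd v), ?_⟩
    show Multiplicative.ofAdd (Function.invFun ι₂ _) = v
    rw [hr, Function.leftInverse_invFun hι₂.1]; rfl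
  · exact fun v => ⟨⟨_, hmk (Multiplicative.toAdd v) 0⟩, rfl⟩
  · ext x
    have hx : x ∈ πP.ker ↔ x ∈ center P := by
      rw [MonoidHom.mem_ker, ← QuotientGroup.eq_one_iff (N := center P)]
      show Multiplicative.ofAdd (Function.invFun ι₂ _) = 1 ↔ _
      have h0 : ι₂ 0 = 1 := by rw [← hr, (QuotientGroup.eq_one_iff _).2 hr0]
      rw [ofAdd_eq_one]
      constructor
      · intro h
        rw [← Function.invFun_eq (hι₂.2 (x : P ⧸ center P)), h, h0]
      · intro h
        rw [h, ← h0, Function.leftInverse_invFun hι₂.1]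
    rw [hx]
    constructor
    · rintro ⟨z, rfl⟩; exact S.ι_mem _
    · intro hxc
      obtain ⟨z, hz⟩ := Finite.surjective_of_injective (f := fun z : F => z ^ (2 ^ i))
        (iterateFrobenius F 2 i).injective (S.coord x / a)
      refine ⟨Multiplicative.ofAdd z, ?_⟩
      show S.ι (a * (z ^ (2 ^ i))) = x
      rw [show z ^ (2 ^ i) = S.coord x / a from hz, mul_div_cancel₀ _ ha0, S.ι_coord hxc]
  · ext g
    constructor
    · rintro ⟨z, rfl⟩; rfl
    · intro hg
      obtain ⟨x, y, hgxy, hπ⟩ := hshape g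
      rw [MonoidHom.mem_ker.1 hg] at hπ
      refine ⟨Multiplicative.ofAdd y, Subtype.ext ?_⟩
      have hx0 : x = 0 := ofAdd_eq_one.1 hπ.symm
      rw [hgxy, hx0]; rfl
  · rintro _ ⟨z, rfl⟩; exact S.ι_mem _
  · rintro _ ⟨z, rfl⟩
    rw [mem_center_iff]
    intro g
    obtain ⟨x, y, hg, -⟩ := hshape g
    refine Subtype.ext ?_
    show (g : GL (Fin 3) F) * typeAElt _ 0 _ = typeAElt _ 0 _ * (g : GL (Fin 3) F)
    rw [hg, typeAElt_mul, typeAElt_mul]
    simp [add_comm]
  · intro p g hpg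
    obtain ⟨x, y, hgxy, hπ⟩ := hshape g
    rw [hπ] at hpg
    refine ⟨Multiplicative.ofAdd (x ^ (2 ^ t) * x), ?_, Subtype.ext ?_⟩
    · show p ^ 2 = S.ι (a * (x ^ (2 ^ t) * x) ^ (2 ^ i))
      have hx : Function.invFun ι₂ (p : P ⧸ center P) = x := Multiplicative.ofAdd.injective hpg
      have h1 : (p : P ⧸ center P) = (r x : P) := by
        rw [hr, ← hx, Function.invFun_eq (hι₂.2 _)]
      rw [← hqform, show q x = S.sqMap p from (S.sqMap_congr h1).symm, Suz.sqMap, S.ι_coord (S.sq_mem p)]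
    · rw [Subgroup.coe_pow, hgxy, sq, typeAElt_mul]
      show typeAElt _ _ _ = typeAElt _ 0 _
      simp [CharTwo.add_self_eq_zero, hφ]

end CfsgLib.TransInvol
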